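import Cfsg.Agent.Lib.Goldschmidt.General.Corner.Defs

/-!
# The corner from its sections (owner: helper29)

* `Parts`        : the six sections of `CORNER.md`
* `cornerTarget_of` : they give `CornerTarget`
-/

set_option autoImplicit false
set_option linter.unusedSectionVars false

namespace Cfsg.Agent.Goldschmidt.General.Corner

open Cfsg Subgroup

universe u

/-- The sections of the corner. -/
structure Parts : Prop where
  good : GoodTarget.{u}
  maximal : MaximalTarget.{u}
  eight : EightTarget.{u}
  sixteen : SixteenTarget.{u}
  functor : CornerFunctorTarget.{u}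
  module : ModuleTarget.{u}

/-- The corner. -/
theorem cornerTarget_of (P : Parts.{u}) : CornerTarget.{u} := by
  intro hC G _ _ S A H hL
  rcases P.good hC G S A H hL with h | hbad
  · exact h
  obtain ⟨S', T, H', M⟩ := P.maximal G S A H hL hbad
  rcases M.card with h8 | h16
  · exact (P.eight G S' A T H' hL M h8).elim
  obtain ⟨-, hcc⟩ := P.sixteen G S' A T H' hL M h16
  rcases P.functor hC G S' A T H' hL M h16 hcc with h | hD
  · exact h
  · exact P.module hC G S' A T H' hL M h16 hcc hD

end Cfsg.Agent.Goldschmidt.General.Corner
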