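import Cfsg.Agent.Lib.PGroup.Basic

/-!
# Section E of the corner: the group `S / A` (owner: helper4)

* `card_le_four_of_closure_pair` : a group generated by two involutions has no elementary subgroup of order 8
* `Triangle`  : the facts on an automorphism of 3-power order of an elementary group of order at most eight
* `structure_eight` : a 2-group with large classes of involutions meeting all maximal subgroups and an
  automorphism of 3-power order, moving the Frattini quotient, is elementary of order eight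
-/

set_option autoImplicit false
set_option linter.unusedSectionVars false

namespace Cfsg.Agent.Goldschmidt.General.Corner.Eight

open Subgroup
open scoped commutatorElement

universe u

variable {W : Type u} [Group W] [Finite W]

theorem mul_comm_of_sq (h : ∀ v : W, v * v = 1) (a b : W) : a * b = b * a := by
  have h1 : (a * b)⁻¹ = a * b := inv_eq_of_mul_eq_one_right (h _)
  rw [← h1, mul_inv_rev, inv_eq_of_mul_eq_one_right (h a), inv_eq_of_mul_eq_one_right (h b)]

/-- A group generated by two involutions has no elementary subgroup of order eight. -/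
theorem card_le_four_of_closure_pair {v w : W} (hv : v * v = 1) (hw : w * w = 1)
    (hgen : closure ({v, w} : Set W) = ⊤) (E : Subgroup W) (hE : ∀ x ∈ E, x * x = 1) :
    Nat.card E ≤ 4 := by
  classical
  set C : Subgroup W := zpowers (v * w) with hC
  have hflip : ∀ c ∈ C, v * c * v ∈ C := by
    intro c hc
    obtain ⟨k, rfl⟩ := mem_zpowers_iff.1 hc
    have hv' : v⁻¹ = v := inv_eq_of_mul_eq_one_right hv
    have h1 : v * (v * w) ^ k * v = (v * (v * w) * v⁻¹) ^ k := by rw [conj_zpow, hv']
    rw [h1, show v * (v * w) * v⁻¹ = (v * w)⁻¹ by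
      rw [mul_inv_rev, inv_eq_of_mul_eq_one_right hw, hv', ← mul_assoc, hv, one_mul], inv_zpow']
    exact zpow_mem (mem_zpowers _) _
  have hcover : ∀ u : W, u ∈ C ∨ u * v ∈ C := by
    intro u
    have hu : u ∈ closure ({v, w} : Set W) := hgen ▸ mem_top u
    induction hu using closure_induction with
    | mem x hx =>
      rcases hx with rfl | rfl
      · exact Or.inr (by rw [hv]; exact one_mem _)
      · refine Or.inr ?_
        have hv' : v⁻¹ = v := inv_eq_of_mul_eq_one_right hv
        have hx' : x⁻¹ = x := inv_eq_of_mul_eq_one_right hw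
        rw [show x * v = (v * x)⁻¹ by rw [mul_inv_rev, hv', hx']]
        exact inv_mem (mem_zpowers _)
    | one => exact Or.inl (one_mem _)
    | mul a b _ _ ha hb =>
      rcases ha with ha | ha <;> rcases hb with hb | hb
      · exact Or.inl (mul_mem ha hb)
      · exact Or.inr (by rw [mul_assoc]; exact mul_mem ha hb)
      · refine Or.inr ?_
        rw [show a * b * v = a * v * (v * b * v) by
          simp only [mul_assoc]; rw [← mul_assoc v v, hv, one_mul]]
        exact mul_mem ha (hflip _ hb)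
      · refine Or.inl ?_
        rw [show a * b = a * v * (v * (b * v) * v) by
          simp only [mul_assoc]; rw [← mul_assoc v v, hv, one_mul, mul_one]]
        exact mul_mem ha (hflip _ hb)
    | inv a _ ha =>
      rcases ha with ha | ha
      · exact Or.inl (inv_mem ha)
      · refine Or.inr ?_
        have := hflip _ (inv_mem ha)
        rwa [mul_inv_rev, ← mul_assoc v, inv_eq_of_mul_eq_one_right hv, hv, one_mul] at this
  -- `E` meets `C` in at most two elements, with index at most two
  have h2 : Nat.card ↥(E ⊓ C) ≤ 2 := by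
    haveI : IsCyclic ↥C := by rw [hC]; infer_instance
    haveI : IsCyclic ↥((E ⊓ C).subgroupOf C) := inferInstance
    haveI : IsCyclic ↥(E ⊓ C : Subgroup W) :=
      isCyclic_of_surjective _ (subgroupOfEquivOfLe (inf_le_right : E ⊓ C ≤ C)).surjective
    haveI := Fintype.ofFinite ↥(E ⊓ C : Subgroup W)
    have hle := IsCyclic.card_pow_eq_one_le (α := ↥(E ⊓ C : Subgroup W)) two_pos
    rw [Finset.filter_true_of_mem fun x _ => Subtype.ext (by
      rw [SubmonoidClass.coe_pow, pow_two]; exact hE _ x.2.1), Finset.card_univ] at hle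
    rwa [Nat.card_eq_fintype_card]
  have h3 : Nat.card E ≤ 2 * Nat.card ↥(E ⊓ C : Subgroup W) := by
    by_cases hEC : ∀ e ∈ E, e ∈ C
    · rw [inf_eq_left.2 hEC]; omega
    push Not at hEC
    obtain ⟨e₀, he₀, he₀C⟩ := hEC
    have he₀' : e₀ * v ∈ C := (hcover e₀).resolve_left he₀C
    have key : ∀ e ∈ E, e ∉ C → e₀ * e ∈ C := fun e he heC => by
      have h1 := hflip _ ((hcover e).resolve_left heC)
      have h2 : v * (e * v) * v = v * e := by rw [mul_assoc v (e * v), mul_assoc e, hv, mul_one]
      rw [h2] at h1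
      have := mul_mem he₀' h1
      rwa [mul_assoc, ← mul_assoc v v, hv, one_mul] at this
    let φ : ↥E → Bool × ↥(E ⊓ C : Subgroup W) := fun e =>
      if h : (e : W) ∈ C then (true, ⟨e, e.2, h⟩)
      else (false, ⟨e₀ * e, E.mul_mem he₀ e.2, key e e.2 h⟩)
    have hφ : Function.Injective φ := by
      intro a b hab
      by_cases ha : (a : W) ∈ C <;> by_cases hb : (b : W) ∈ C <;> simp [φ, ha, hb] at hab
      · exact Subtype.ext (congrArg Subtype.val hab :)
      · exact Subtype.ext (mul_left_cancel (congrArg Subtype.val hab :))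
    have := Nat.card_le_card_of_injective φ hφ
    rwa [Nat.card_prod, Nat.card_eq_fintype_card (α := Bool), Fintype.card_bool] at this
  omega

/-- The fixed points of an automorphism. -/
def fix (τ : MulAut W) : Subgroup W := τ.toMonoidHom.eqLocus (MonoidHom.id W)

theorem mem_fix {τ : MulAut W} {v : W} : v ∈ fix τ ↔ τ v = v := Iff.rfl

theorem fix_ne_top {τ : MulAut W} (hne : τ ≠ 1) : Nat.card ↥(fix τ) < Nat.card W := by
  refine lt_of_le_of_ne (card_le_card_group _) fun h => hne (MulEquiv.ext fun v => ?_)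
  exact mem_fix.1 ((card_eq_iff_eq_top _).1 h ▸ mem_top v)

theorem card_fix_modEq {τ : MulAut W} (hτ : ∃ k, τ ^ 3 ^ k = 1) :
    Nat.card W ≡ Nat.card ↥(fix τ) [MOD 3] := by
  haveI : Fact (Nat.Prime 3) := ⟨Nat.prime_three⟩
  have hp : IsPGroup 3 ↥(zpowers τ) := by
    obtain ⟨k, hk⟩ := hτ
    obtain ⟨i, -, hi⟩ := (Nat.dvd_prime_pow Nat.prime_three).1 (orderOf_dvd_of_pow_eq_one hk)
    exact IsPGroup.of_card (n := i) (by rw [Nat.card_zpowers, hi])
  have h := hp.card_modEq_card_fixedPoints W
  suffices e : MulAction.fixedPoints ↥(zpowers τ) W = (fix τ : Set W) by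
    rwa [e] at h
  ext v
  rw [MulAction.mem_fixedPoints, SetLike.mem_coe, mem_fix]
  refine ⟨fun hv => hv ⟨τ, mem_zpowers τ⟩, fun hv g => ?_⟩
  obtain ⟨i, hi⟩ := mem_zpowers_iff.1 g.2
  show (g : MulAut W) • v = v
  rw [← hi]
  have : τ ^ i ∈ MulAction.stabilizer (MulAut W) v :=
    zpow_mem (show τ ∈ MulAction.stabilizer (MulAut W) v from hv) i
  exact this

theorem orbit_three {τ : MulAut W} (hτ : ∃ k, τ ^ 3 ^ k = 1) (h9 : Nat.card W < 9) : τ ^ 3 = 1 := by
  classical
  haveI : Fact (Nat.Prime 3) := ⟨Nat.prime_three⟩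
  have hp : IsPGroup 3 ↥(zpowers τ) := by
    obtain ⟨k, hk⟩ := hτ
    obtain ⟨i, -, hi⟩ := (Nat.dvd_prime_pow Nat.prime_three).1 (orderOf_dvd_of_pow_eq_one hk)
    exact IsPGroup.of_card (n := i) (by rw [Nat.card_zpowers, hi])
  refine MulEquiv.ext fun v => ?_
  obtain ⟨n, hn⟩ := hp.card_orbit (α := W) v
  have hle : Nat.card ↥(MulAction.orbit ↥(zpowers τ) v) ≤ Nat.card W :=
    Nat.card_le_card_of_injective _ Subtype.val_injective
  have hidx : (MulAction.stabilizer ↥(zpowers τ) v).index = 3 ^ n := by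
    rw [MulAction.index_stabilizer, ← Nat.card_coe_set_eq, hn]
  have hn1 : n ≤ 1 := by
    by_contra hc
    have : 3 ^ 2 ≤ 3 ^ n := Nat.pow_le_pow_right (by norm_num) (by omega)
    omega
  haveI : (MulAction.stabilizer ↥(zpowers τ) v).Normal := Subgroup.normal_of_comm _
  have hmem := Subgroup.pow_index_mem (MulAction.stabilizer ↥(zpowers τ) v) ⟨τ, mem_zpowers τ⟩
  rw [hidx] at hmem
  have h3 : (⟨τ, mem_zpowers τ⟩ : ↥(zpowers τ)) ^ 3 ∈ MulAction.stabilizer ↥(zpowers τ) v := by
    rcases Nat.le_one_iff_eq_zero_or_eq_one.1 hn1 with rfl | rfl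
    · exact pow_mem (by simpa using hmem) 3
    · simpa using hmem
  exact h3

/-- An automorphism of 3-power order of an elementary group of order four or eight. -/
theorem two_or_one {τ : MulAut W} (hτ : ∃ k, τ ^ 3 ^ k = 1) (hne : τ ≠ 1) :
    (Nat.card W = 4 → Nat.card ↥(fix τ) = 1) ∧ (Nat.card W = 8 → Nat.card ↥(fix τ) = 2) ∧
      Nat.card W ≠ 1 ∧ Nat.card W ≠ 2 := by
  have h1 := card_fix_modEq hτ
  have h2 := fix_ne_top hne
  have h3 := card_subgroup_dvd_card (fix τ)
  have h4 : 0 < Nat.card ↥(fix τ) := Nat.card_pos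
  refine ⟨fun h => ?_, fun h => ?_, fun h => ?_, fun h => ?_⟩ <;>
    rw [h] at h1 h2 h3 <;> unfold Nat.ModEq at h1 <;>
    interval_cases (Nat.card ↥(fix τ)) <;> omega

/-- The number of conjugates times the order of the centraliser. -/
theorem card_class_mul (a : W) :
    Nat.card {w : W // ∃ u, u * a * u⁻¹ = w} * Nat.card ↥(centralizer ({a} : Set W)) = Nat.card W := by
  have e : Nat.card (W ⧸ centralizer ({a} : Set W)) = Nat.card {w : W // ∃ u, u * a * u⁻¹ = w} := by
    refine Nat.card_congr (Equiv.ofBijective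
      (Quotient.lift (fun u => (⟨u * a * u⁻¹, u, rfl⟩ : {w : W // ∃ u, u * a * u⁻¹ = w}))
        (fun u u' h => ?_)) ⟨?_, ?_⟩)
    · have h' := mem_centralizer_singleton_iff.1 (QuotientGroup.leftRel_apply.1 h)
      refine Subtype.ext ?_
      show u * a * u⁻¹ = u' * a * u'⁻¹
      calc u * a * u⁻¹ = u * (a * (u⁻¹ * u')) * u'⁻¹ := by group
        _ = u * ((u⁻¹ * u') * a) * u'⁻¹ := by rw [h']
        _ = u' * a * u'⁻¹ := by group
    · rintro ⟨u⟩ ⟨u'⟩ h
      have h' : u * a * u⁻¹ = u' * a * u'⁻¹ := congrArg Subtype.val h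
      refine Quotient.sound (QuotientGroup.leftRel_apply.2 (mem_centralizer_singleton_iff.2 ?_))
      calc u⁻¹ * u' * a = u⁻¹ * (u' * a * u'⁻¹) * u' := by group
        _ = u⁻¹ * (u * a * u⁻¹) * u' := by rw [h']
        _ = a * (u⁻¹ * u') := by group
    · rintro ⟨w, u, rfl⟩
      exact ⟨Quotient.mk'' u, rfl⟩
  rw [← e, mul_comm, ← Subgroup.index_eq_card, card_mul_index]

/-- A subgroup equal to its commutator with the whole nilpotent group is trivial. -/
theorem eq_bot_of_commutator_eq (hW : Group.IsNilpotent W) {H : Subgroup W}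
    (h : H ≤ ⁅H, (⊤ : Subgroup W)⁆) : H = ⊥ := by
  obtain ⟨n, hn⟩ := Subgroup.nilpotent_iff_lowerCentralSeries.1 hW
  have : ∀ m, H ≤ (⊤ : Subgroup W).lowerCentralSeries m := fun m => by
    induction m with
    | zero => exact le_top
    | succ m ih => exact h.trans (commutator_mono ih le_rfl)
  exact le_bot_iff.1 (hn ▸ this n)

/-- Normal subgroups containing all squares contain the Frattini subgroup. -/
theorem frattini_le_of_sq {N : Subgroup W} [N.Normal] (hsq : ∀ x : W, x * x ∈ N) : frattini W ≤ N := by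
  haveI : Fact (Nat.Prime 2) := ⟨Nat.prime_two⟩
  refine PGroup.frattini_le_of_quotient_elementary (p := 2)
    (Subgroup.Normal.quotient_commutative_iff_commutator_le.1 ⟨⟨fun a b => mul_comm_of_sq ?_ a b⟩⟩) ?_
  · intro v
    obtain ⟨x, rfl⟩ := QuotientGroup.mk'_surjective N v
    rw [← map_mul]
    exact (QuotientGroup.eq_one_iff _).2 (hsq x)
  · intro x; rw [pow_two]; exact hsq x

/-- The data on `S / A`. -/
structure Hyp (W : Type u) [Group W] [Finite W] (σ : MulAut W) (I : Set W) : Prop where
  two : IsPGroup 2 W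
  three : ∃ k, σ ^ 3 ^ k = 1
  moves : ∃ w : W, w⁻¹ * σ w ∉ frattini W
  invol : ∀ v ∈ I, v * v = 1
  nonempty : I.Nonempty
  ne_one : ∀ v ∈ I, v ≠ 1
  stable : ∀ v ∈ I, σ v ∈ I
  conj : ∀ v ∈ I, ∀ u : W, u * v * u⁻¹ ∈ I
  big : ∀ v ∈ I, Nat.card W ≤ 8 * Nat.card {w : W // ∃ u, u * v * u⁻¹ = w}
  meets : ∀ M : Subgroup W, M.index = 2 → ∃ v ∈ I, v ∈ M
  elem : ∃ E : Subgroup W, Nat.card ↥E = 8 ∧ ∀ x ∈ E, x * x = 1

variable {σ : MulAut W} {I : Set W}

theorem sigma_frattini (σ : MulAut W) : (frattini W).map σ.toMonoidHom = frattini W :=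
  Subgroup.characteristic_iff_map_eq.1 inferInstance σ

/-- The automorphism of the Frattini quotient. -/
noncomputable def bar (σ : MulAut W) : MulAut (W ⧸ frattini W) :=
  QuotientGroup.congr (frattini W) (frattini W) σ (sigma_frattini σ)

theorem bar_mk (σ : MulAut W) (w : W) :
    bar σ (QuotientGroup.mk' (frattini W) w) = QuotientGroup.mk' (frattini W) (σ w) := rfl

theorem bar_pow (σ : MulAut W) : ∀ n : ℕ, bar σ ^ n = bar (σ ^ n)
  | 0 => MulEquiv.ext fun q => by
      obtain ⟨w, rfl⟩ := QuotientGroup.mk'_surjective _ q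
      rfl
  | n + 1 => by
      rw [pow_succ, bar_pow σ n]
      refine MulEquiv.ext fun q => ?_
      obtain ⟨w, rfl⟩ := QuotientGroup.mk'_surjective _ q
      rw [pow_succ σ]
      rfl

namespace Hyp

variable (h : Hyp W σ I)
include h

theorem quot_sq (q : W ⧸ frattini W) : q * q = 1 := by
  haveI : Fact (Nat.Prime 2) := ⟨Nat.prime_two⟩
  obtain ⟨w, rfl⟩ := QuotientGroup.mk'_surjective _ q
  rw [← map_mul]
  exact (QuotientGroup.eq_one_iff _).2 (pow_two w ▸ PGroup.pow_mem_frattini h.two w)

theorem bar_ne_one : bar σ ≠ 1 := fun e => by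
  obtain ⟨w, hw⟩ := h.moves
  refine hw (QuotientGroup.eq.1 ?_)
  have h1 := congrArg (fun f => f (QuotientGroup.mk' (frattini W) w)) e
  exact h1.symm

theorem bar_three : ∃ k, bar σ ^ 3 ^ k = 1 := by
  obtain ⟨k, hk⟩ := h.three
  refine ⟨k, ?_⟩
  rw [bar_pow, hk]
  exact bar_pow σ 0 ▸ pow_zero (bar σ)

theorem card_eq : Nat.card W = Nat.card (W ⧸ frattini W) * Nat.card ↥(frattini W) :=
  card_eq_card_quotient_mul_card_subgroup _

theorem four_le : 4 ≤ Nat.card (W ⧸ frattini W) := by
  haveI : Fact (Nat.Prime 2) := ⟨Nat.prime_two⟩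
  obtain ⟨-, -, h1, h2⟩ := two_or_one h.bar_three h.bar_ne_one
  obtain ⟨n, hn⟩ := IsPGroup.iff_card.1 (h.two.to_quotient (frattini W))
  rw [hn] at h1 h2 ⊢
  rcases n with _ | _ | n
  · simp at h1
  · simp at h2
  · calc 4 = 2 ^ 2 := rfl
      _ ≤ 2 ^ (n + 2) := Nat.pow_le_pow_right two_pos (by omega)

/-- The class of `v` lies in its coset modulo the Frattini subgroup. -/
theorem class_le {v : W} :
    Nat.card {w : W // ∃ u, u * v * u⁻¹ = w} ≤ Nat.card ↥(frattini W) := by
  haveI : Fact (Nat.Prime 2) := ⟨Nat.prime_two⟩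
  refine Nat.card_le_card_of_injective (fun w => ⟨v⁻¹ * w.1, ?_⟩)
    fun a b hab => Subtype.ext (mul_left_cancel (congrArg Subtype.val hab))
  obtain ⟨w, u, rfl⟩ := w
  have := PGroup.commutatorElement_mem_frattini h.two v⁻¹ u
  rwa [commutatorElement_def, inv_inv, show v⁻¹ * u * v * u⁻¹ = v⁻¹ * (u * v * u⁻¹) by group] at this

/-- The class of a member of the Frattini subgroup is smaller. -/
theorem class_le_of_mem {v : W} (hv : v ∈ frattini W) :
    Nat.card {w : W // ∃ u, u * v * u⁻¹ = w} ≤ Nat.card ↥⁅frattini W, (⊤ : Subgroup W)⁆ := by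
  refine Nat.card_le_card_of_injective (fun w => ⟨v⁻¹ * w.1, ?_⟩)
    fun a b hab => Subtype.ext (mul_left_cancel (congrArg Subtype.val hab))
  obtain ⟨w, u, rfl⟩ := w
  have := commutator_mem_commutator (inv_mem hv) (mem_top u)
  rwa [commutatorElement_def, inv_inv, show v⁻¹ * u * v * u⁻¹ = v⁻¹ * (u * v * u⁻¹) by group] at this

theorem two_mul_commutator_le {v : W} (hv : v ∈ frattini W) (hv1 : v ≠ 1) :
    2 * Nat.card ↥⁅frattini W, (⊤ : Subgroup W)⁆ ≤ Nat.card ↥(frattini W) := by
  haveI : Fact (Nat.Prime 2) := ⟨Nat.prime_two⟩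
  set K := ⁅frattini W, (⊤ : Subgroup W)⁆
  have hle : K ≤ frattini W := commutator_le_left _ _
  have hne : K ≠ frattini W := fun e => hv1 (by
    have := eq_bot_of_commutator_eq h.two.isNilpotent (H := frattini W) e.ge
    rwa [this, mem_bot] at hv)
  have h1 : K.relIndex (frattini W) ≠ 1 := fun e => hne (le_antisymm hle (relIndex_eq_one.1 e))
  have h2 : K.relIndex (frattini W) ≠ 0 := Subgroup.index_ne_zero_of_finite
  have h3 := card_mul_index (K.subgroupOf (frattini W))
  rw [Nat.card_congr (subgroupOfEquivOfLe hle).toEquiv] at h3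
  calc 2 * Nat.card ↥K ≤ (K.subgroupOf (frattini W)).index * Nat.card ↥K :=
        Nat.mul_le_mul_right _ (show 2 ≤ K.relIndex (frattini W) by omega)
    _ = _ := by rw [mul_comm]; exact h3

/-- The Frattini subgroup contains no member. -/
theorem not_mem_frattini {v : W} (hv : v ∈ I) : v ∉ frattini W := by
  intro hvΦ
  haveI : Fact (Nat.Prime 2) := ⟨Nat.prime_two⟩
  set K := ⁅frattini W, (⊤ : Subgroup W)⁆ with hK
  haveI : K.Normal := commutator_normal _ _
  have hle : K ≤ frattini W := commutator_le_left _ _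
  have h1 := h.big v hv
  have h2 : _ ≤ Nat.card ↥K := h.class_le_of_mem hvΦ
  have h3 : 2 * Nat.card ↥K ≤ _ := h.two_mul_commutator_le hvΦ (h.ne_one v hv)
  have hd := h.four_le
  have hd4 : Nat.card (W ⧸ frattini W) * Nat.card ↥(frattini W) ≤ 4 * Nat.card ↥(frattini W) := by
    rw [← h.card_eq]; omega
  have hpos : 0 < Nat.card ↥(frattini W) := Nat.card_pos
  have hV : Nat.card (W ⧸ frattini W) = 4 :=
    le_antisymm (Nat.le_of_mul_le_mul_right hd4 hpos) hd
  have hcardW : Nat.card W = 4 * Nat.card ↥(frattini W) := by rw [h.card_eq, hV]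
  have heq : Nat.card ↥(frattini W) = 2 * Nat.card ↥K := by omega
  have hrel : K.relIndex (frattini W) = 2 := by
    have h4 := card_mul_index (K.subgroupOf (frattini W))
    rw [Nat.card_congr (subgroupOfEquivOfLe hle).toEquiv, heq, mul_comm 2] at h4
    exact Nat.eq_of_mul_eq_mul_left Nat.card_pos h4
  have hsqK : ∀ φ ∈ frattini W, φ * φ ∈ K := fun φ hφ => by
    have h5 := mul_self_mem_of_index_two (H := K.subgroupOf (frattini W)) hrel ⟨φ, hφ⟩
    exact h5
  -- squares of elements outside the Frattini subgroup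
  have hcoset : ∀ a : W, ∀ φ ∈ frattini W, (a * a ∈ K ↔ (a * φ) * (a * φ) ∈ K) := by
    intro a φ hφ
    have h5 : a * φ * (a * φ) = (a * a) * ((a⁻¹ * φ * a * φ⁻¹) * (φ * φ)) := by group
    have h6 : (a⁻¹ * φ * a * φ⁻¹) * (φ * φ) ∈ K := by
      refine mul_mem ?_ (hsqK φ hφ)
      have h7 := inv_mem (commutator_mem_commutator hφ (mem_top a⁻¹))
      rw [commutatorElement_def, ← hK] at h7
      simpa [mul_assoc] using h7
    rw [h5]
    exact (mul_mem_cancel_right h6).symm
  have hσK : ∀ x, x ∈ K → σ x ∈ K := by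
    intro x hx
    have h7 : K.map σ.toMonoidHom = K := by
      rw [hK, map_commutator, sigma_frattini, map_top_of_surjective _ σ.surjective]
    exact h7 ▸ mem_map_of_mem σ.toMonoidHom hx
  have hout : ∀ a : W, a ∉ frattini W → a * a ∉ K := by
    intro a ha haK
    set q := QuotientGroup.mk' (frattini W) a with hq
    have hq1 : q ≠ 1 := fun e => ha ((QuotientGroup.eq_one_iff a).1 e)
    have hfix : fix (bar σ) = ⊥ := card_eq_one.1 ((two_or_one h.bar_three h.bar_ne_one).1 hV)
    have hmov : bar σ q ≠ q := fun e => hq1 (by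
      have : q ∈ fix (bar σ) := mem_fix.2 e
      rwa [hfix, mem_bot] at this)
    have hs : ∀ x : W, ∀ r, QuotientGroup.mk' (frattini W) x = r → x * x ∈ K →
        ∀ y, QuotientGroup.mk' (frattini W) y = r → y * y ∈ K := by
      intro x r hx hxK y hy
      have h7 : x⁻¹ * y ∈ frattini W := QuotientGroup.eq.1 (hx.trans hy.symm)
      simpa using (hcoset x _ h7).1 hxK
    have hall : ∀ w : W, w * w ∈ K := by
      intro w
      set r := QuotientGroup.mk' (frattini W) w with hr
      have hcases : r = 1 ∨ r = q ∨ r = bar σ q ∨ r = bar σ (bar σ q) := by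
        by_contra hc
        push Not at hc
        obtain ⟨c1, c2, c3, c4⟩ := hc
        have hi : ∀ x, bar σ x = 1 → x = 1 := fun x hx => (bar σ).injective (hx.trans (map_one _).symm)
        have d1 : bar σ q ≠ 1 := fun e => hq1 (hi _ e)
        have d2 : bar σ (bar σ q) ≠ 1 := fun e => d1 (hi _ e)
        have d3 : bar σ (bar σ q) ≠ bar σ q := fun e => hmov ((bar σ).injective e)
        have d4 : bar σ (bar σ q) ≠ q := fun e => by
          have h9 := congrArg (fun f => f q) (orbit_three h.bar_three (by omega : Nat.card _ < 9))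
          rw [pow_succ, pow_two, MulAut.mul_apply, MulAut.mul_apply, e, MulAut.one_apply] at h9
          exact hmov h9
        let f : Fin 5 → W ⧸ frattini W := ![1, r, q, bar σ q, bar σ (bar σ q)]
        have hf : Function.Injective f := by
          intro i j hij
          fin_cases i <;> fin_cases j <;>
            first
              | rfl
              | (exfalso; simp only [f] at hij; simp at hij;
                 first
                   | exact c1 hij | exact c1 hij.symm | exact hq1 hij | exact hq1 hij.symm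
                   | exact d1 hij | exact d1 hij.symm | exact d2 hij | exact d2 hij.symm
                   | exact c2 hij | exact c2 hij.symm | exact c3 hij | exact c3 hij.symm
                   | exact c4 hij | exact c4 hij.symm | exact hmov hij | exact hmov hij.symm
                   | exact d3 hij | exact d3 hij.symm | exact d4 hij | exact d4 hij.symm)
        have := Nat.card_le_card_of_injective f hf
        simp [hV] at this
      rcases hcases with e | e | e | e
      · exact hsqK w ((QuotientGroup.eq_one_iff w).1 e)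
      · exact hs a q rfl haK w e
      · exact hs (σ a) (bar σ q) rfl (by rw [← map_mul]; exact hσK _ haK) w e
      · exact hs (σ (σ a)) (bar σ (bar σ q)) rfl
          (by rw [← map_mul, ← map_mul]; exact hσK _ (hσK _ haK)) w e
    have hΦ := card_le_of_le (frattini_le_of_sq hall)
    have : 0 < Nat.card ↥K := Nat.card_pos
    omega
  -- so `K` is central in the next step
  set K' := ⁅K, (⊤ : Subgroup W)⁆ with hK'
  haveI : K'.Normal := commutator_normal _ _
  set f := QuotientGroup.mk' K'
  have hfK : ∀ k ∈ K, ∀ u : W, Commute (f k) (f u) := fun k hk u => by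
    rw [← commutatorElement_eq_one_iff_commute, ← map_commutatorElement]
    exact (QuotientGroup.eq_one_iff _).2 (commutator_mem_commutator hk (mem_top u))
  have hcomm : ∀ φ ∈ frattini W, ∀ a : W, a ∉ frattini W → Commute (f φ) (f a) := by
    intro φ hφ a ha
    have haa : a * a ∈ frattini W := pow_two a ▸ PGroup.pow_mem_frattini h.two a
    by_cases hφK : φ ∈ K
    · exact hfK φ hφK a
    have h5 : φ * (a * a) ∈ K := by
      have h6 := (mul_mem_iff_of_index_two (H := K.subgroupOf (frattini W)) hrel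
        (a := ⟨φ, hφ⟩) (b := ⟨a * a, haa⟩)).2
        (iff_of_false (fun e => hφK e) (fun e => hout a ha e))
      exact h6
    have h7 : f φ = f (φ * (a * a)) * (f (a * a))⁻¹ := by rw [← map_inv, ← map_mul, mul_inv_cancel_right]
    rw [h7]
    refine (hfK _ h5 a).mul_left (Commute.inv_left ?_)
    rw [map_mul]
    exact (Commute.refl (f a)).mul_left (Commute.refl (f a))
  obtain ⟨a₀, ha₀⟩ : ∃ a : W, a ∉ frattini W := by
    by_contra hc
    push Not at hc
    have := h.moves
    obtain ⟨w, hw⟩ := this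
    exact hw (hc _)
  have hKK : K ≤ K' := by
    rw [hK, commutator_le]
    intro φ hφ u _
    refine (QuotientGroup.eq_one_iff _).1 ?_
    show f ⁅φ, u⁆ = 1
    rw [map_commutatorElement, commutatorElement_eq_one_iff_commute]
    by_cases hu : u ∈ frattini W
    · have h8 : u * a₀ ∉ frattini W := fun e => ha₀ (by simpa using mul_mem (inv_mem hu) e)
      have h9 : f u = f (u * a₀) * (f a₀)⁻¹ := by rw [← map_inv, ← map_mul, mul_inv_cancel_right]
      rw [h9]
      exact (hcomm φ hφ _ h8).mul_right ((hcomm φ hφ _ ha₀).inv_right)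
    · exact hcomm φ hφ u hu
  have hKbot : K = ⊥ := eq_bot_of_commutator_eq h.two.isNilpotent hKK
  rw [hKbot, card_bot] at heq
  obtain ⟨E, hE8, hEsq⟩ := h.elem
  have hEtop : E = ⊤ := eq_top_of_card_eq E (by omega)
  have := card_le_of_le (frattini_le_of_sq (N := (⊥ : Subgroup W))
    fun x => mem_bot.2 (hEsq x (hEtop ▸ mem_top x)))
  rw [card_bot] at this
  omega

theorem class_eq {v : W} (hv : v ∈ I) (hV : Nat.card (W ⧸ frattini W) = 8) :
    Nat.card {w : W // ∃ u, u * v * u⁻¹ = w} = Nat.card ↥(frattini W) := by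
  have h1 := h.big v hv
  have h2 := h.class_le (v := v)
  have h3 := h.card_eq
  rw [hV] at h3
  omega

/-- A coset of a member consists of members. -/
theorem coset_mem {v : W} (hv : v ∈ I) (hV : Nat.card (W ⧸ frattini W) = 8) {φ : W}
    (hφ : φ ∈ frattini W) : ∃ u, u * v * u⁻¹ = v * φ := by
  haveI : Fact (Nat.Prime 2) := ⟨Nat.prime_two⟩
  let F : {w : W // ∃ u, u * v * u⁻¹ = w} → ↥(frattini W) := fun w => ⟨v⁻¹ * w.1, by
    obtain ⟨w, u, rfl⟩ := w
    have := PGroup.commutatorElement_mem_frattini h.two v⁻¹ u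
    rwa [commutatorElement_def, inv_inv, show v⁻¹ * u * v * u⁻¹ = v⁻¹ * (u * v * u⁻¹) by group] at this⟩
  have hF : Function.Injective F := fun a b hab =>
    Subtype.ext (mul_left_cancel (congrArg Subtype.val hab))
  have hsurj : Function.Surjective F :=
    ((Nat.bijective_iff_injective_and_card F).2 ⟨hF, h.class_eq hv hV⟩).2
  obtain ⟨⟨w, u, hu⟩, hw⟩ := hsurj ⟨φ, hφ⟩
  have hw' : v⁻¹ * w = φ := congrArg Subtype.val hw
  exact ⟨u, by rw [hu, ← hw', mul_inv_cancel_left]⟩

/-- `S / A` is elementary of order eight. -/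
theorem structure_eight : Nat.card W = 8 ∧ ∀ w : W, w * w = 1 := by
  haveI : Fact (Nat.Prime 2) := ⟨Nat.prime_two⟩
  set Φ := frattini W with hΦ
  set π := QuotientGroup.mk' Φ
  obtain ⟨v, hv⟩ := h.nonempty
  have hvΦ := h.not_mem_frattini hv
  have hd := h.four_le
  have hd8 : Nat.card (W ⧸ Φ) ≤ 8 := by
    have h1 := h.big v hv
    have h2 := h.class_le (v := v)
    rw [h.card_eq] at h1
    exact Nat.le_of_mul_le_mul_right (h1.trans (Nat.mul_le_mul_left 8 h2)) Nat.card_pos
  obtain ⟨n, hn⟩ := IsPGroup.iff_card.1 (h.two.to_quotient Φ)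
  have hn' : Nat.card (W ⧸ Φ) = 4 ∨ Nat.card (W ⧸ Φ) = 8 := by
    rw [hn] at hd hd8 ⊢
    have : n ≤ 3 := by
      by_contra hc
      have : 2 ^ 4 ≤ 2 ^ n := Nat.pow_le_pow_right two_pos (by omega)
      omega
    interval_cases n <;> simp at hd ⊢
  have hfixcard := two_or_one h.bar_three h.bar_ne_one
  rcases hn' with hV | hV
  · -- four classes: a dihedral group
    exfalso
    have hfix : fix (bar σ) = ⊥ := card_eq_one.1 (hfixcard.1 hV)
    have hv1 : π v ≠ 1 := fun e => hvΦ ((QuotientGroup.eq_one_iff v).1 e)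
    have hσv : π (σ v) ≠ π v := fun e => hv1 (by
      have : π v ∈ fix (bar σ) := mem_fix.2 e
      rwa [hfix, mem_bot] at this)
    have hσ1 : π (σ v) ≠ 1 := fun e =>
      hv1 ((bar σ).injective ((show bar σ (π v) = 1 from e).trans (map_one _).symm))
    have hgen : closure ({v, σ v} : Set W) = ⊤ := by
      apply PGroup.eq_top_of_sup_frattini
      set H := closure ({v, σ v} : Set W) ⊔ Φ with hH
      have hmap : H.map π = ⊤ := by
        by_contra hne
        have hdvd := card_subgroup_dvd_card (H.map π)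
        have hlt : Nat.card ↥(H.map π) < 4 := by
          have h9 := card_le_card_group (H.map π)
          have h10 : Nat.card ↥(H.map π) ≠ Nat.card (W ⧸ Φ) := fun e => hne (eq_top_of_card_eq _ e)
          omega
        let f : Fin 3 → ↥(H.map π) := ![1,
          ⟨π v, mem_map_of_mem π (mem_sup_left (subset_closure (Set.mem_insert _ _)))⟩,
          ⟨π (σ v), mem_map_of_mem π
            (mem_sup_left (subset_closure (Set.mem_insert_of_mem _ rfl)))⟩]
        have hf : Function.Injective f := by
          intro i j hij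
          fin_cases i <;> fin_cases j <;>
            first
              | rfl
              | (exfalso; simp [f, Subtype.ext_iff] at hij;
                 first | exact hv1 hij | exact hv1 hij.symm | exact hσ1 hij | exact hσ1 hij.symm
                       | exact hσv hij | exact hσv hij.symm)
        have h11 := Nat.card_le_card_of_injective f hf
        rw [Nat.card_eq_fintype_card, Fintype.card_fin] at h11
        rw [hV] at hdvd
        have : Nat.card ↥(H.map π) = 3 := by omega
        rw [this] at hdvd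
        omega
      rw [← comap_map_eq_self (f := π) (H := H) (by rw [QuotientGroup.ker_mk']; exact le_sup_right),
        hmap, comap_top]
    obtain ⟨E, hE8, hEsq⟩ := h.elem
    have := card_le_four_of_closure_pair (h.invol v hv) (h.invol _ (h.stable v hv)) hgen E hEsq
    omega
  · -- eight classes: pairwise commuting members
    have hfix2 := hfixcard.2.1 hV
    have h3 := orbit_three h.bar_three (by omega : Nat.card (W ⧸ Φ) < 9)
    have hcom := mul_comm_of_sq h.quot_sq
    let N : (W ⧸ Φ) →* (W ⧸ Φ) :=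
      MonoidHom.mk' (fun q => q * bar σ q * bar σ (bar σ q)) (fun a b => by
        have m4 : ∀ p q r s : W ⧸ Φ, p * q * (r * s) = p * r * (q * s) := fun p q r s => by
          rw [mul_assoc, ← mul_assoc q, hcom q r, mul_assoc, ← mul_assoc]
        rw [map_mul, map_mul, m4 a b, m4 (a * _) (b * _)])
    have hN3 : ∀ q, bar σ (bar σ (bar σ q)) = q := fun q => by
      have := congrArg (fun f => f q) h3
      rwa [pow_succ, pow_two, MulAut.mul_apply, MulAut.mul_apply, MulAut.one_apply] at this
    have hrange : N.range = fix (bar σ) := by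
      refine le_antisymm ?_ fun q hq => ⟨q, ?_⟩
      · rintro _ ⟨q, rfl⟩
        rw [mem_fix]
        show bar σ (q * bar σ q * bar σ (bar σ q)) = q * bar σ q * bar σ (bar σ q)
        rw [map_mul, map_mul, hN3, hcom _ q, ← mul_assoc]
      · show q * bar σ q * bar σ (bar σ q) = q
        rw [mem_fix.1 hq, mem_fix.1 hq, h.quot_sq, one_mul]
    have hker : N.ker.index = 2 := by rw [index_ker, hrange, hfix2]
    obtain ⟨v₁, hv₁, hv₁N⟩ := h.meets (N.ker.comap π)
      (by rw [index_comap_of_surjective _ (QuotientGroup.mk'_surjective Φ)]; exact hker)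
    set v₂ := σ v₁ with hv₂def
    have hv₂ : v₂ ∈ I := h.stable _ hv₁
    have hw : σ v₂ ∈ I := h.stable _ hv₂
    have hN : π v₁ * π v₂ * π (σ v₂) = 1 := hv₁N
    have hπv₁ : π v₁ ≠ 1 := fun e => h.not_mem_frattini hv₁ ((QuotientGroup.eq_one_iff v₁).1 e)
    have hπv₂ : π v₂ ≠ 1 := fun e => h.not_mem_frattini hv₂ ((QuotientGroup.eq_one_iff v₂).1 e)
    have hne12 : π v₁ ≠ π v₂ := by
      intro e
      have e2 : π (σ v₂) = π v₂ := (congrArg (bar σ) e).symm
      rw [e2, e, h.quot_sq, one_mul] at hN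
      exact hπv₂ hN
    -- products
    have hin : ∀ φ ∈ Φ, v₁ * v₂ * φ ∈ I := by
      intro φ hφ
      have h5 : (σ v₂)⁻¹ * (v₁ * v₂ * φ) ∈ Φ := by
        refine (QuotientGroup.eq_one_iff _).1 ?_
        show π ((σ v₂)⁻¹ * (v₁ * v₂ * φ)) = 1
        rw [map_mul, map_inv, inv_mul_eq_one, map_mul, map_mul,
          show π φ = 1 from (QuotientGroup.eq_one_iff φ).2 hφ, mul_one,
          eq_inv_of_mul_eq_one_left hN, inv_eq_of_mul_eq_one_right (h.quot_sq _)]
      obtain ⟨u, hu⟩ := h.coset_mem hw hV h5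
      rw [mul_inv_cancel_left] at hu
      exact hu ▸ h.conj _ hw u
    have hcoset : ∀ φ ∈ Φ, v₂ * φ ∈ I := fun φ hφ => by
      obtain ⟨u, hu⟩ := h.coset_mem hv₂ hV hφ
      exact hu ▸ h.conj _ hv₂ u
    have hcoset₁ : ∀ φ ∈ Φ, v₁ * φ ∈ I := fun φ hφ => by
      obtain ⟨u, hu⟩ := h.coset_mem hv₁ hV hφ
      exact hu ▸ h.conj _ hv₁ u
    have pair : ∀ a b : W, a * a = 1 → b * b = 1 → (a * b) * (a * b) = 1 → Commute a b := by
      intro a b ha hb hab
      have h6 := inv_eq_of_mul_eq_one_right hab
      rw [mul_inv_rev, inv_eq_of_mul_eq_one_right ha, inv_eq_of_mul_eq_one_right hb] at h6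
      exact h6.symm
    have hc12 : ∀ φ ∈ Φ, Commute v₁ (v₂ * φ) := fun φ hφ =>
      pair _ _ (h.invol _ hv₁) (h.invol _ (hcoset φ hφ))
        (by rw [← mul_assoc v₁ v₂ φ]; exact h.invol _ (hin φ hφ))
    have hc : Commute v₁ v₂ := by simpa using hc12 1 (one_mem _)
    have hc1Φ : ∀ φ ∈ Φ, Commute v₁ φ := fun φ hφ => by
      have := hc.inv_right.mul_right (hc12 φ hφ)
      simpa using this
    have hc2Φ : ∀ φ ∈ Φ, Commute v₂ φ := fun φ hφ => by
      have h7 : Commute v₂ (v₁ * φ) :=
        pair _ _ (h.invol _ hv₂) (h.invol _ (hcoset₁ φ hφ))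
          (by rw [← mul_assoc v₂ v₁ φ, ← hc.eq]; exact h.invol _ (hin φ hφ))
      simpa using hc.symm.inv_right.mul_right h7
    -- eight elements centralising `v₁` and `v₂`
    set Y := centralizer ({v₁} : Set W) ⊓ centralizer ({v₂} : Set W) with hY
    have hY1 : v₁ ∈ Y := mem_inf.2 ⟨mem_centralizer_singleton_iff.2 rfl,
      mem_centralizer_singleton_iff.2 hc.eq⟩
    have hY2 : v₂ ∈ Y := mem_inf.2 ⟨mem_centralizer_singleton_iff.2 hc.eq.symm,
      mem_centralizer_singleton_iff.2 rfl⟩
    have hYΦ : ∀ φ ∈ Φ, φ ∈ Y := fun φ hφ => mem_inf.2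
      ⟨mem_centralizer_singleton_iff.2 (hc1Φ φ hφ).eq.symm,
        mem_centralizer_singleton_iff.2 (hc2Φ φ hφ).eq.symm⟩
    let e : Bool × Bool → W := fun b => (if b.1 then v₁ else 1) * (if b.2 then v₂ else 1)
    have heY : ∀ b, e b ∈ Y := fun b => by
      rcases b with ⟨(_ | _), (_ | _)⟩ <;>
        simp only [e, Bool.false_eq_true, ↓reduceIte, one_mul, mul_one]
      · exact one_mem _
      · exact hY2
      · exact hY1
      · exact mul_mem hY1 hY2
    have hinj : Function.Injective fun x : (Bool × Bool) × ↥Φ =>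
        (⟨e x.1 * x.2, mul_mem (heY x.1) (hYΦ _ x.2.2)⟩ : ↥Y) := by
      rintro ⟨b, φ⟩ ⟨b', φ'⟩ hbb
      have hW : e b * φ = e b' * φ' := congrArg Subtype.val hbb
      have hπ := congrArg π hW
      rw [map_mul π (e b), map_mul π (e b'), show π (φ : W) = 1 from (QuotientGroup.eq_one_iff _).2 φ.2,
        show π (φ' : W) = 1 from (QuotientGroup.eq_one_iff _).2 φ'.2, mul_one, mul_one] at hπ
      have hb : b = b' := by
        rcases b with ⟨(_ | _), (_ | _)⟩ <;> rcases b' with ⟨(_ | _), (_ | _)⟩ <;>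
          first
            | rfl
            | (exfalso; simp [e, map_mul] at hπ;
               first | exact hπv₁ hπ | exact hπv₁ hπ.symm | exact hπv₂ hπ | exact hπv₂ hπ.symm
                     | exact hne12 hπ | exact hne12 hπ.symm)
            | (exfalso; simp [e, map_mul] at hπ;
               exact hne12 (by
                 first
                   | exact (eq_inv_of_mul_eq_one_left hπ).trans
                       (inv_eq_of_mul_eq_one_right (h.quot_sq _))
                   | exact (eq_inv_of_mul_eq_one_left hπ.symm).trans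
                       (inv_eq_of_mul_eq_one_right (h.quot_sq _))))
      subst hb
      exact Prod.ext rfl (Subtype.ext (mul_left_cancel hW))
    have hYcard := Nat.card_le_card_of_injective _ hinj
    rw [Nat.card_prod, Nat.card_eq_fintype_card (α := Bool × Bool)] at hYcard
    simp only [Fintype.card_prod, Fintype.card_bool] at hYcard
    have hcardW : Nat.card W = 8 * Nat.card ↥Φ := by rw [h.card_eq, hV]
    have hC : ∀ a ∈ I, Nat.card ↥(centralizer ({a} : Set W)) = 8 := fun a ha => by
      have h8 := card_class_mul a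
      rw [h.class_eq ha hV, hcardW, mul_comm 8] at h8
      exact Nat.eq_of_mul_eq_mul_left Nat.card_pos h8
    have hY8 : Nat.card ↥Y ≤ 8 := hC v₁ hv₁ ▸ card_le_of_le inf_le_left
    have hΦ2 : Nat.card ↥Φ ≤ 2 := by omega
    rcases Nat.lt_or_ge (Nat.card ↥Φ) 2 with hlt | hge
    · refine ⟨by have : 0 < Nat.card ↥Φ := Nat.card_pos; omega, fun w => ?_⟩
      have hbot : Φ = ⊥ := card_eq_one.1 (by have : 0 < Nat.card ↥Φ := Nat.card_pos; omega)
      have hmem : w * w ∈ Φ := pow_two w ▸ PGroup.pow_mem_frattini h.two w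
      rw [hbot, mem_bot] at hmem
      exact hmem
    exfalso
    have hΦeq : Nat.card ↥Φ = 2 := le_antisymm hΦ2 hge
    have hYeq : Nat.card ↥Y = 8 := by omega
    have hY_eq : ∀ a ∈ I, Y ≤ centralizer ({a} : Set W) → Y = centralizer ({a} : Set W) :=
      fun a ha hle => eq_of_le_of_card_ge hle (by rw [hC a ha, hYeq])
    have hC1 := hY_eq v₁ hv₁ inf_le_left
    have hC2 := hY_eq v₂ hv₂ inf_le_right
    have hv₁₂ : v₁ * v₂ ∈ I := by simpa using hin 1 (one_mem _)
    have hC3 := hY_eq _ hv₁₂ fun y hy => mem_centralizer_singleton_iff.2 (by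
      have h1 : Commute y v₁ := mem_centralizer_singleton_iff.1 (mem_inf.1 hy).1
      have h2 : Commute y v₂ := mem_centralizer_singleton_iff.1 (mem_inf.1 hy).2
      exact (h1.mul_right h2).eq)
    obtain ⟨u, hu⟩ : ∃ u, u ∉ Y := by
      by_contra hcon
      push Not at hcon
      rw [(eq_top_iff' Y).2 hcon, card_top] at hYeq
      omega
    obtain ⟨f, hf1, hfall⟩ : ∃ f : W, f ≠ 1 ∧ ∀ φ ∈ Φ, φ ≠ 1 → φ = f := by
      haveI : Nontrivial ↥Φ := Finite.one_lt_card_iff_nontrivial.1 (by omega)
      obtain ⟨f, hf⟩ := exists_ne (1 : ↥Φ)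
      refine ⟨f, fun e => hf (Subtype.ext e), fun φ hφ hφ1 => ?_⟩
      by_contra hne
      have hinj2 : Function.Injective (![1, f, ⟨φ, hφ⟩] : Fin 3 → ↥Φ) := by
        intro i j hij
        fin_cases i <;> fin_cases j <;>
          first
            | rfl
            | (exfalso; simp at hij;
               first | exact hf hij | exact hf hij.symm | exact hφ1 (congrArg Subtype.val hij)
                     | exact hφ1 (congrArg Subtype.val hij).symm | exact hne (congrArg Subtype.val hij)
                     | exact hne (congrArg Subtype.val hij).symm | exact hφ1 hij)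
      have := Nat.card_le_card_of_injective _ hinj2
      rw [Nat.card_eq_fintype_card, Fintype.card_fin] at this
      omega
    have hmove : ∀ a : W, Y = centralizer ({a} : Set W) → u * a * u⁻¹ = a * f := by
      intro a ha
      have hne : u * a * u⁻¹ ≠ a := fun e => hu (ha.symm ▸ mem_centralizer_singleton_iff.2
        (mul_inv_eq_iff_eq_mul.1 e))
      have hin' : a⁻¹ * (u * a * u⁻¹) ∈ Φ := by
        have := PGroup.commutatorElement_mem_frattini h.two a⁻¹ u
        rwa [commutatorElement_def, inv_inv,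
          show a⁻¹ * u * a * u⁻¹ = a⁻¹ * (u * a * u⁻¹) by group] at this
      have := hfall _ hin' fun e => hne (inv_mul_eq_one.1 e).symm
      rw [← this, mul_inv_cancel_left]
    have e1 := hmove _ hC1
    have e2 := hmove _ hC2
    have e3 := hmove _ hC3
    have hfΦ : f ∈ Φ := by
      by_contra hfn
      have hbot : Φ = ⊥ := (eq_bot_iff_forall _).2 fun φ hφ => by
        by_contra hφ1
        exact hfn (hfall φ hφ hφ1 ▸ hφ)
      rw [hbot, card_bot] at hΦeq
      omega
    have hff : f * f = 1 := by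
      haveI := Fintype.ofFinite ↥Φ
      have := pow_card_eq_one' (x := (⟨f, hfΦ⟩ : ↥Φ))
      rw [hΦeq, pow_two] at this
      exact congrArg Subtype.val this
    rw [show u * (v₁ * v₂) * u⁻¹ = (u * v₁ * u⁻¹) * (u * v₂ * u⁻¹) by group, e1, e2] at e3
    have hvf : f * v₂ = v₂ * f := (hc2Φ f hfΦ).eq.symm
    rw [show v₁ * f * (v₂ * f) = v₁ * (f * v₂) * f by group, hvf, mul_assoc, mul_assoc v₂, hff,
      mul_one] at e3
    exact hf1 (mul_left_cancel (a := v₁ * v₂) (by rw [mul_one, ← e3]))

end Hyp

end Cfsg.Agent.Goldschmidt.General.Corner.Eight
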