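import Cfsg.Agent.Lib.Goldschmidt.General.Corner.Defs
import Cfsg.Agent.Lib.Goldschmidt.General.Corner.EightGroup
import Cfsg.Agent.Lib.Coprime.Frattini
import Cfsg.Agent.S0111

/-!
# Section E of the corner: `|T| = 8` is impossible (owner: helper4)

* `act`        : `N(A) ∩ N(S)` acts on `W = S / A`
* `exists_three` : an element of 3-power order of `N(A) ∩ N(S)` moving `A`
* `fixed_eq_one` : its image fixes no non-trivial element of an abelian `W` (transfer)
* `eightTarget`
-/

set_option autoImplicit false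
set_option linter.unusedSectionVars false
set_option linter.style.haveILetI false
set_option linter.deprecated false

namespace Cfsg.Agent.Goldschmidt.General.Corner.Eight

open Cfsg Subgroup
open scoped commutatorElement

universe u

variable {G : Type u} [Group G]

/-- The quotient `S / A`, given the normality. -/
abbrev Quot (S A : Subgroup G) : Type u := ↥S ⧸ A.subgroupOf S

/-- The elements normalising `A` and `S`. -/
abbrev normBoth (S A : Subgroup G) : Subgroup G := normalizer (A : Set G) ⊓ normalizer (S : Set G)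

/-- Conjugation of `S` by an element of its normaliser. -/
def conjOn (S : Subgroup G) (n : G) (hn : n ∈ normalizer (S : Set G)) : MulAut ↥S where
  toFun s := ⟨n * s * n⁻¹, (mem_normalizer_iff.1 hn _).1 s.2⟩
  invFun s := ⟨n⁻¹ * s * n, by
    refine (mem_normalizer_iff.1 hn _).2 ?_
    rw [show n * (n⁻¹ * (s : G) * n) * n⁻¹ = s by group]; exact s.2⟩
  left_inv s := Subtype.ext (by simp [mul_assoc])
  right_inv s := Subtype.ext (by simp [mul_assoc])
  map_mul' s t := Subtype.ext (by simp [mul_assoc])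

theorem coe_conjOn (S : Subgroup G) (n : G) (hn : n ∈ normalizer (S : Set G)) (s : ↥S) :
    (conjOn S n hn s : G) = n * s * n⁻¹ := rfl

theorem map_conjOn (S A : Subgroup G) (n : ↥(normBoth S A)) :
    (A.subgroupOf S).map (conjOn S n.1 n.2.2).toMonoidHom = A.subgroupOf S := by
  ext s
  constructor
  · rintro ⟨a, ha, rfl⟩
    exact mem_subgroupOf.2 ((mem_normalizer_iff.1 n.2.1 _).1 (mem_subgroupOf.1 ha))
  · intro hs
    refine ⟨(conjOn S n.1 n.2.2).symm s, mem_subgroupOf.2 ?_, MulEquiv.apply_symm_apply _ _⟩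
    refine (mem_normalizer_iff.1 n.2.1 _).2 ?_
    show (n : G) * ((n : G)⁻¹ * s * n) * (n : G)⁻¹ ∈ A
    rw [show (n : G) * ((n : G)⁻¹ * s * n) * (n : G)⁻¹ = s by group]
    exact mem_subgroupOf.1 hs

variable (S A : Subgroup G) [(A.subgroupOf S).Normal]

/-- The action on `S / A`. -/
def act : ↥(normBoth S A) →* MulAut (Quot S A) :=
  MonoidHom.mk' (fun n => QuotientGroup.congr _ _ (conjOn S n.1 n.2.2) (map_conjOn S A n))
    (fun n m => MulEquiv.ext fun q => by
      obtain ⟨s, rfl⟩ := QuotientGroup.mk'_surjective _ q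
      refine congrArg (QuotientGroup.mk' _) (Subtype.ext ?_)
      show (n : G) * m * (s : G) * ((n : G) * m)⁻¹ = n * (m * s * (m : G)⁻¹) * (n : G)⁻¹
      group)

theorem act_mk (n : ↥(normBoth S A)) (s : ↥S) :
    act S A n (QuotientGroup.mk' _ s) = QuotientGroup.mk' _ (conjOn S n.1 n.2.2 s) := rfl

variable {S A}
variable [Finite G]

/-- The order of the range of the action is odd when `W` is abelian. -/
theorem odd_range {P : Sylow 2 G} [(A.subgroupOf (P : Subgroup G)).Normal]
    (hP : (P : Subgroup G) ≤ normalizer (A : Set G))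
    (hc : ∀ a b : Quot (P : Subgroup G) A, a * b = b * a) :
    Odd (Nat.card ↥(act (P : Subgroup G) A).range) := by
  haveI : Fact (Nat.Prime 2) := ⟨Nat.prime_two⟩
  have hle : (P : Subgroup G) ≤ normBoth (P : Subgroup G) A := le_inf hP le_normalizer
  have hker : (P : Subgroup G).subgroupOf (normBoth (P : Subgroup G) A) ≤ (act (P : Subgroup G) A).ker := by
    intro n hn
    rw [MonoidHom.mem_ker]
    refine MulEquiv.ext fun q => ?_
    obtain ⟨s, rfl⟩ := QuotientGroup.mk'_surjective _ q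
    rw [act_mk, show conjOn (P : Subgroup G) n.1 n.2.2 s = ⟨n.1, hn⟩ * s * ⟨n.1, hn⟩⁻¹ from rfl,
      map_mul, map_mul, hc, map_inv, inv_mul_cancel_left]
    rfl
  rw [← index_ker, ← Nat.not_even_iff_odd, even_iff_two_dvd]
  exact fun h2 => (P.subtype hle).not_dvd_index (h2.trans (index_dvd_of_le hker))

section Main

variable {S : Sylow 2 G} {A : Subgroup G}

omit [Finite G] in
theorem normal_subgroupOf (h : (S : Subgroup G) ≤ centralizer (A : Set G)) :
    (A.subgroupOf (S : Subgroup G)).Normal := by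
  refine ⟨fun a ha s => mem_subgroupOf.2 ?_⟩
  show (s : G) * a * (s : G)⁻¹ ∈ A
  rw [← mem_centralizer_iff.1 (h s.2) a (mem_subgroupOf.1 ha), mul_inv_cancel_right]
  exact mem_subgroupOf.1 ha

theorem exists_not_centralizing (H : CornerHyp G S A) :
    ∃ n ∈ normalizer (A : Set G), n ∉ centralizer (A : Set G) := by
  by_contra hc
  push Not at hc
  obtain ⟨a, ha, ha1⟩ : ∃ a ∈ A, a ≠ 1 := by
    by_contra h
    push Not at h
    exact H.ctx.ne ((eq_bot_iff_forall A).2 h)
  have hB : normalizer (A : Set G) ≤ normalizer (zpowers a : Set G) := fun n hn =>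
    centralizer_le_normalizer _ (mem_centralizer_iff.2 fun x hx =>
      mem_centralizer_iff.1 (hc n hn) x (zpowers_le.2 ha hx))
  rcases H.ctx.irred _ (zpowers_le.2 ha) hB with h | h
  · exact ha1 (zpowers_eq_bot.1 h)
  · have h1 := H.four
    rw [← h, Nat.card_zpowers] at h1
    have h2 := orderOf_dvd_of_pow_eq_one (show a ^ 2 = 1 by rw [pow_two, H.ctx.sq ha])
    rw [h1] at h2
    norm_num at h2

theorem pow_three_mem (H : CornerHyp G S A) {n : G} (hn : n ∈ normalizer (A : Set G)) :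
    n ^ 3 ∈ centralizer (A : Set G) := by
  classical
  haveI := Fintype.ofFinite G
  let X := {a : ↥A // a ≠ 1}
  let act3 : ↥(normalizer (A : Set G)) →* Equiv.Perm X :=
    MonoidHom.mk' (fun m =>
      { toFun := fun a => ⟨⟨m.1 * a.1.1 * m.1⁻¹, (mem_normalizer_iff.1 m.2 _).1 a.1.2⟩, fun e =>
          a.2 (Subtype.ext (conj_eq_one_iff.1 (congrArg Subtype.val e)))⟩
        invFun := fun a => ⟨⟨m.1⁻¹ * a.1.1 * m.1, (mem_normalizer_iff.1 m.2 _).2 (by
            rw [show m.1 * (m.1⁻¹ * a.1.1 * m.1) * m.1⁻¹ = a.1.1 by group]; exact a.1.2)⟩, fun e =>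
          a.2 (Subtype.ext (by
            have h1 : m.1⁻¹ * a.1.1 * m.1 = 1 := congrArg Subtype.val e
            calc a.1.1 = m.1 * (m.1⁻¹ * a.1.1 * m.1) * m.1⁻¹ := by group
              _ = 1 := by rw [h1]; group))⟩
        left_inv := fun a => Subtype.ext (Subtype.ext (by simp [mul_assoc]))
        right_inv := fun a => Subtype.ext (Subtype.ext (by simp [mul_assoc])) })
      (fun m m' => Equiv.ext fun a => Subtype.ext (Subtype.ext (by
        show m.1 * m'.1 * a.1.1 * (m.1 * m'.1)⁻¹ = m.1 * (m'.1 * a.1.1 * m'.1⁻¹) * m.1⁻¹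
        group)))
  have hX : Nat.card X = 3 := by
    rw [Nat.card_eq_fintype_card, Fintype.card_subtype_compl, Fintype.card_subtype_eq,
      ← Nat.card_eq_fintype_card, H.four]
  haveI : Nontrivial X := Finite.one_lt_card_iff_nontrivial.1 (by omega)
  have hsign : ∀ m, Equiv.Perm.sign (act3 m) = 1 := by
    intro m
    by_contra hm
    let χ := Equiv.Perm.sign.comp act3
    refine H.ctx.no_index_two χ.ker ?_
    rw [index_ker]
    have hle : Nat.card ↥χ.range ≤ 2 := by
      refine le_trans (Nat.card_le_card_of_injective _ Subtype.val_injective) ?_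
      rw [Nat.card_eq_fintype_card, Fintype.card_units_int]
    have hne : Nat.card ↥χ.range ≠ 1 := fun e => hm (by
      have hmem : χ m ∈ χ.range := ⟨m, rfl⟩
      rw [card_eq_one.1 e] at hmem
      exact mem_bot.1 hmem)
    have hpos : 0 < Nat.card ↥χ.range := Nat.card_pos
    omega
  have h3 : act3 ⟨n, hn⟩ ^ 3 = 1 := by
    have hcard : Nat.card (alternatingGroup X) = 3 := by
      rw [nat_card_alternatingGroup, hX]; rfl
    have := pow_card_eq_one' (x := (⟨act3 ⟨n, hn⟩, Equiv.Perm.mem_alternatingGroup.2 (hsign _)⟩ :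
      alternatingGroup X))
    rw [hcard] at this
    exact congrArg Subtype.val this
  rw [← map_pow] at h3
  refine mem_centralizer_iff.2 fun a ha => ?_
  rcases eq_or_ne a 1 with rfl | ha1
  · simp
  have h4 := congrArg (fun f : Equiv.Perm X => (f ⟨⟨a, ha⟩, fun e => ha1 (congrArg Subtype.val e)⟩).1.1) h3
  change n ^ 3 * a * (n ^ 3)⁻¹ = a at h4
  exact (mul_inv_eq_iff_eq_mul.1 h4).symm

/-- An element of 3-power order of `N(A) ∩ N(S)` moving `A`. -/
theorem exists_three (H : CornerHyp G S A) :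
    ∃ g ∈ normBoth (S : Subgroup G) A, (∃ k, g ^ 3 ^ k = 1) ∧ g ∉ centralizer (A : Set G) := by
  haveI : Fact (Nat.Prime 2) := ⟨Nat.prime_two⟩
  obtain ⟨n, hn, hnC⟩ := exists_not_centralizing H
  -- Frattini argument
  set M := centralizer (A : Set G) with hMdef
  have hMn : ∀ c ∈ M, n * c * n⁻¹ ∈ M := fun c hc => mem_centralizer_iff.2 fun a ha => by
    have ha' : n⁻¹ * a * n ∈ A := (mem_normalizer_iff.1 hn _).2 (by
      rw [show n * (n⁻¹ * a * n) * n⁻¹ = a by group]; exact ha)
    have h1 := mem_centralizer_iff.1 hc _ ha'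
    calc a * (n * c * n⁻¹) = n * (n⁻¹ * a * n * c) * n⁻¹ := by group
      _ = n * (c * (n⁻¹ * a * n)) * n⁻¹ := by rw [h1]
      _ = n * c * n⁻¹ * a := by group
  have hSn : ((n • S : Sylow 2 G) : Subgroup G) ≤ M := by
    intro x hx
    rw [Sylow.coe_subgroup_smul, Coprime.mem_conj] at hx
    have h1 := hMn _ (H.central hx)
    rwa [show n * (n⁻¹ * x * n) * n⁻¹ = x by group] at h1
  obtain ⟨c, hc⟩ := MulAction.exists_smul_eq ↥M ((n • S).subtype hSn) (S.subtype H.central)
  have hcn : (c : G) * n ∈ normalizer ((S : Subgroup G) : Set G) := by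
    refine Sylow.smul_eq_iff_mem_normalizer.1 ?_
    rw [Sylow.smul_subtype] at hc
    have h1 := Sylow.subtype_injective hc
    rw [mul_smul]
    exact h1
  have hcnA : (c : G) * n ∈ normalizer (A : Set G) :=
    mul_mem (Subgroup.centralizer_le_normalizer _ c.2) hn
  have hmove : (c : G) * n ∉ M := fun e => hnC (by simpa using mul_mem (inv_mem c.2) e)
  set x := (c : G) * n
  obtain ⟨a, m, hm, hxm⟩ := Nat.exists_eq_pow_mul_and_not_dvd (orderOf_pos x).ne' 3 (by norm_num)
  refine ⟨x ^ m, ⟨pow_mem hcnA m, pow_mem hcn m⟩, ⟨a, ?_⟩, fun e => hmove ?_⟩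
  · rw [← pow_mul, mul_comm, ← hxm, pow_orderOf_eq_one]
  · have h1 := pow_three_mem H hcnA
    obtain ⟨u, v, huv⟩ : IsCoprime (m : ℤ) 3 := by
      rw [show (3 : ℤ) = ((3 : ℕ) : ℤ) from rfl, Nat.isCoprime_iff_coprime]
      exact ((Nat.prime_three.coprime_iff_not_dvd).2 hm).symm
    rw [← zpow_one x, ← huv, zpow_add, mul_comm u, mul_comm v, zpow_mul, zpow_mul, zpow_natCast,
      show x ^ (3 : ℤ) = x ^ (3 : ℕ) from zpow_natCast x 3]
    exact mul_mem (zpow_mem e u) (zpow_mem h1 v)

theorem card_quot (H : CornerHyp G S A) :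
    Nat.card ↥(S : Subgroup G) = Nat.card (Quot (S : Subgroup G) A) * 4 := by
  rw [card_eq_card_quotient_mul_card_subgroup (A.subgroupOf (S : Subgroup G)),
    Nat.card_congr (subgroupOfEquivOfLe H.ctx.le).toEquiv, H.four]

/-- An element of `S / A` fixed by the whole action is trivial, for abelian `S / A`. -/
theorem fixed_eq_one (H : CornerHyp G S A) [(A.subgroupOf (S : Subgroup G)).Normal]
    (hsq : ∀ w : Quot (S : Subgroup G) A, w * w = 1) {f : Quot (S : Subgroup G) A}
    (hf : ∀ n, act (S : Subgroup G) A n f = f) : f = 1 := by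
  classical
  haveI : Fact (Nat.Prime 2) := ⟨Nat.prime_two⟩
  haveI := H.ctx.simple
  set N := normalizer (A : Set G)
  have hcom := mul_comm_of_sq hsq
  letI : CommGroup (Quot (S : Subgroup G) A) :=
    { (inferInstance : Group (Quot (S : Subgroup G) A)) with mul_comm := hcom }
  set K := (act (S : Subgroup G) A).range
  haveI := Fintype.ofFinite ↥K
  let φ : Quot (S : Subgroup G) A →* Quot (S : Subgroup G) A :=
    MonoidHom.mk' (fun w => ∏ k : ↥K, (k : MulAut (Quot (S : Subgroup G) A)) w)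
      (fun a b => by simp only [map_mul, Finset.prod_mul_distrib])
  have hφ : ∀ n w, φ (act (S : Subgroup G) A n w) = φ w := fun n w =>
    Fintype.prod_equiv (Equiv.mulRight (⟨act (S : Subgroup G) A n, n, rfl⟩ : ↥K)) _ _ fun k => rfl
  let ψ : ↥(S : Subgroup G) →* Quot (S : Subgroup G) A := φ.comp (QuotientGroup.mk' _)
  -- fusion in the quotient of `N(A)`
  haveI : IsMulCommutative ↥A := H.ctx.elemAb.1
  set Q := QuotientGroup.mk' (A.subgroupOf N) with hQ
  have hSN : (S : Subgroup G) ≤ N := H.ctx.sylow_le_normalizer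
  let P : Sylow 2 (↥N ⧸ A.subgroupOf N) := (S.subtype hSN).mapSurjective (QuotientGroup.mk'_surjective _)
  have hPQ : ∀ y : ↥N, Q y ∈ P ↔ (y : G) ∈ (S : Subgroup G) := by
    intro y
    constructor
    · rintro ⟨s, hs, he⟩
      have h1 : s⁻¹ * y ∈ A.subgroupOf N := QuotientGroup.eq.1 he
      have h2 : ((s : G))⁻¹ * y ∈ (S : Subgroup G) := H.ctx.le h1
      simpa using mul_mem (show (s : G) ∈ (S : Subgroup G) from hs) h2
    · exact fun hy => ⟨y, hy, rfl⟩
  haveI : IsMulCommutative ↥(P : Subgroup (↥N ⧸ A.subgroupOf N)) := by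
    refine ⟨⟨?_⟩⟩
    rintro ⟨_, a, ha, rfl⟩ ⟨_, b, hb, rfl⟩
    refine Subtype.ext ?_
    show Q a * Q b = Q b * Q a
    rw [← map_mul, ← map_mul]
    refine QuotientGroup.eq.2 (mem_subgroupOf.2 ?_)
    have h1 : QuotientGroup.mk' (A.subgroupOf (S : Subgroup G)) (⟨a, ha⟩ * ⟨b, hb⟩) =
        QuotientGroup.mk' _ (⟨b, hb⟩ * ⟨a, ha⟩) := by rw [map_mul, map_mul]; exact hcom _ _
    rw [QuotientGroup.mk'_apply, QuotientGroup.mk'_apply] at h1
    have h2 := QuotientGroup.eq.1 h1
    exact mem_subgroupOf.1 h2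
  have hψconj : ∀ (x : ↥(S : Subgroup G)) (v : G) (hv : v * x * v⁻¹ ∈ (S : Subgroup G)),
      ψ ⟨v * x * v⁻¹, hv⟩ = ψ x := by
    intro x v hv
    obtain ⟨n, hn, he⟩ := H.ctx.agree x.2 hv
    have hy : n⁻¹⁻¹ * (x : G) * n⁻¹ ∈ (S : Subgroup G) := by rw [inv_inv, ← he]; exact hv
    obtain ⟨m, hm, hme⟩ := P.conj_eq_normalizer_conj_of_mem (Q ⟨x, hSN x.2⟩) (Q ⟨n⁻¹, inv_mem hn⟩)
      ((hPQ _).2 x.2) (by rw [← map_inv, ← map_mul, ← map_mul]; exact (hPQ _).2 hy)
    obtain ⟨m, rfl⟩ := QuotientGroup.mk'_surjective _ m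
    have hmS : (m : G) ∈ normalizer ((S : Subgroup G) : Set G) := by
      refine mem_normalizer_iff.2 fun y => ?_
      by_cases hyN : y ∈ N
      · show y ∈ (S : Subgroup G) ↔ ((m * ⟨y, hyN⟩ * m⁻¹ : ↥N) : G) ∈ (S : Subgroup G)
        rw [← hPQ (m * ⟨y, hyN⟩ * m⁻¹), map_mul, map_mul, map_inv, ← hPQ ⟨y, hyN⟩]
        exact mem_normalizer_iff.1 hm _
      · refine ⟨fun h => absurd (hSN h) hyN, fun h => absurd ?_ hyN⟩
        have := N.mul_mem (N.mul_mem (N.inv_mem m.2) (hSN h)) m.2
        simpa [mul_assoc] using this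
    let m' : ↥(normBoth (S : Subgroup G) A) := ⟨(m : G)⁻¹, N.inv_mem m.2, Subgroup.inv_mem _ hmS⟩
    have hmk : QuotientGroup.mk' (A.subgroupOf (S : Subgroup G)) ⟨v * x * v⁻¹, hv⟩ =
        act (S : Subgroup G) A m' (QuotientGroup.mk' _ x) := by
      rw [act_mk]
      refine QuotientGroup.eq.2 (mem_subgroupOf.2 ?_)
      have hme' : Q (⟨n⁻¹, inv_mem hn⟩⁻¹ * ⟨x, hSN x.2⟩ * ⟨n⁻¹, inv_mem hn⟩) = Q (m⁻¹ * ⟨x, hSN x.2⟩ * m) := by
        rw [map_mul, map_mul, map_inv, map_mul, map_mul, map_inv]; exact hme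
      have h1 : (n⁻¹⁻¹ * (x : G) * n⁻¹)⁻¹ * ((m : G)⁻¹ * x * m) ∈ A := mem_subgroupOf.1 (QuotientGroup.eq.1 hme')
      show (v * (x : G) * v⁻¹)⁻¹ * ((m : G)⁻¹ * x * ((m : G)⁻¹)⁻¹) ∈ A
      rwa [inv_inv, he, show n * (x : G) * n⁻¹ = n⁻¹⁻¹ * x * n⁻¹ by rw [inv_inv]]
    show φ _ = φ _
    rw [hmk, hφ]
  have hfoc : (S : Subgroup G).focalSubgroup = (S : Subgroup G) := by
    have hcomm : _root_.commutator G = ⊤ :=
      (inferInstance : (_root_.commutator G).Normal).eq_bot_or_eq_top.resolve_left fun e =>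
      H.ctx.nonab.elim fun a ⟨b, hab⟩ => hab (commutatorElement_eq_one_iff_mul_comm.1
        (mem_bot.1 (e ▸ commutator_mem_commutator (mem_top a) (mem_top b))))
    rw [← Subgroup.commutator_inf_eq_focalSubgroup, hcomm, top_inf_eq]
  have hψ : ∀ s : ↥(S : Subgroup G), ψ s = 1 := by
    intro s
    have hle : (S : Subgroup G) ≤ ψ.ker.map (S : Subgroup G).subtype := by
      conv_lhs => rw [← hfoc, focalSubgroup_def]
      rw [closure_le]
      rintro _ ⟨hz, x, hx, v, rfl⟩
      have hconj : v * x⁻¹ * v⁻¹ ∈ (S : Subgroup G) := by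
        have h1 : x⁻¹ * ⁅x, v⁆ ∈ (S : Subgroup G) := mul_mem (inv_mem hx) hz
        rwa [show x⁻¹ * ⁅x, v⁆ = v * x⁻¹ * v⁻¹ by rw [commutatorElement_def]; group] at h1
      refine ⟨⟨⁅x, v⁆, hz⟩, ?_, rfl⟩
      rw [SetLike.mem_coe, MonoidHom.mem_ker,
        show (⟨⁅x, v⁆, hz⟩ : ↥(S : Subgroup G)) = ⟨x, hx⟩ * ⟨v * x⁻¹ * v⁻¹, hconj⟩ from
          Subtype.ext (by show ⁅x, v⁆ = x * (v * x⁻¹ * v⁻¹); rw [commutatorElement_def]; group), map_mul]
      rw [hψconj ⟨x⁻¹, inv_mem hx⟩ v hconj, ← map_mul,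
        show (⟨x, hx⟩ : ↥(S : Subgroup G)) * ⟨x⁻¹, inv_mem hx⟩ = 1 from Subtype.ext (mul_inv_cancel x),
        map_one]
    obtain ⟨k, hk, hke⟩ := hle s.2
    exact (Subtype.ext hke : k = s) ▸ hk
  have hφf : φ f = f := by
    show ∏ k : ↥K, (k : MulAut (Quot (S : Subgroup G) A)) f = f
    rw [Finset.prod_eq_pow_card (b := f) fun k _ => by
      obtain ⟨n, hn⟩ := k.2
      rw [← hn]; exact hf n]
    rw [Finset.card_univ, ← Nat.card_eq_fintype_card]
    obtain ⟨j, hj⟩ := odd_range (P := S) hSN hcom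
    rw [hj, pow_succ, pow_mul, pow_two, hsq, one_pow, one_mul]
  obtain ⟨s, rfl⟩ := QuotientGroup.mk'_surjective _ f
  rw [← hφf]
  exact hψ s

/-- An element of order seven in the action. -/
theorem exists_seven {W : Type u} [Group W] [Finite W] (hW : Nat.card W = 8) (K : Subgroup (MulAut W))
    (hodd : Odd (Nat.card ↥K)) {σ : MulAut W} (hσK : σ ∈ K) (hσ : ∃ k, σ ^ 3 ^ k = 1) (hσ1 : σ ≠ 1)
    (hfix : ∀ f : W, (∀ k ∈ K, k f = f) → f = 1) :
    ∃ y ∈ K, orderOf y = 7 := by
  classical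
  haveI : Fact (Nat.Prime 3) := ⟨Nat.prime_three⟩
  haveI : Fact (Nat.Prime 7) := ⟨by norm_num⟩
  obtain ⟨-, h2, -⟩ := two_or_one hσ hσ1
  have hcard2 := h2 hW
  haveI : Nontrivial ↥(fix σ) := Finite.one_lt_card_iff_nontrivial.1 (by omega)
  obtain ⟨⟨f, hf⟩, hf1⟩ := exists_ne (1 : ↥(fix σ))
  have hf1' : f ≠ 1 := fun e => hf1 (Subtype.ext e)
  set O := MulAction.orbit ↥K f with hO
  have hnot1 : (1 : W) ∉ O := by
    rintro ⟨k, hk⟩
    exact hf1' ((k : MulAut W).injective ((show (k : MulAut W) f = 1 from hk).trans (map_one _).symm))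
  have hdvd : Nat.card ↥O ∣ Nat.card ↥K := by
    rw [hO, Nat.card_coe_set_eq, ← MulAction.index_stabilizer]; exact index_dvd_card _
  have hle : Nat.card ↥O ≤ 7 := by
    have h3 : O.ncard ≤ ({1}ᶜ : Set W).ncard := Set.ncard_le_ncard fun w hw e => hnot1 ((Set.mem_singleton_iff.1 e) ▸ hw)
    rw [Set.ncard_compl, Set.ncard_singleton, hW] at h3
    rwa [Nat.card_coe_set_eq]
  have hne1 : Nat.card ↥O ≠ 1 := by
    intro e
    refine hf1' (hfix f fun k hk => ?_)
    haveI := (Nat.card_eq_one_iff_unique.1 e).1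
    exact congrArg Subtype.val (Subsingleton.elim (⟨k f, ⟨⟨k, hk⟩, rfl⟩⟩ : ↥O)
      ⟨f, MulAction.mem_orbit_self f⟩)
  -- modulo three
  have hp : IsPGroup 3 ↥(zpowers (⟨σ, hσK⟩ : ↥K)) := by
    obtain ⟨k, hk⟩ := hσ
    have hk' : (⟨σ, hσK⟩ : ↥K) ^ 3 ^ k = 1 := Subtype.ext hk
    obtain ⟨i, -, hi⟩ := (Nat.dvd_prime_pow Nat.prime_three).1 (orderOf_dvd_of_pow_eq_one hk')
    exact IsPGroup.of_card (n := i) (by rw [Nat.card_zpowers, hi])
  have hmod := hp.card_modEq_card_fixedPoints ↥O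
  have hone : Nat.card ↥(MulAction.fixedPoints ↥(zpowers (⟨σ, hσK⟩ : ↥K)) ↥O) = 1 := by
    rw [Nat.card_eq_one_iff_unique]
    have hfixO : ∀ w : ↥(MulAction.fixedPoints ↥(zpowers (⟨σ, hσK⟩ : ↥K)) ↥O), w.1.1 = f := by
      intro w
      have h5 : σ w.1.1 = w.1.1 := congrArg Subtype.val (w.2 ⟨⟨σ, hσK⟩, mem_zpowers _⟩)
      by_contra hne
      have h7 : w.1.1 ≠ 1 := fun e => hnot1 (e ▸ w.1.2)
      let F : Fin 3 → ↥(fix σ) := ![1, ⟨f, hf⟩, ⟨w.1.1, mem_fix.2 h5⟩]
      have hF : Function.Injective F := by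
        intro i j hij
        fin_cases i <;> fin_cases j <;>
          first
            | rfl
            | (exfalso; simp [F, Subtype.ext_iff] at hij;
               first | exact hf1' hij | exact hf1' hij.symm | exact h7 hij | exact h7 hij.symm
                     | exact hne hij | exact hne hij.symm)
      have := Nat.card_le_card_of_injective F hF
      rw [Nat.card_eq_fintype_card, Fintype.card_fin] at this
      omega
    refine ⟨⟨fun a b => Subtype.ext (Subtype.ext ((hfixO a).trans (hfixO b).symm))⟩,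
      ⟨⟨⟨f, MulAction.mem_orbit_self f⟩, fun g => Subtype.ext ?_⟩⟩⟩
    obtain ⟨i, hi⟩ := mem_zpowers_iff.1 g.2
    show ((g : ↥K) : MulAut W) • f = f
    rw [← hi]
    have h8 : σ ^ i ∈ MulAction.stabilizer (MulAut W) f :=
      zpow_mem (show σ ∈ MulAction.stabilizer (MulAut W) f from hf) i
    exact h8
  rw [hone] at hmod
  have hO7 : Nat.card ↥O = 7 := by
    have hodd' : Odd (Nat.card ↥O) := hodd.of_dvd_nat hdvd
    unfold Nat.ModEq at hmod
    rw [Nat.odd_iff] at hodd'
    have h0 : 0 < Nat.card ↥O := Nat.pos_of_ne_zero fun e => by rw [e] at hmod; simp at hmod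
    interval_cases (Nat.card ↥O) <;> omega
  obtain ⟨y, hy⟩ := exists_prime_orderOf_dvd_card' 7 (hO7 ▸ hdvd)
  exact ⟨y, y.2, by rwa [orderOf_coe]⟩

/-- An element of order seven is transitive on the non-trivial elements. -/
theorem transitive_seven {W : Type u} [Group W] [Finite W] (hW : Nat.card W = 8) {y : MulAut W}
    (hy : orderOf y = 7) {v w : W} (hv : v ≠ 1) (hw : w ≠ 1) : ∃ j : ℤ, (y ^ j) v = w := by
  classical
  haveI : Fact (Nat.Prime 7) := ⟨by norm_num⟩
  have hp : IsPGroup 7 ↥(zpowers y) := IsPGroup.of_card (n := 1) (by rw [Nat.card_zpowers, hy, pow_one])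
  set O := MulAction.orbit ↥(zpowers y) v with hO
  obtain ⟨n, hn⟩ := hp.card_orbit (α := W) v
  have hnot1 : (1 : W) ∉ O := by
    rintro ⟨k, hk⟩
    exact hv ((k : MulAut W).injective ((show (k : MulAut W) v = 1 from hk).trans (map_one _).symm))
  have hsub : O ⊆ ({1}ᶜ : Set W) := fun x hx e => hnot1 ((Set.mem_singleton_iff.1 e) ▸ hx)
  have hcompl : ({1}ᶜ : Set W).ncard = 7 := by rw [Set.ncard_compl, Set.ncard_singleton, hW]
  have hmoved : Nat.card ↥O ≠ 1 := by
    intro e
    -- then the fixed points are the whole group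
    have h1 := hp.card_modEq_card_fixedPoints W
    have hset : MulAction.fixedPoints ↥(zpowers y) W = (fix y : Set W) := by
      ext x
      rw [MulAction.mem_fixedPoints, SetLike.mem_coe, mem_fix]
      refine ⟨fun hx => hx ⟨y, mem_zpowers y⟩, fun hx g => ?_⟩
      obtain ⟨i, hi⟩ := mem_zpowers_iff.1 g.2
      show (g : MulAut W) • x = x
      rw [← hi]
      have h8 : y ^ i ∈ MulAction.stabilizer (MulAut W) x :=
        zpow_mem (show y ∈ MulAction.stabilizer (MulAut W) x from hx) i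
      exact h8
    rw [hset, hW] at h1
    have hlt : Nat.card ↥(fix y) < 8 := hW ▸ fix_ne_top (fun e => by rw [e, orderOf_one] at hy; omega)
    change 8 ≡ Nat.card ↥(fix y) [MOD 7] at h1
    haveI : Subsingleton ↥O := (Nat.card_eq_one_iff_unique.1 e).1
    have hvfix : v ∈ fix y := mem_fix.2 (congrArg Subtype.val (Subsingleton.elim
      (⟨y v, ⟨⟨y, mem_zpowers y⟩, rfl⟩⟩ : ↥O) ⟨v, MulAction.mem_orbit_self v⟩))
    haveI : Nontrivial ↥(fix y) := ⟨⟨⟨v, hvfix⟩, 1, fun e => hv (congrArg Subtype.val e)⟩⟩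
    have h2 : 1 < Nat.card ↥(fix y) := Finite.one_lt_card
    unfold Nat.ModEq at h1
    omega
  have h7 : O.ncard = 7 := by
    have hle : Nat.card ↥O ≤ 7 := by
      rw [Nat.card_coe_set_eq, ← hcompl]; exact Set.ncard_le_ncard hsub
    rw [← Nat.card_coe_set_eq]
    rcases n with _ | _ | n
    · exact absurd (hn.trans (pow_zero 7)) hmoved
    · rw [hn, pow_one]
    · have : 7 ^ 2 ≤ 7 ^ (n + 1 + 1) := Nat.pow_le_pow_right (by norm_num) (by omega)
      rw [hn] at hle
      omega
  have heq : O = ({1}ᶜ : Set W) := Set.eq_of_subset_of_ncard_le hsub (by rw [h7, hcompl])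
  have hwO : w ∈ O := by rw [heq]; exact hw
  obtain ⟨⟨k, hk⟩, hkw⟩ := hwO
  obtain ⟨j, rfl⟩ := mem_zpowers_iff.1 hk
  exact ⟨j, hkw⟩

theorem false_of_eight (H : CornerHyp G S A) {T : Subgroup G} (D : MaxData S A T) (h8 : Nat.card ↥T = 8) :
    False := by
  classical
  haveI : Fact (Nat.Prime 2) := ⟨Nat.prime_two⟩
  haveI hn : (A.subgroupOf (S : Subgroup G)).Normal := normal_subgroupOf H.central
  haveI := H.ctx.simple
  set π := QuotientGroup.mk' (A.subgroupOf (S : Subgroup G)) with hπ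
  have hcardS := card_quot H
  obtain ⟨g, hg, ⟨k, hk⟩, hgA⟩ := exists_three H
  set σ := act (S : Subgroup G) A ⟨g, hg⟩ with hσ
  set I : Set (Quot (S : Subgroup G) A) :=
    {w | ∃ s : ↥(S : Subgroup G), (s : G) * s = 1 ∧ (s : G) ∉ A ∧ π s = w} with hI
  have hker : ∀ s : ↥(S : Subgroup G), π s = 1 ↔ (s : G) ∈ A := fun s => by
    rw [hπ, QuotientGroup.mk'_apply, QuotientGroup.eq_one_iff, mem_subgroupOf]
  have hcentA : ∀ a ∈ A, ∀ s ∈ (S : Subgroup G), a * s = s * a := fun a ha s hs =>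
    mem_centralizer_iff.1 (H.central hs) a ha
  obtain ⟨r, hrT, hrA⟩ : ∃ r ∈ T, r ∉ A := by
    by_contra hc
    push Not at hc
    have h1 := card_le_of_le (show T ≤ A from hc)
    rw [h8, H.four] at h1
    omega
  have hr2 : r * r = 1 := pow_two r ▸ D.elem.2 r hrT
  have hrS : r ∈ (S : Subgroup G) := D.le hrT
  -- the hypotheses on the quotient
  have hyp : Hyp (Quot (S : Subgroup G) A) σ I := by
    refine ⟨S.2.to_quotient _, ⟨k, ?_⟩, ?_, ?_, ⟨π ⟨r, hrS⟩, ⟨r, hrS⟩, hr2, hrA, rfl⟩, ?_, ?_, ?_, ?_, ?_, ?_⟩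
    · rw [hσ, ← map_pow, show (⟨g, hg⟩ : ↥(normBoth (S : Subgroup G) A)) ^ 3 ^ k = 1 from
        Subtype.ext hk, map_one]
    · -- moves
      by_contra hc
      push Not at hc
      have hΦ : ∀ s : ↥(S : Subgroup G), s⁻¹ * conjOn (S : Subgroup G) g hg.2 s ∈ frattini ↥(S : Subgroup G) := by
        intro s
        have h1 := hc (π s)
        rw [hσ, act_mk, ← map_inv, ← map_mul,
          ← PGroup.frattini_map S.2 (QuotientGroup.mk'_surjective (A.subgroupOf (S : Subgroup G)))] at h1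
        have h2 : s⁻¹ * conjOn (S : Subgroup G) g hg.2 s ∈ frattini ↥(S : Subgroup G) ⊔ A.subgroupOf (S : Subgroup G) := by
          have := mem_comap.2 h1
          rwa [comap_map_eq, QuotientGroup.ker_mk'] at this
        rwa [sup_eq_left.2 H.frattini] at h2
      refine hgA ?_
      have hle := Coprime.le_centralizer_of_forall_mem_frattini (A := zpowers g) (K := (S : Subgroup G))
        (zpowers_le.2 hg.2) ?_ ?_
      · exact mem_centralizer_iff.2 fun a ha => mem_centralizer_iff.1 (hle (mem_zpowers g)) a (H.ctx.le ha)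
      · rw [Nat.card_zpowers]
        obtain ⟨i, hi⟩ := (S.2.to_subgroup (frattini ↥(S : Subgroup G))).exists_card_eq
        rw [hi]
        exact (Nat.Coprime.pow _ _ (by norm_num : Nat.Coprime 3 2)).coprime_dvd_left
          (orderOf_dvd_of_pow_eq_one hk)
      · intro a ha x hx
        obtain ⟨i, rfl⟩ := mem_zpowers_iff.1 ha
        let F : Subgroup ↥(normBoth (S : Subgroup G) A) :=
          { carrier := {n | ∀ y : ↥(S : Subgroup G), y⁻¹ * conjOn (S : Subgroup G) n.1 n.2.2 y ∈ frattini ↥(S : Subgroup G)}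
            one_mem' := fun y => by
              have : conjOn (S : Subgroup G) (1 : ↥(normBoth (S : Subgroup G) A)).1
                  (1 : ↥(normBoth (S : Subgroup G) A)).2.2 y = y := Subtype.ext (by simp [coe_conjOn])
              rw [this, inv_mul_cancel]; exact one_mem _
            mul_mem' := fun {a b} ha hb y => by
              have e : conjOn (S : Subgroup G) (a * b).1 (a * b).2.2 y =
                  conjOn (S : Subgroup G) a.1 a.2.2 (conjOn (S : Subgroup G) b.1 b.2.2 y) :=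
                Subtype.ext (by simp [coe_conjOn, mul_assoc])
              rw [e]
              have := mul_mem (hb y) (ha (conjOn (S : Subgroup G) b.1 b.2.2 y))
              simpa [mul_assoc] using this
            inv_mem' := fun {a} ha y => by
              have e : conjOn (S : Subgroup G) a.1 a.2.2 (conjOn (S : Subgroup G) a⁻¹.1 a⁻¹.2.2 y) = y :=
                Subtype.ext (by simp [coe_conjOn, mul_assoc])
              have := inv_mem (ha (conjOn (S : Subgroup G) a⁻¹.1 a⁻¹.2.2 y))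
              rwa [e, mul_inv_rev, inv_inv] at this }
        have hgi : (⟨g, hg⟩ : ↥(normBoth (S : Subgroup G) A)) ^ i ∈ F :=
          zpow_mem (show (⟨g, hg⟩ : ↥(normBoth (S : Subgroup G) A)) ∈ F from hΦ) i
        have h3 := hgi (⟨x, hx⟩ : ↥(S : Subgroup G))
        have hn' : (frattini ↥(S : Subgroup G)).Normal := inferInstance
        refine ⟨_, hn'.mem_comm h3, ?_⟩
        show g ^ i * x * (g ^ i)⁻¹ * x⁻¹ = _
        rfl
    · rintro w ⟨s, hs, -, rfl⟩
      rw [← map_mul]
      exact (hker _).2 (by show (s : G) * s ∈ A; rw [hs]; exact one_mem _)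
    · rintro w ⟨s, -, hsA, rfl⟩
      exact fun e => hsA ((hker s).1 e)
    · rintro w ⟨s, hs, hsA, rfl⟩
      refine ⟨conjOn (S : Subgroup G) g hg.2 s, ?_, ?_, by rw [hσ, act_mk]⟩
      · show g * (s : G) * g⁻¹ * (g * s * g⁻¹) = 1
        rw [show g * (s : G) * g⁻¹ * (g * s * g⁻¹) = g * ((s : G) * s) * g⁻¹ by group, hs]
        group
      · exact fun e => hsA ((mem_normalizer_iff.1 hg.1 _).2 e)
    · rintro w ⟨s, hs, hsA, rfl⟩ u
      obtain ⟨t, rfl⟩ := QuotientGroup.mk'_surjective _ u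
      refine ⟨t * s * t⁻¹, ?_, fun e => hsA ?_, by rw [map_mul, map_mul, map_inv]⟩
      · show (t : G) * s * (t : G)⁻¹ * (t * s * (t : G)⁻¹) = 1
        rw [show (t : G) * s * (t : G)⁻¹ * (t * s * (t : G)⁻¹) = t * ((s : G) * s) * (t : G)⁻¹ by group, hs]
        group
      · exact (mem_normalizer_iff.1 (H.ctx.sylow_le_normalizer t.2) _).2 e
    · -- large classes
      rintro w ⟨s, hs, hsA, rfl⟩
      have hcl := card_class_mul s
      have hcent : Nat.card ↥(centralizer ({s} : Set ↥(S : Subgroup G))) ≤ 8 := by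
        refine le_trans ?_ (h8 ▸ D.maxc s s.2 hs hsA)
        refine Nat.card_le_card_of_injective (fun c => ⟨(c.1 : G), c.1.2, mem_centralizer_singleton_iff.2
          (congrArg Subtype.val (mem_centralizer_singleton_iff.1 c.2))⟩) fun c d e => ?_
        exact Subtype.ext (Subtype.ext (congrArg (fun x : ↥((S : Subgroup G) ⊓ centralizer {(s : G)} : Subgroup G) => (x : G)) e))
      set cS := {x : ↥(S : Subgroup G) // ∃ u, u * s * u⁻¹ = x}
      set cW := {x : Quot (S : Subgroup G) A // ∃ u, u * π s * u⁻¹ = x}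
      let pr : cS → cW := fun x => ⟨π x.1, by
        obtain ⟨u, hu⟩ := x.2
        exact ⟨π u, by rw [← map_inv, ← map_mul, ← map_mul, hu]⟩⟩
      have hsurj : Function.Surjective pr := fun y => by
        obtain ⟨u, hu⟩ := y.2
        obtain ⟨t, rfl⟩ := QuotientGroup.mk'_surjective _ u
        exact ⟨⟨t * s * t⁻¹, t, rfl⟩, Subtype.ext (by rw [← hu]; simp [pr, hπ])⟩
      have hfib : Nat.card cS ≤ Nat.card cW * 4 := by
        let emb : cS → cW × ↥(A.subgroupOf (S : Subgroup G)) := fun x =>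
          (pr x, ⟨(Function.surjInv hsurj (pr x)).1⁻¹ * x.1,
            QuotientGroup.eq.1 (congrArg Subtype.val (Function.surjInv_eq hsurj (pr x)))⟩)
        have hemb : Function.Injective emb := by
          intro x y hxy
          obtain ⟨h1, h2⟩ := Prod.ext_iff.1 hxy
          have h3 : (Function.surjInv hsurj (pr x)).1⁻¹ * x.1 = (Function.surjInv hsurj (pr y)).1⁻¹ * y.1 :=
            congrArg Subtype.val h2
          rw [show pr x = pr y from h1] at h3
          exact Subtype.ext (mul_left_cancel h3)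
        have := Nat.card_le_card_of_injective emb hemb
        rwa [Nat.card_prod, Nat.card_congr (subgroupOfEquivOfLe H.ctx.le).toEquiv, H.four] at this
      have h5 : Nat.card ↥(S : Subgroup G) ≤ Nat.card cS * 8 := hcl ▸ Nat.mul_le_mul_left _ hcent
      omega
    · -- meets
      intro M hM
      set M0 : Subgroup G := (M.comap π).map (S : Subgroup G).subtype with hM0
      by_cases hr : π ⟨r, hrS⟩ ∈ M
      · exact ⟨_, ⟨⟨r, hrS⟩, hr2, hrA, rfl⟩, hr⟩
      have hrel : M0.relIndex (S : Subgroup G) = 2 := by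
        show (M0.subgroupOf (S : Subgroup G)).index = 2
        rw [hM0, subgroupOf, comap_map_eq_self_of_injective (S : Subgroup G).subtype_injective,
          index_comap_of_surjective _ (QuotientGroup.mk'_surjective _), hM]
      have hr1 : orderOf r = 2 := orderOf_eq_prime (pow_two r ▸ hr2) fun e => hrA (e ▸ one_mem A)
      rcases S0111.result S M0 (map_subtype_le _) hrel r hr1 hrS (by
        rintro ⟨x, hx, he⟩
        exact hr ((Subtype.ext he : x = ⟨r, hrS⟩) ▸ hx)) with ⟨N, hN, hNi, -⟩ | ⟨v, hv⟩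
      · exfalso
        rcases hN.eq_bot_or_eq_top with h | h
        · rw [h, index_bot] at hNi
          obtain ⟨a, b, hab⟩ := H.ctx.nonab
          haveI : IsCyclic G := isCyclic_of_prime_card hNi
          exact hab (IsCyclic.commGroup.mul_comm a b)
        · rw [h, index_top] at hNi; omega
      · obtain ⟨x, hx, he⟩ := hv
        have he' : (x : G) = v * r * v⁻¹ := he
        refine ⟨π x, ⟨x, ?_, fun e => hrA ?_, rfl⟩, hx⟩
        · rw [he', show v * r * v⁻¹ * (v * r * v⁻¹) = v * (r * r) * v⁻¹ by group, hr2]; group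
        · have h9 := H.ctx.closed.2 _ e v⁻¹ (by rw [he']; simpa [mul_assoc] using hrS)
          rw [he'] at h9
          simpa [mul_assoc] using h9
    · -- the elementary subgroup
      set N := (S : Subgroup G) ⊓ normalizer (T : Set G) with hN
      refine ⟨(N.subgroupOf (S : Subgroup G)).map π, ?_, ?_⟩
      · have hAN : A.subgroupOf (S : Subgroup G) ≤ N.subgroupOf (S : Subgroup G) :=
          fun a ha => ⟨a.2, le_normalizer (D.base ha)⟩
        have h1 := card_mul_index ((N.subgroupOf (S : Subgroup G)).map π)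
        have h2 := card_mul_index (N.subgroupOf (S : Subgroup G))
        rw [index_map, QuotientGroup.ker_mk', sup_eq_left.2 hAN,
          MonoidHom.range_eq_top.2 (QuotientGroup.mk'_surjective _), index_top, mul_one] at h1
        rw [Nat.card_congr (subgroupOfEquivOfLe (inf_le_left : N ≤ _)).toEquiv, D.card_norm, h8, hcardS,
          ← h1] at h2
        have hne : (N.subgroupOf (S : Subgroup G)).index ≠ 0 := index_ne_zero_of_finite
        have h3 : 32 * (N.subgroupOf (S : Subgroup G)).index =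
            (4 * Nat.card ↥((N.subgroupOf (S : Subgroup G)).map π)) * (N.subgroupOf (S : Subgroup G)).index := by
          rw [show (32 : ℕ) = 4 * 8 from rfl, h2]; ring
        have h4 : 32 = 4 * Nat.card ↥((N.subgroupOf (S : Subgroup G)).map π) :=
          Nat.eq_of_mul_eq_mul_right (Nat.pos_of_ne_zero hne) h3
        exact Nat.eq_of_mul_eq_mul_left (by norm_num : 0 < 4) (h4.symm.trans (by norm_num))
      · rintro _ ⟨n, hn', rfl⟩
        rw [← map_mul]
        exact (hker _).2 (D.sq n hn')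
  obtain ⟨hW8, hWsq⟩ := hyp.structure_eight
  -- an element of order seven
  set K := (act (S : Subgroup G) A).range with hK
  have hσ1 : σ ≠ 1 := fun e => by
    obtain ⟨w, hw⟩ := hyp.moves
    refine hw ?_
    rw [e, MulAut.one_apply, inv_mul_cancel]
    exact one_mem _
  obtain ⟨y, ⟨m, hm⟩, hy7⟩ := exists_seven hW8 K (odd_range H.ctx.sylow_le_normalizer (mul_comm_of_sq hWsq))
    ⟨_, rfl⟩ hyp.three hσ1 (fun f hf => fixed_eq_one H hWsq fun n => hf _ ⟨n, rfl⟩)
  have hy3 : orderOf (y ^ 3) = 7 := by rw [orderOf_pow, hy7]; rfl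
  have hm3 : (m : G) ^ 3 ∈ centralizer (A : Set G) := pow_three_mem H m.2.1
  -- squares are trivial
  have hsqS : ∀ s : ↥(S : Subgroup G), s * s = 1 := by
    intro s
    refine Subtype.ext ?_
    show (s : G) * s = 1
    by_cases hsA : (s : G) ∈ A
    · exact H.ctx.sq hsA
    obtain ⟨j, hj⟩ := transitive_seven hW8 hy3 (v := π ⟨r, hrS⟩) (w := π s)
      (fun e => hrA ((hker _).1 e)) (fun e => hsA ((hker _).1 e))
    rw [← hm, ← map_pow, ← map_zpow, act_mk] at hj
    set z := ((m ^ 3) ^ j : ↥(normBoth (S : Subgroup G) A))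
    have hz : (z : G) ∈ centralizer (A : Set G) := by
      show (((m ^ 3) ^ j : ↥(normBoth (S : Subgroup G) A)) : G) ∈ _
      rw [Subgroup.coe_zpow, Subgroup.coe_pow]
      exact zpow_mem hm3 j
    have hmem : ((z : G) * r * (z : G)⁻¹)⁻¹ * s ∈ A := mem_subgroupOf.1 (QuotientGroup.eq.1 hj)
    set a := ((z : G) * r * (z : G)⁻¹)⁻¹ * s with ha
    have hs : (s : G) = (z : G) * r * (z : G)⁻¹ * a := by rw [ha, mul_inv_cancel_left]
    have hcomm : Commute a ((z : G) * r * (z : G)⁻¹) := by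
      have h1 : Commute a (z : G) := mem_centralizer_iff.1 hz a hmem
      exact ((h1.mul_right (hcentA a hmem r hrS)).mul_right h1.inv_right)
    rw [hs, show (z : G) * r * (z : G)⁻¹ * a * ((z : G) * r * (z : G)⁻¹ * a) =
      (z : G) * r * (z : G)⁻¹ * (a * ((z : G) * r * (z : G)⁻¹)) * a by group, hcomm.eq,
      show (z : G) * r * (z : G)⁻¹ * ((z : G) * r * (z : G)⁻¹ * a) * a =
        (z : G) * (r * r) * (z : G)⁻¹ * (a * a) by group, hr2, H.ctx.sq hmem]
    group
  have hbot : frattini ↥(S : Subgroup G) = ⊥ :=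
    le_bot_iff.1 (frattini_le_of_sq fun s => mem_bot.2 (hsqS s))
  refine H.ctx.ne ((eq_bot_iff_forall A).2 fun a ha => ?_)
  have := H.frattini (show (⟨a, H.ctx.le ha⟩ : ↥(S : Subgroup G)) ∈ A.subgroupOf (S : Subgroup G) from ha)
  rw [hbot, mem_bot] at this
  exact congrArg Subtype.val this

end Main

end Cfsg.Agent.Goldschmidt.General.Corner.Eight

namespace Cfsg.Agent.Goldschmidt.General.Corner

universe u

/-- Section E: `|T| = 8` is impossible. -/
theorem eightTarget : EightTarget.{u} := fun _ _ _ _ _ _ H _ D h8 => Eight.false_of_eight H D h8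

end Cfsg.Agent.Goldschmidt.General.Corner
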