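import Cfsg.Agent.Lib.Goldschmidt.General.Corner.Functor.Family
import Cfsg.Agent.Lib.Goldschmidt.General.Corner.Functor.Basic
import Cfsg.Agent.Lib.Signalizer.SSFT.Main
import Cfsg.Agent.Lib.Components.LocalBalance

/-!
# The functor of the corner (owner: helper87; `CORNER.md`, section F)

`W = ⟨Δ(F) : F ≤ T, |F| = 8⟩` is odd.  For each such `E` it is generated by `[⟨Δ(D) : D ≤ E⟩, E]` and
`Δ(E)`, so `C(E)` normalises it; and the `Δ(D)` of four-groups lie in `W` times the odd part of `C(T)`.

* `octClosure T`, `fourClosure E`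
* `FunctorHyp.normalizer_octClosure`
* `cornerFunctorTarget`
-/

set_option autoImplicit false
set_option linter.unusedSectionVars false
set_option linter.style.haveILetI false

namespace Cfsg.Agent.Goldschmidt.General.Corner

open Cfsg Subgroup
open scoped commutatorElement

universe u

variable {G : Type u} [Group G]

/-- The group generated by the signalizers of the subgroups of order eight. -/
def octClosure (T : Subgroup G) : Subgroup G :=
  ⨆ F : {F : Subgroup G // F ≤ T ∧ Nat.card ↥F = 8}, signalizerDelta 2 (F : Subgroup G)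

/-- The group generated by the signalizers of the four-subgroups. -/
def fourClosure (E : Subgroup G) : Subgroup G :=
  ⨆ D : {D : Subgroup G // D ≤ E ∧ Nat.card ↥D = 4}, signalizerDelta 2 (D : Subgroup G)

theorem delta_le_octClosure {T F : Subgroup G} (hF : F ≤ T) (hFk : Nat.card ↥F = 8) :
    signalizerDelta 2 F ≤ octClosure T :=
  le_iSup (fun F : {F : Subgroup G // F ≤ T ∧ Nat.card ↥F = 8} => signalizerDelta 2 (F : Subgroup G))
    ⟨F, hF, hFk⟩

theorem delta_le_fourClosure {E D : Subgroup G} (hD : D ≤ E) (hDk : Nat.card ↥D = 4) :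
    signalizerDelta 2 D ≤ fourClosure E :=
  le_iSup (fun D : {D : Subgroup G // D ≤ E ∧ Nat.card ↥D = 4} => signalizerDelta 2 (D : Subgroup G))
    ⟨D, hD, hDk⟩

variable [Finite G]

theorem centralizer_le_normalizer_delta (D : Subgroup G) :
    centralizer (D : Set G) ≤ normalizer (signalizerDelta 2 D : Set G) :=
  Signalizer.le_normalizer_of_conj_mem fun _ hc _ hx => mem_iInf.2 fun d =>
    Signalizer.conj_mem (Signalizer.centralizer_le_normalizer_core (p := 2) (d : G))
      (Signalizer.centralizer_le_singleton d.2.1 hc) (mem_iInf.1 hx d)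

theorem centralizer_le_normalizer_fourClosure (E : Subgroup G) :
    centralizer (E : Set G) ≤ normalizer (fourClosure E : Set G) :=
  Signalizer.le_normalizer_iSup fun D =>
    (centralizer_le D.2.1).trans (centralizer_le_normalizer_delta D.1)

/-- The commutator with `E` of a group normalised by `C(E)` is normalised by `C(E)`. -/
theorem centralizer_le_normalizer_commutator {E P : Subgroup G}
    (h : centralizer (E : Set G) ≤ normalizer (P : Set G)) :
    centralizer (E : Set G) ≤ normalizer ((⁅P, E⁆ : Subgroup G) : Set G) := by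
  intro c hc
  rw [mem_normalizer_iff_map_conj_eq, Subgroup.map_commutator]
  congr 1
  · exact mem_normalizer_iff_map_conj_eq.1 (h hc)
  · exact mem_normalizer_iff_map_conj_eq.1 (centralizer_le_normalizer _ hc)

theorem core_odd (a : G) : Odd (Nat.card ↥(centralizerPPrimeCore 2 a)) :=
  haveI : Fact (Nat.Prime 2) := ⟨Nat.prime_two⟩
  Nat.coprime_two_right.1 (Components.coprime_card_centralizerPPrimeCore (p := 2) a)

variable {S : Sylow 2 G} {A T : Subgroup G} (H : FunctorHyp S A T)
include H

theorem FunctorHyp.le_normalizer_delta {D : Subgroup G} (hD : D ≤ T) :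
    T ≤ normalizer (signalizerDelta 2 D : Set G) :=
  le_trans (fun _ ht => mem_centralizer_iff.2 fun _ hd => H.comm (hD hd) ht)
    (centralizer_le_normalizer_delta D)

theorem FunctorHyp.not_dvd_delta {D : Subgroup G} (hD : D ≠ ⊥) :
    ¬ 2 ∣ Nat.card ↥(signalizerDelta 2 D) := by
  haveI : Fact (Nat.Prime 2) := ⟨Nat.prime_two⟩
  obtain ⟨d, hd, hd1⟩ := (Subgroup.bot_or_exists_ne_one D).resolve_left hD
  exact Signalizer.not_dvd_card_of_le (Components.signalizerDelta_le hd hd1)
    (Signalizer.not_dvd_card_core d)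

theorem FunctorHyp.delta_le_inf (D : Subgroup G) :
    signalizerDelta 2 D ≤ Cfsg.signalizerInf D (wideCore T) :=
  le_iInf fun d => (iInf_le _ d).trans le_sup_left

/-- `Δ'(F)` is `Δ(F)` times the odd part of `C(T)`. -/
theorem FunctorHyp.inf_le {F : Subgroup G} (hF : F ≤ T) (hF1 : F ≠ ⊥) :
    Cfsg.signalizerInf F (wideCore T) ≤ signalizerDelta 2 F ⊔ oddCent T := by
  haveI : Fact (Nat.Prime 2) := ⟨Nat.prime_two⟩
  intro x hx
  obtain ⟨d₀, hd₀, hd₀1⟩ := (Subgroup.bot_or_exists_ne_one F).resolve_left hF1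
  have hkey : ∀ t ∈ T, t * x * t⁻¹ * x⁻¹ ∈ signalizerDelta 2 F := by
    intro t ht
    refine mem_iInf.2 fun d => ?_
    obtain ⟨o, ho, z, hz, rfl⟩ :=
      (H.mem_wideCore (hF d.2.1)).1 (mem_iInf.1 hx d)
    have htz : t * z = z * t := mem_centralizer_iff.1 (oddCent_le T hz) t ht
    rw [show t * (o * z) * t⁻¹ * (o * z)⁻¹ = (t * o * t⁻¹) * (t * z * t⁻¹ * z⁻¹) * o⁻¹ by group, htz,
      mul_inv_cancel_right, mul_inv_cancel, mul_one]
    exact mul_mem (Signalizer.conj_mem (Signalizer.centralizer_le_normalizer_core (p := 2) (d : G))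
      (H.le_centralizer_singleton (hF d.2.1) ht) ho) (inv_mem ho)
  obtain ⟨n, hn, hnx⟩ := Signalizer.exists_fixed_in_coset H.two (H.le_normalizer_delta hF)
    (H.not_dvd_delta hF1) x hkey
  have hnx' : n * x ∈ Cfsg.signalizerInf F (wideCore T) :=
    (Cfsg.signalizerInf F (wideCore T)).mul_mem (H.delta_le_inf F hn) hx
  have hz : n * x ∈ oddCent T :=
    H.mem_oddCent hnx (H.odd_of_wideCore (hF hd₀) (mem_iInf.1 hnx' ⟨d₀, hd₀, hd₀1⟩))
  rw [← inv_mul_cancel_left n x]
  exact mul_mem (mem_sup_left (inv_mem hn)) (mem_sup_right hz)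

theorem FunctorHyp.oddCent_le_normalizer_octClosure :
    oddCent T ≤ normalizer (octClosure T : Set G) :=
  Signalizer.le_normalizer_iSup fun F =>
    ((oddCent_le T).trans (centralizer_le F.2.1)).trans (centralizer_le_normalizer_delta F.1)

theorem FunctorHyp.le_normalizer_octClosure : T ≤ normalizer (octClosure T : Set G) :=
  Signalizer.le_normalizer_iSup fun F => H.le_normalizer_delta F.2.1

/-- The signalizer of a subgroup of order eight lies in the four-closure of every other one. -/
theorem FunctorHyp.delta_le_four {F E : Subgroup G} (hF : F ≤ T) (hFk : Nat.card ↥F = 8) (hE : E ≤ T)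
    (hEk : Nat.card ↥E = 8) : signalizerDelta 2 F ≤ fourClosure E := by
  haveI : Fact (Nat.Prime 2) := ⟨Nat.prime_two⟩
  have hEe := Signalizer.elemAb_of_le H.data.elem hE
  refine Signalizer.le_of_hyperplanes hEe (fun h => by rw [h, card_bot] at hEk; omega) _ _
    (H.not_dvd_delta fun h => by rw [h, card_bot] at hFk; omega)
    (hE.trans (H.le_normalizer_delta hF)) fun D hD hi => ?_
  have hDk : Nat.card ↥D = 4 := by
    have h := Signalizer.card_hyperplane_mul hD hi
    omega
  rintro x ⟨hx, hxD⟩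
  refine delta_le_fourClosure hD hDk (mem_iInf.2 fun d => ?_)
  exact H.balance_three hF hFk (hE (hD d.2.1)) d.2.2
    ⟨hx, Signalizer.centralizer_le_singleton d.2.1 hxD⟩

/-- The signalizers of the four-groups. -/
theorem FunctorHyp.delta_le_sup {D : Subgroup G} (hD : D ≤ T) (hDk : Nat.card ↥D = 4) :
    signalizerDelta 2 D ≤ octClosure T ⊔ oddCent T := by
  haveI : Fact (Nat.Prime 2) := ⟨Nat.prime_two⟩
  have h16 := H.sixteen
  refine Signalizer.le_of_hyperplanes H.data.elem (fun h => by rw [h, card_bot] at h16; omega) _ _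
    (H.not_dvd_delta fun h => by rw [h, card_bot] at hDk; omega)
    (H.le_normalizer_delta hD) fun F hF hi => ?_
  have hFk : Nat.card ↥F = 8 := by
    have h := Signalizer.card_hyperplane_mul hF hi
    omega
  rintro x ⟨hx, hxF⟩
  have h1 : x ∈ Cfsg.signalizerInf F (wideCore T) := mem_iInf.2 fun f =>
    H.balance_two hD hDk (hF f.2.1) f.2.2
      ⟨H.delta_le_inf D hx, Signalizer.centralizer_le_singleton f.2.1 hxF⟩
  exact sup_le_sup_right (delta_le_octClosure hF hFk) _
    (H.inf_le hF (fun h => by rw [h, card_bot] at hFk; omega) h1)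

/-- The closure is generated by `[⟨Δ(D) : D ≤ E⟩, E]` and `Δ(E)`. -/
theorem FunctorHyp.octClosure_eq {E : Subgroup G} (hE : E ≤ T) (hEk : Nat.card ↥E = 8) :
    ⁅fourClosure E, E⁆ ⊔ signalizerDelta 2 E = octClosure T := by
  haveI : Fact (Nat.Prime 2) := ⟨Nat.prime_two⟩
  refine le_antisymm (sup_le ?_ (delta_le_octClosure hE hEk)) (iSup_le fun F => ?_)
  · refine commutator_le.2 fun p hp e he => ?_
    have hp' : p ∈ octClosure T ⊔ oddCent T :=
      (iSup_le fun D : {D : Subgroup G // D ≤ E ∧ Nat.card ↥D = 4} =>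
        H.delta_le_sup (D.2.1.trans hE) D.2.2) hp
    obtain ⟨w, hw, z, hz, rfl⟩ := (Coprime.mem_sup_iff H.oddCent_le_normalizer_octClosure).1 hp'
    have hze : e * z = z * e := mem_centralizer_iff.1 (oddCent_le T hz) e (hE he)
    rw [commutatorElement_def,
      show w * z * e * (w * z)⁻¹ * e⁻¹ = w * ((z * e) * z⁻¹ * w⁻¹ * e⁻¹) by group, ← hze,
      mul_inv_cancel_right]
    exact mul_mem hw (Signalizer.conj_mem H.le_normalizer_octClosure (hE he) (inv_mem hw))
  set U : Subgroup G := ⁅fourClosure E, E⁆ ⊔ signalizerDelta 2 E with hU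
  have hF := F.2.1
  have hFk := F.2.2
  have hCE : E ≤ centralizer (E : Set G) :=
    fun x hx => mem_centralizer_iff.2 fun y hy => H.comm (hE hy) (hE hx)
  have hEU : E ≤ normalizer ((U ⊓ signalizerDelta 2 F.1 : Subgroup G) : Set G) :=
    Signalizer.le_normalizer_inf
      (Signalizer.le_normalizer_sup
        (hCE.trans (centralizer_le_normalizer_commutator (centralizer_le_normalizer_fourClosure E)))
        (hCE.trans (centralizer_le_normalizer_delta E)))
      (hE.trans (H.le_normalizer_delta hF))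
  intro x hx
  obtain ⟨n, hn, hnx⟩ := Signalizer.exists_fixed_in_coset (H.two.to_le hE) hEU
    (Signalizer.not_dvd_card_of_le inf_le_right
      (H.not_dvd_delta fun h => by rw [h, card_bot] at hFk; omega)) x fun e he => by
      refine ⟨mem_sup_left ?_, (signalizerDelta 2 F.1).mul_mem
        (Signalizer.conj_mem (H.le_normalizer_delta hF) (hE he) hx) (inv_mem hx)⟩
      rw [show e * x * e⁻¹ * x⁻¹ = ⁅e, x⁆ by rw [commutatorElement_def], ← commutatorElement_inv]
      exact inv_mem (commutator_mem_commutator (H.delta_le_four hF hFk hE hEk hx) he)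
  have h1 : n * x ∈ signalizerDelta 2 E := mem_iInf.2 fun e =>
    H.balance_three hF hFk (hE e.2.1) e.2.2
      ⟨(signalizerDelta 2 F.1).mul_mem hn.2 hx, Signalizer.centralizer_le_singleton e.2.1 hnx⟩
  rw [← inv_mul_cancel_left n x]
  exact mul_mem (inv_mem hn.1) (mem_sup_right h1)

/-- The centralisers of the subgroups of order eight normalise the closure. -/
theorem FunctorHyp.normalizer_octClosure {E : Subgroup G} (hE : E ≤ T) (hEk : Nat.card ↥E = 8) :
    centralizer (E : Set G) ≤ normalizer (octClosure T : Set G) := by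
  rw [← H.octClosure_eq hE hEk]
  exact Signalizer.le_normalizer_sup
    (centralizer_le_normalizer_commutator (centralizer_le_normalizer_fourClosure E))
    (centralizer_le_normalizer_delta E)

/-- The closure has odd order. -/
theorem FunctorHyp.not_dvd_octClosure : ¬ 2 ∣ Nat.card ↥(octClosure T) := by
  haveI : Fact (Nat.Prime 2) := ⟨Nat.prime_two⟩
  have h16 := H.sixteen
  have hodd : ∀ a ∈ T, a ≠ 1 → ¬ 2 ∣ Nat.card ↥(wideCore T a) :=
    fun a ha _ => H.not_dvd_wideCore ha
  have hθ := isSolvableSignalizerFunctor_family (p := 2) (k := 2) (by norm_num) H.data.elem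
    (by rw [h16]; norm_num) (wideCore T) (fun a ha _ => H.wideCore_le ha) hodd
    (fun a ha _ => Signalizer.le_normalizer_sup
      (Signalizer.invariant_core H.data.elem.1 ha)
      (Signalizer.le_normalizer_of_commute fun t ht z hz =>
        mem_centralizer_iff.1 (oddCent_le T hz) t ht))
    (fun a ha ha1 => OddOrderTheorem.solvable
      (Nat.odd_iff.2 (Nat.two_dvd_ne_zero.1 (hodd a ha ha1))))
    (fun D hD hDk a ha ha1 => H.balance_two hD (by rw [hDk]; norm_num) ha ha1)
  obtain ⟨-, hW, -⟩ := Signalizer.solvable_signalizer_functor H.data.elem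
    (by rw [h16]; norm_num) hθ
  refine Signalizer.not_dvd_card_of_le (iSup_le fun F => ?_) hW
  have hFk := F.2.2
  have hFe := Signalizer.elemAb_of_le H.data.elem F.2.1
  obtain ⟨D, -, hDF, hDk⟩ := Signalizer.exists_between hFe (bot_le : (⊥ : Subgroup G) ≤ F.1) le_rfl
    (k := 2) (by rw [card_bot]; norm_num) (by rw [hFk]; norm_num)
  refine Signalizer.le_of_elements hFe (by rw [hFk]; norm_num) _ _
    (H.not_dvd_delta fun h => by rw [h, card_bot] at hFk; omega)
    (F.2.1.trans (H.le_normalizer_delta F.2.1)) fun a ha ha1 => ?_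
  refine le_iSup_of_le (⟨a, F.2.1 ha, ha1⟩ : {a : G // a ∈ T ∧ a ≠ 1})
    (le_iSup_of_le ⟨D, hDF.trans F.2.1, hDk⟩ (inf_le_inf_right _ ?_))
  exact le_iInf fun d => (iInf_le _ (⟨d.1, hDF d.2.1, d.2.2⟩ : {a : G // a ∈ F.1 ∧ a ≠ 1})).trans
    le_sup_left

/-- There are no moved components at the members of `A`. -/
theorem FunctorHyp.not_moved {a : G} (ha : a ∈ A) (ha1 : a ≠ 1) (K : Subgroup (Bar a)) :
    ¬ Moved (bar A a) K := by
  intro hK
  obtain ⟨q, hq⟩ := (H.loc a ha ha1).data K hK
  have h1 : Nat.card ↥(bar A a) = 4 := by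
    have h3 := H.corner.ctx.card_pull ha (⊤ : Subgroup (Bar a))
    rw [inf_top_eq] at h3
    rw [← h3, ← H.corner.four]
    congr 2
    exact le_antisymm inf_le_left fun z hz => (H.corner.ctx.mem_pull ha hz).2 (mem_top _)
  have h4 : 4 ≤ q := by
    rcases hq.shape with h | h
    · exact h.shapeFacts.four
    · exact h.shapeFacts.four
  have h2 : 2 ≤ Nat.card ↥(General.fixer (bar A a) K) := by
    have hne : General.fixer (bar A a) K ≠ ⊥ := fun h => by
      have hmem : proj a ⟨a, H.corner.ctx.le_centralizer_of_mem ha ha⟩ ∈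
          General.fixer (bar A a) K := by
        refine ⟨⟨_, mem_subgroupOf.2 ha, rfl⟩, mem_centralizer_iff.2 fun k _ => ?_⟩
        obtain ⟨y, rfl⟩ := QuotientGroup.mk'_surjective _ k
        show proj a y * proj a _ = proj a _ * proj a y
        rw [← map_mul, ← map_mul]
        exact congrArg _ (Subtype.ext (mem_centralizer_singleton_iff.1 y.2))
      rw [h, mem_bot] at hmem
      exact ha1 (H.corner.ctx.eq_one_of_proj ha ha hmem)
    have h5 : Nat.card ↥(General.fixer (bar A a) K) ≠ 1 := fun h => hne (card_eq_one.1 h)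
    have := Nat.card_pos (α := ↥(General.fixer (bar A a) K))
    omega
  have h3 := hq.card
  rw [h1] at h3
  nlinarith

/-- A subgroup holding `N(A)` and the core holds the centraliser. -/
theorem FunctorHyp.centralizer_le {M : Subgroup G} (hN : normalizer (A : Set G) ≤ M) {a : G}
    (ha : a ∈ A) (ha1 : a ≠ 1) (hO : centralizerPPrimeCore 2 a ≤ M) :
    centralizer ({a} : Set G) ≤ M := by
  set X := centralizer ({a} : Set G)
  have htop : (M.subgroupOf X).map (proj a) = ⊤ := by
    refine (H.loc a ha ha1).decomp _ (fun z hz => ?_) fun K hK => absurd hK (H.not_moved ha ha1 K)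
    obtain ⟨z₀, rfl⟩ := QuotientGroup.mk'_surjective _ z
    obtain ⟨y, hy, hye⟩ :=
      H.corner.ctx.normalizer_lift (H.corner.ctx.le_centralizer_of_mem ha) hz
    exact ⟨y, mem_subgroupOf.2 (hN hy), hye⟩
  intro x hx
  obtain ⟨m, hm, hme⟩ := (htop ▸ mem_top (proj a ⟨x, hx⟩) :
    proj a ⟨x, hx⟩ ∈ (M.subgroupOf X).map (proj a))
  have h1 : ((m⁻¹ * ⟨x, hx⟩ : ↥X) : G) ∈ M :=
    hO ⟨_, (QuotientGroup.eq).1 hme, rfl⟩
  have h2 := mul_mem (mem_subgroupOf.1 hm) h1
  simpa using h2

/-- The step, for a non-trivial closure. -/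
theorem FunctorHyp.stronglyEmbedded (hC : Aschbacher.CoreFreeCriterion.{u})
    (hW : octClosure T ≠ ⊥) : HasStronglyEmbedded G := by
  haveI : Fact (Nat.Prime 2) := ⟨Nat.prime_two⟩
  haveI := H.corner.ctx.simple
  set N := normalizer (octClosure T : Set G) with hNdef
  have hNtop : N ≠ ⊤ := fun e => by
    rcases (normalizer_eq_top_iff.1 e).eq_bot_or_eq_top with h | h
    · exact hW h
    · obtain ⟨a, ha, ha1⟩ := (Subgroup.bot_or_exists_ne_one A).resolve_left H.corner.ctx.ne
      refine H.not_dvd_octClosure (h ▸ ?_)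
      rw [Subgroup.card_top, ← orderOf_eq_prime (p := 2) (by rw [pow_two, H.corner.ctx.sq ha]) ha1]
      exact orderOf_dvd_natCard a
  have h16 := H.sixteen
  have hON : ∀ a ∈ A, centralizerPPrimeCore 2 a ≤ N := fun a ha =>
    Signalizer.le_of_hyperplanes H.data.elem (fun h => by rw [h, card_bot] at h16; omega) _ _
      (Signalizer.not_dvd_card_core a) (Signalizer.invariant_core H.data.elem.1 (H.data.base ha))
      fun F hF hi => inf_le_right.trans (H.normalizer_octClosure hF (by
        have h := Signalizer.card_hyperplane_mul hF hi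
        omega))
  set W := ⨆ a : {a : G // a ∈ A ∧ a ≠ 1}, centralizerPPrimeCore 2 (a : G) with hWdef
  have hNA : normalizer (A : Set G) ≤ normalizer (W : Set G) := fun n hn =>
    Coprime.mem_normalizer_of_forall fun z hz => by
      have h1 : W ≤ W.comap (MulAut.conj n).toMonoidHom := iSup_le fun a y hy =>
        le_iSup (fun a : {a : G // a ∈ A ∧ a ≠ 1} => centralizerPPrimeCore 2 (a : G))
          ⟨MulAut.conj n a.1, (mem_normalizer_iff.1 hn _).1 a.2.1,
            fun h => a.2.2 ((MulAut.conj n).injective (h.trans (map_one _).symm))⟩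
          (Components.centralizerPPrimeCore_map_le (MulAut.conj n) a.1 ⟨y, hy, rfl⟩)
      exact h1 hz
  by_cases hW1 : W = ⊥
  · refine H.corner.ctx.se_of_le hC H.corner.ctx.normalizer_ne_top fun a ha ha1 =>
      H.centralizer_le le_rfl ha ha1 (le_trans ?_ bot_le)
    rw [← hW1]
    exact le_iSup (fun a : {a : G // a ∈ A ∧ a ≠ 1} => centralizerPPrimeCore 2 (a : G)) ⟨a, ha, ha1⟩
  refine H.corner.ctx.se_of_le hC (M := normalizer (W : Set G)) (fun e => ?_) fun a ha ha1 =>
    H.centralizer_le hNA ha ha1 ((le_iSup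
      (fun a : {a : G // a ∈ A ∧ a ≠ 1} => centralizerPPrimeCore 2 (a : G)) ⟨a, ha, ha1⟩).trans
      le_normalizer)
  rcases (normalizer_eq_top_iff.1 e).eq_bot_or_eq_top with h | h
  · exact hW1 h
  · exact hNtop (top_le_iff.1 (h.ge.trans (iSup_le fun a => hON a.1 a.2.1)))

end Cfsg.Agent.Goldschmidt.General.Corner

namespace Cfsg.Agent.Goldschmidt.General.Corner

universe u

/-- **The functor of the corner.** -/
theorem cornerFunctorTarget : CornerFunctorTarget.{u} := by
  intro hC G _ _ S A T hcorner hloc hdata h16 hctl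
  have H : FunctorHyp S A T := ⟨hcorner, hloc, hdata, h16, hctl⟩
  by_cases hW : octClosure T = ⊥
  · refine Or.inr fun D hD hDk => (H.delta_le_sup hD hDk).trans ?_
    rw [hW, bot_sup_eq]
    exact oddCent_le T
  · exact Or.inl (H.stronglyEmbedded hC hW)

end Cfsg.Agent.Goldschmidt.General.Corner
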