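import Cfsg.Agent.Lib.Goldschmidt.General.Corner.Basic
import Cfsg.Agent.Lib.PGroup.Basic

/-!
# The corner `|A| = 4`: a maximal centraliser (owner: helper96; section M of `../CORNER.md`)

`T` is a largest 2-subgroup over `A` centralising an involution outside `A`, and `N` a Sylow 2-subgroup of
`N_{C(A)}(T)` inside a Sylow 2-subgroup of `G`.  The elements of `N` act on `T` as transvections into `A`.

* `maximalTarget` : `MaximalTarget`
-/

set_option autoImplicit false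
set_option linter.unusedSectionVars false
set_option linter.style.haveILetI false

namespace Cfsg.Agent.Goldschmidt.General.Corner

open Cfsg Subgroup
open scoped commutatorElement

universe u

/-- A maximal 2-subgroup of `H` receives every 2-subgroup of `H` by conjugation inside `H`. -/
theorem conj_into_maximal {G : Type u} [Group G] [Finite G] {H N Q : Subgroup G} (hNH : N ≤ H)
    (hN : IsPGroup 2 ↥N) (hmax : ∀ P : Subgroup G, IsPGroup 2 ↥P → N ≤ P → P ≤ H → P = N)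
    (hQH : Q ≤ H) (hQ : IsPGroup 2 ↥Q) : ∃ k ∈ H, ∀ q ∈ Q, k * q * k⁻¹ ∈ N := by
  haveI : Fact (Nat.Prime 2) := ⟨Nat.prime_two⟩
  obtain ⟨Q', hQ'⟩ := (hQ.of_equiv (Subgroup.subgroupOfEquivOfLe hQH).symm).exists_le_sylow
  obtain ⟨N', hN'⟩ := (hN.of_equiv (Subgroup.subgroupOfEquivOfLe hNH).symm).exists_le_sylow
  obtain ⟨k, hk⟩ := MulAction.exists_smul_eq ↥H Q' N'
  have heq : (N' : Subgroup ↥H).map H.subtype = N :=
    hmax _ (N'.isPGroup'.map _) (fun n hn => ⟨⟨n, hNH hn⟩, hN' hn, rfl⟩) (map_subtype_le _)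
  refine ⟨k, k.2, fun q hq => ?_⟩
  have h1 : k * ⟨q, hQH hq⟩ * k⁻¹ ∈ (N' : Subgroup ↥H) := by
    rw [← hk, Sylow.coe_subgroup_smul, Coprime.mem_conj]
    simpa [mul_assoc] using hQ' (show (⟨q, hQH hq⟩ : ↥H) ∈ Q.subgroupOf H from hq)
  exact heq.le ⟨_, h1, rfl⟩

/-- **Section M.** -/
theorem maximalTarget : MaximalTarget.{u} := by
  intro G _ _ S A H hloc hall
  classical
  haveI : Fact (Nat.Prime 2) := ⟨Nat.prime_two⟩
  set M := centralizer (A : Set G) with hMdef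
  have hcomA : ∀ a ∈ A, ∀ m ∈ M, m * a * m⁻¹ = a := fun a ha m hm => by
    rw [← mem_centralizer_iff.1 hm a ha, mul_inv_cancel_right]
  have hAsq : ∀ a ∈ A, a * a = 1 := fun a ha => H.ctx.sq ha
  -- a largest 2-subgroup over `A` centralising an involution outside `A`
  let Pre : Set (Subgroup G) := {P | IsPGroup 2 ↥P ∧ A ≤ P ∧
    ∃ x ∈ P, x * x = 1 ∧ x ∉ A ∧ P ≤ centralizer ({x} : Set G)}
  have hne : Pre.Nonempty := by
    obtain ⟨e, he, he2, heA⟩ := H.outside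
    exact ⟨(S : Subgroup G) ⊓ centralizer ({e} : Set G), S.isPGroup'.to_le inf_le_left,
      le_inf H.ctx.le (CornerHyp.le_centralizer_singleton (H.central he)),
      e, ⟨he, mem_centralizer_singleton_iff.2 rfl⟩, he2, heA, inf_le_right⟩
  obtain ⟨T, ⟨hT2, hAT, x, hxT, hx2, hxA, hTx⟩, hmax⟩ :=
    Set.exists_max_image Pre (fun P => Nat.card ↥P) (Set.toFinite _) hne
  have hTM : T ≤ M := H.le_centralizer_of_two hT2 hAT
  have hfree₀ : ∀ (P : Subgroup G) (r : G), IsPGroup 2 ↥P → T ≤ P → r ∈ P → r * r = 1 → r ∉ A →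
      P ≤ centralizer ({r} : Set G) → P = T := fun P r hP hTP hr hr2 hrA hPr =>
    (Subgroup.eq_of_le_of_card_ge hTP (hmax P ⟨hP, hAT.trans hTP, r, hr, hr2, hrA, hPr⟩)).symm
  -- a bad element and its data
  obtain ⟨a₁, ha₁, hbad₁⟩ := hall x (hTM hxT) hx2 hxA
  set y := x * a₁ with hy
  have hyA : y ∉ A := fun h => hxA (by
    have := A.mul_mem h (A.inv_mem ha₁)
    rwa [hy, mul_inv_cancel_right] at this)
  have hTy : T ≤ centralizer ({y} : Set G) := fun t ht => mem_centralizer_singleton_iff.2 (by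
    have h1 := mem_centralizer_singleton_iff.1 (hTx ht)
    have h2 := mem_centralizer_iff.1 (hTM ht) a₁ ha₁
    rw [hy, ← mul_assoc, h1, mul_assoc, ← h2, mul_assoc])
  obtain ⟨K₀, R, g, hB⟩ := H.badAt_of_bad hT2 hAT (T.mul_mem hxT (hAT ha₁)) hyA hTy hbad₁
  have hRM : R ≤ M := hB.le.trans hTM
  have hdec : ∀ t ∈ T, ∃ a ∈ A, ∃ r ∈ R, a * r = t := fun t ht =>
    (Coprime.mem_sup_iff (hRM.trans (centralizer_le_normalizer _))).1
      (by rw [sup_comm, hB.sup]; exact ht)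
  have hdisj : ∀ r ∈ R, r ∈ A → r = 1 := fun r hr hrA =>
    mem_bot.1 (hB.disjoint ▸ (⟨hr, hrA⟩ : r ∈ R ⊓ A))
  -- `T` is not a Sylow subgroup
  have hgrow : ∀ S' : Sylow 2 G, CornerHyp G S' A → T ≤ (S' : Subgroup G) →
      ∃ n ∈ (S' : Subgroup G), n ∈ normalizer (T : Set G) ∧ n ∉ T := by
    intro S' H' hTS'
    have hne' : T.subgroupOf (S' : Subgroup G) ≠ ⊤ := by
      intro htop
      have h1 : R.subgroupOf (S' : Subgroup G) ⊔ _root_.frattini ↥(S' : Subgroup G) = ⊤ := by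
        refine top_unique (htop.ge.trans fun t ht => ?_)
        obtain ⟨a, ha, r, hr, har⟩ := hdec t ht
        have h2 : t = (⟨a, H'.ctx.le ha⟩ : ↥(S' : Subgroup G)) * ⟨r, hTS' (hB.le hr)⟩ := Subtype.ext har.symm
        rw [h2]
        exact mul_mem (mem_sup_right (H'.frattini (mem_subgroupOf.2 ha)))
          (mem_sup_left (mem_subgroupOf.2 hr))
      have h3 := frattini_nongenerating h1
      refine H.ctx.ne ((eq_bot_iff_forall _).2 fun a ha => hdisj a ?_ ha)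
      exact mem_subgroupOf.1 (h3 ▸ mem_top (⟨a, H'.ctx.le ha⟩ : ↥(S' : Subgroup G)))
    obtain ⟨n, hn, hnT⟩ := PGroup.exists_mem_normalizer_not_mem (p := 2) S'.isPGroup' hne'
    refine ⟨n, n.2, Coprime.mem_normalizer_of_forall fun t ht => ?_, fun h => hnT h⟩
    exact (mem_normalizer_iff.1 hn ⟨t, hTS' ht⟩).1 ht
  -- `T` is elementary
  have hTsq : ∀ t ∈ T, t * t = 1 := by
    by_contra hno
    push_neg at hno
    obtain ⟨t₀, ht₀, ht₀2⟩ := hno
    set D := Subgroup.closure ((fun t => t * t) '' (T : Set G)) with hD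
    have hDR : D ≤ R := by
      rw [hD, closure_le]
      rintro _ ⟨t, ht, rfl⟩
      obtain ⟨a, ha, r, hr, rfl⟩ := hdec t ht
      have h1 : a * r = r * a := mem_centralizer_iff.1 (hRM hr) a ha
      show a * r * (a * r) ∈ R
      rw [show a * r * (a * r) = a * (r * a) * r by group, ← h1,
        show a * (a * r) * r = (a * a) * (r * r) by group, hAsq a ha, one_mul]
      exact mul_mem hr hr
    obtain ⟨S', H', hTS'⟩ := H.exists_sylow hT2 hAT
    obtain ⟨n, hn, hnN, hnT⟩ := hgrow S' H' hTS'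
    set P := (S' : Subgroup G) ⊓ normalizer (T : Set G) with hP
    have hTP : T ≤ P := le_inf hTS' le_normalizer
    have hP2 : IsPGroup 2 ↥P := S'.isPGroup'.to_le inf_le_left
    have hDP : D ≤ P := hDR.trans (hB.le.trans hTP)
    haveI : (D.subgroupOf P).Normal := by
      refine ⟨fun d hd p => mem_subgroupOf.2 ?_⟩
      have h1 : D.map (MulAut.conj (p : G)).toMonoidHom ≤ D := by
        rw [hD, MonoidHom.map_closure, closure_le]
        rintro _ ⟨_, ⟨t, ht, rfl⟩, rfl⟩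
        refine subset_closure ⟨p * t * (p : G)⁻¹, (mem_normalizer_iff.1 p.2.2 t).1 ht, ?_⟩
        show (p : G) * t * (p : G)⁻¹ * ((p : G) * t * (p : G)⁻¹) = (p : G) * (t * t) * (p : G)⁻¹
        group
      exact h1 ⟨d, mem_subgroupOf.1 hd, rfl⟩
    have hDne : D.subgroupOf P ≠ ⊥ := fun e => ht₀2 (by
      have hm : t₀ * t₀ ∈ D := subset_closure ⟨t₀, ht₀, rfl⟩
      have h1 : (⟨t₀ * t₀, hDP hm⟩ : ↥P) ∈ D.subgroupOf P := mem_subgroupOf.2 hm
      rw [e, mem_bot] at h1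
      exact congrArg Subtype.val h1)
    obtain ⟨z, hzD, hzc, hzo⟩ := PGroup.exists_central_order_p (p := 2) hP2 hDne
    have hz1 : (z : G) ≠ 1 := fun e => by
      rw [show z = 1 from Subtype.ext e, orderOf_one] at hzo; omega
    have hz2 : (z : G) * z = 1 := by
      have := congrArg Subtype.val (pow_orderOf_eq_one z)
      rw [hzo] at this
      simpa [pow_two] using this
    have hPT := hfree₀ P z hP2 hTP z.2 hz2 (fun h => hz1 (hdisj _ (hDR (mem_subgroupOf.1 hzD)) h))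
      fun p hp => mem_centralizer_singleton_iff.2
        (congrArg Subtype.val (mem_center_iff.1 hzc ⟨p, hp⟩))
    exact hnT (hPT.le ⟨hn, hnN⟩)
  have hTc : ∀ s ∈ T, ∀ t ∈ T, s * t = t * s := fun s hs t ht => by
    rw [← inv_eq_of_mul_eq_one_right (hTsq _ (mul_mem hs ht)), mul_inv_rev,
      inv_eq_of_mul_eq_one_right (hTsq s hs), inv_eq_of_mul_eq_one_right (hTsq t ht)]
  have hfree : ∀ r ∈ T, r ∉ A → ∀ P : Subgroup G, IsPGroup 2 ↥P → T ≤ P →
      P ≤ centralizer ({r} : Set G) → P = T := fun r hr hrA P hP hTP hPr =>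
    hfree₀ P r hP hTP (hTP hr) (hTsq r hr) hrA hPr
  -- `N = N_S'(T)`
  set MT := normalizer (T : Set G) ⊓ M with hMT
  obtain ⟨P₀, hP₀⟩ := (hT2.of_equiv (Subgroup.subgroupOfEquivOfLe
    (show T ≤ MT from le_inf le_normalizer hTM)).symm).exists_le_sylow
  obtain ⟨S', H', hP₀S⟩ := H.exists_sylow (P := (P₀ : Subgroup ↥MT).map MT.subtype) (P₀.isPGroup'.map _)
    (fun a ha => ⟨⟨a, le_normalizer (hAT ha), hTM (hAT ha)⟩, hP₀ (mem_subgroupOf.2 (hAT ha)), rfl⟩)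
  have hTS' : T ≤ (S' : Subgroup G) := fun t ht =>
    hP₀S ⟨⟨t, le_normalizer ht, hTM ht⟩, hP₀ (mem_subgroupOf.2 ht), rfl⟩
  set N := (S' : Subgroup G) ⊓ normalizer (T : Set G) with hN
  have hNM : N ≤ M := inf_le_left.trans H'.central
  have hN2 : IsPGroup 2 ↥N := S'.isPGroup'.to_le inf_le_left
  have hNMT : N ≤ MT := le_inf inf_le_right hNM
  have hTN : T ≤ N := le_inf hTS' le_normalizer
  have hAN : A ≤ N := hAT.trans hTN
  have hNmax : ∀ P : Subgroup G, IsPGroup 2 ↥P → N ≤ P → P ≤ MT → P = N := by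
    intro P hP hNP hPMT
    refine le_antisymm (fun p hp => ?_) hNP
    have h1 : P.subgroupOf MT = (P₀ : Subgroup ↥MT) := P₀.is_maximal' (hP.comap_subtype (K := MT))
      fun q hq => hNP ⟨hP₀S ⟨q, hq, rfl⟩, q.2.1⟩
    exact ⟨hP₀S ⟨⟨p, hPMT hp⟩, h1.le (mem_subgroupOf.2 hp), rfl⟩, (hPMT hp).1⟩
  -- a 2-element centralising something outside `A` lies in `T`
  have hfreeN : ∀ r ∈ T, r ∉ A → ∀ n ∈ N, n * r = r * n → n ∈ T := fun r hr hrA n hn hnr =>
    (hfree r hr hrA (N ⊓ centralizer ({r} : Set G)) (hN2.to_le inf_le_left)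
      (le_inf hTN fun t ht => mem_centralizer_singleton_iff.2 (hTc t ht r hr)) inf_le_right).le
      ⟨hn, mem_centralizer_singleton_iff.2 hnr⟩
  -- the subgroup of transvections
  have hmulE : ∀ v w : G, v ∈ M → ∀ t, ⁅v, t⁆ ∈ A → ⁅w, t⁆ ∈ A → ⁅v * w, t⁆ = ⁅v, t⁆ * ⁅w, t⁆ := by
    intro v w hv t ha hb
    have : ⁅v * w, t⁆ = v * ⁅w, t⁆ * v⁻¹ * ⁅v, t⁆ := by simp [commutatorElement_def, mul_assoc]
    rw [this, hcomA _ hb v hv, H.comm hb ha]
  have hinvE : ∀ v : G, v ∈ M → ∀ t, ⁅v, t⁆ ∈ A → ⁅v⁻¹, t⁆ = ⁅v, t⁆ := by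
    intro v hv t ha
    have h1 : ⁅v⁻¹, t⁆ = v⁻¹ * ⁅v, t⁆⁻¹ * v⁻¹⁻¹ := by simp [commutatorElement_def, mul_assoc]
    rw [h1, hcomA _ (A.inv_mem ha) v⁻¹ (M.inv_mem hv), inv_eq_of_mul_eq_one_right (hAsq _ ha)]
  let U : Subgroup G :=
    { carrier := {v | v ∈ MT ∧ ∀ t ∈ T, ⁅v, t⁆ ∈ A}
      one_mem' := ⟨MT.one_mem, fun t _ => by rw [commutatorElement_one_left]; exact A.one_mem⟩
      mul_mem' := fun {v w} hv hw => ⟨MT.mul_mem hv.1 hw.1, fun t ht => by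
        rw [hmulE v w hv.1.2 t (hv.2 t ht) (hw.2 t ht)]; exact A.mul_mem (hv.2 t ht) (hw.2 t ht)⟩
      inv_mem' := fun {v} hv => ⟨MT.inv_mem hv.1, fun t ht => by
        rw [hinvE v hv.1.2 t (hv.2 t ht)]; exact hv.2 t ht⟩ }
  have hmemU : ∀ v, v ∈ U ↔ v ∈ MT ∧ ∀ t ∈ T, ⁅v, t⁆ ∈ A := fun v => Iff.rfl
  have hconjE : ∀ k v t : G, ⁅k * v * k⁻¹, t⁆ = k * ⁅v, k⁻¹ * t * k⁆ * k⁻¹ := fun k v t => by
    simp [commutatorElement_def, mul_assoc]
  have hTinv : ∀ k ∈ normalizer (T : Set G), ∀ t ∈ T, k⁻¹ * t * k ∈ T := fun k hk t ht => by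
    simpa using (mem_normalizer_iff.1 (inv_mem hk) t).1 ht
  -- linearity in the second argument
  have hlin : ∀ v, v ∈ U → ∀ s ∈ T, ∀ t ∈ T, ⁅v, s * t⁆ = ⁅v, s⁆ * ⁅v, t⁆ := by
    intro v hv s hs t ht
    rw [show ⁅v, s * t⁆ = ⁅v, s⁆ * (s * ⁅v, t⁆ * s⁻¹) by simp [commutatorElement_def, mul_assoc],
      hcomA _ (hv.2 t ht) s (hTM hs)]
  have hEA : ∀ v ∈ M, ∀ a ∈ A, ⁅v, a⁆ = 1 := fun v hv a ha =>
    commutatorElement_eq_one_iff_mul_comm.2 (mem_centralizer_iff.1 hv a ha).symm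
  -- the rotation
  have hgA := hB.torus_mem
  have hgR : ∀ r ∈ R, g * r * g⁻¹ = r := fun r hr => by
    rw [← mem_centralizer_iff.1 hB.torus_cent r hr, mul_inv_cancel_right]
  have hgT0 : ∀ t ∈ T, g * t * g⁻¹ * t⁻¹ ∈ A ∧ g * t * g⁻¹ ∈ T := by
    intro t ht
    obtain ⟨a, ha, r, hr, rfl⟩ := hdec t ht
    have h1 : g * a * g⁻¹ ∈ A := (mem_normalizer_iff.1 hgA a).1 ha
    rw [show g * (a * r) * g⁻¹ = (g * a * g⁻¹) * (g * r * g⁻¹) by group, hgR r hr]
    exact ⟨by rw [mul_inv_rev, show g * a * g⁻¹ * r * (r⁻¹ * a⁻¹) = g * a * g⁻¹ * a⁻¹ by group]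
              exact A.mul_mem h1 (A.inv_mem ha), T.mul_mem (hAT h1) (hB.le hr)⟩
  have hgN : g ∈ normalizer (T : Set G) := Coprime.mem_normalizer_of_forall fun t ht => (hgT0 t ht).2
  have hgM : ∀ v ∈ M, g * v * g⁻¹ ∈ M := fun v hv => mem_centralizer_iff.2 fun a ha => by
    have h1 := mem_centralizer_iff.1 hv _ ((mem_normalizer_iff.1 (inv_mem hgA) a).1 ha)
    calc a * (g * v * g⁻¹) = g * ((g⁻¹ * a * g⁻¹⁻¹) * v) * g⁻¹ := by group
      _ = g * (v * (g⁻¹ * a * g⁻¹⁻¹)) * g⁻¹ := by rw [h1]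
      _ = g * v * g⁻¹ * a := by group
  have hgfix : ∀ a ∈ A, g * a * g⁻¹ = a → a = 1 := by
    intro a ha he
    by_contra ha1
    obtain ⟨b, hb, hb1, hba⟩ := H.exists_ne ha
    obtain ⟨k, hk⟩ := hB.torus_trans a ha b hb ha1 hb1
    have hfix : ∀ j : ℕ, g ^ j * a * (g ^ j)⁻¹ = a := by
      intro j
      induction j with
      | zero => simp
      | succ j ih =>
        rw [pow_succ, show g ^ j * g * a * (g ^ j * g)⁻¹ = g ^ j * (g * a * g⁻¹) * (g ^ j)⁻¹ by group,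
          he, ih]
    exact hba (hk.symm.trans (hfix k))
  -- a transvection in `N` outside `T`
  obtain ⟨u₀, hu₀N, hu₀U, t₀, ht₀, hu₀t⟩ : ∃ u ∈ N, u ∈ U ∧ ∃ t ∈ T, ⁅u, t⁆ ≠ 1 := by
    obtain ⟨n, hn, hnN, hnT⟩ := hgrow S' H' hTS'
    have hnN' : n ∈ N := ⟨hn, hnN⟩
    set c := n * g * n⁻¹ * g⁻¹ with hc
    have hcU : c ∈ U := by
      refine ⟨⟨(normalizer (T : Set G)).mul_mem ((normalizer (T : Set G)).mul_mem ((normalizer (T : Set G)).mul_mem hnN hgN)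
          ((normalizer (T : Set G)).inv_mem hnN)) ((normalizer (T : Set G)).inv_mem hgN), ?_⟩, fun t ht => ?_⟩
      · rw [show c = n * (g * n⁻¹ * g⁻¹) by rw [hc]; group]
        exact M.mul_mem (hNM hnN') (hgM _ (M.inv_mem (hNM hnN')))
      · obtain ⟨h1, h1'⟩ := hgT0 _ (hTinv g hgN t ht)
        rw [show g * (g⁻¹ * t * g) * g⁻¹ = t by group] at h1
        set s := g⁻¹ * t * g with hs
        have hsT : s ∈ T := hTinv g hgN t ht
        obtain ⟨h2, h2'⟩ := hgT0 _ (hTinv n hnN s hsT)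
        have h3 := A.mul_mem (show n * (g * (n⁻¹ * s * n) * g⁻¹ * (n⁻¹ * s * n)⁻¹) * n⁻¹ ∈ A by
          rw [hcomA _ h2 n (hNM hnN')]; exact h2) (A.inv_mem h1)
        rw [show n * (g * (n⁻¹ * s * n) * g⁻¹ * (n⁻¹ * s * n)⁻¹) * n⁻¹ * (t * s⁻¹)⁻¹ =
          ⁅c, t⁆ by rw [hc, hs, commutatorElement_def]; group] at h3
        exact h3
    have hcne : ∃ t ∈ T, ⁅c, t⁆ ≠ 1 := by
      by_contra hall'
      push_neg at hall'
      have hnR : ∀ r ∈ R, n * r * n⁻¹ ∈ R := by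
        intro r hr
        set w := n * r * n⁻¹ with hw
        have hwT : w ∈ T := (mem_normalizer_iff.1 hnN r).1 (hB.le hr)
        have h1 : c * w = w * c := commutatorElement_eq_one_iff_mul_comm.1 (hall' w hwT)
        have hgw : g * w * g⁻¹ = w := by
          calc g * w * g⁻¹ = g * n * r * n⁻¹ * g⁻¹ := by rw [hw]; group
            _ = g * n * (g⁻¹ * (g * r * g⁻¹) * g) * n⁻¹ * g⁻¹ := by group
            _ = g * n * (g⁻¹ * r * g) * n⁻¹ * g⁻¹ := by rw [hgR r hr]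
            _ = c⁻¹ * (w * c) := by rw [hc, hw]; group
            _ = w := by rw [← h1]; group
        obtain ⟨a, ha, r', hr', har⟩ := hdec w hwT
        have h2 : g * a * g⁻¹ = a := by
          have := hgw
          rw [← har, show g * (a * r') * g⁻¹ = (g * a * g⁻¹) * (g * r' * g⁻¹) by group, hgR r' hr'] at this
          exact mul_right_cancel this
        rw [← har, hgfix a ha h2, one_mul]
        exact hr'
      have hnR' : n ∈ normalizer (R : Set G) := Coprime.mem_normalizer_of_forall hnR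
      set P := (S' : Subgroup G) ⊓ normalizer (R : Set G) with hP
      have hRP : R ≤ P := le_inf (hB.le.trans hTS') le_normalizer
      haveI : (R.subgroupOf P).Normal := ⟨fun r hr p =>
        mem_subgroupOf.2 ((mem_normalizer_iff.1 p.2.2 r).1 (mem_subgroupOf.1 hr))⟩
      have hne' : R.subgroupOf P ≠ ⊥ := fun e => hyA (by
        have h1 : (⟨y, hRP hB.mem⟩ : ↥P) ∈ R.subgroupOf P := mem_subgroupOf.2 hB.mem
        rw [e, mem_bot] at h1
        have h2 : y = 1 := congrArg Subtype.val h1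
        rw [h2]; exact A.one_mem)
      obtain ⟨z, hzR, hzc, hzo⟩ := PGroup.exists_central_order_p (p := 2)
        (S'.isPGroup'.to_le inf_le_left) hne'
      have hz1 : (z : G) ≠ 1 := fun e => by
        rw [show z = 1 from Subtype.ext e, orderOf_one] at hzo; omega
      exact hnT (hfreeN z (hB.le (mem_subgroupOf.1 hzR)) (fun h => hz1 (hdisj _ (mem_subgroupOf.1 hzR) h))
        n hnN' (congrArg Subtype.val (mem_center_iff.1 hzc ⟨n, hn, hnR'⟩)))
    obtain ⟨t, ht, hct⟩ := hcne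
    obtain ⟨k, m, hm, hkm⟩ := Nat.exists_eq_two_pow_mul_odd (orderOf_pos c).ne'
    obtain ⟨i, hi⟩ := hm
    have hev : ⁅c * c, t⁆ = 1 := by
      rw [hmulE c c hcU.1.2 t (hcU.2 t ht) (hcU.2 t ht), hAsq _ (hcU.2 t ht)]
    have hpow : ∀ j : ℕ, ⁅(c * c) ^ j, t⁆ = 1 := by
      intro j
      induction j with
      | zero => simp
      | succ j ih =>
        rw [pow_succ, hmulE _ _ (M.pow_mem (M.mul_mem hcU.1.2 hcU.1.2) j) t (ih ▸ A.one_mem)
          (hev ▸ A.one_mem), ih, hev, one_mul]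
    have hcm : ⁅c ^ m, t⁆ ≠ 1 := by
      rw [hi, pow_succ, pow_mul, pow_two, hmulE _ _ (M.pow_mem (M.mul_mem hcU.1.2 hcU.1.2) i) t
        ((hpow i) ▸ A.one_mem) (hcU.2 t ht), hpow i, one_mul]
      exact hct
    have hq : IsPGroup 2 ↥(zpowers (c ^ m)) := IsPGroup.of_card (n := k) (by
      rw [Nat.card_zpowers, orderOf_pow' _ (by omega), hkm, Nat.gcd_eq_right (dvd_mul_left _ _),
        Nat.mul_div_cancel _ (by omega)])
    obtain ⟨l, hl, hlN⟩ := conj_into_maximal hNMT hN2 hNmax (zpowers_le.2 (U.pow_mem hcU m).1) hq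
    have hcmU := U.pow_mem hcU m
    refine ⟨l * c ^ m * l⁻¹, hlN _ (mem_zpowers _), ⟨MT.mul_mem (MT.mul_mem hl hcmU.1) (MT.inv_mem hl),
      fun s hs => ?_⟩, l * t * l⁻¹, (mem_normalizer_iff.1 hl.1 t).1 ht, ?_⟩
    · rw [hconjE, hcomA _ (hcmU.2 _ (hTinv l hl.1 s hs)) l hl.2]
      exact hcmU.2 _ (hTinv l hl.1 s hs)
    · rw [hconjE, show l⁻¹ * (l * t * l⁻¹) * l = t by group, Ne, conj_eq_one_iff]
      exact hcm
  have hu₀T : u₀ ∉ T := fun h => hu₀t (commutatorElement_eq_one_iff_mul_comm.2 (hTc _ h _ ht₀))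
  -- all of `N` consists of transvections
  obtain ⟨r₀, hr₀, hr₀A, hr₀N⟩ : ∃ r ∈ T, r ∉ A ∧ ∀ n ∈ N, ⁅n, r⁆ ∈ A := by
    set A' := A.subgroupOf N with hA'
    haveI : A'.Normal := ⟨fun a ha n => mem_subgroupOf.2 (by
      have := hcomA _ (mem_subgroupOf.1 ha) n (hNM n.2)
      show (n : G) * a * (n : G)⁻¹ ∈ A
      rw [this]; exact mem_subgroupOf.1 ha)⟩
    haveI : (T.subgroupOf N).Normal := ⟨fun t ht n =>
      mem_subgroupOf.2 ((mem_normalizer_iff.1 n.2.2 t).1 (mem_subgroupOf.1 ht))⟩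
    set π := QuotientGroup.mk' A'
    haveI : ((T.subgroupOf N).map π).Normal := Subgroup.Normal.map inferInstance π (QuotientGroup.mk'_surjective A')
    have hne' : (T.subgroupOf N).map π ≠ ⊥ := fun e => hxA (by
      have h1 : π ⟨x, hTN hxT⟩ ∈ (T.subgroupOf N).map π := ⟨_, mem_subgroupOf.2 hxT, rfl⟩
      rw [e, mem_bot] at h1
      exact mem_subgroupOf.1 ((QuotientGroup.eq_one_iff (N := A') _).1 h1))
    obtain ⟨_, ⟨r, hr, rfl⟩, hrc, hro⟩ := PGroup.exists_central_order_p (p := 2) (hN2.to_quotient A') hne'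
    refine ⟨r, mem_subgroupOf.1 hr, fun h => ?_, fun n hn => ?_⟩
    · rw [show π r = 1 from (QuotientGroup.eq_one_iff r).2 (mem_subgroupOf.2 h), orderOf_one] at hro
      omega
    · have h1 : π ⁅(⟨n, hn⟩ : ↥N), r⁆ = 1 := by
        rw [map_commutatorElement, commutatorElement_eq_one_iff_mul_comm]
        exact mem_center_iff.1 hrc _
      exact mem_subgroupOf.1 ((QuotientGroup.eq_one_iff _).1 h1)
  have hNU : ∀ n ∈ N, n ∈ U := by
    intro n hn
    refine ⟨hNMT hn, fun t ht => ?_⟩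
    set u' := n * u₀ * n⁻¹ with hu'
    have hu'N : u' ∈ N := N.mul_mem (N.mul_mem hn hu₀N) (N.inv_mem hn)
    have hu'E : ∀ s ∈ T, ⁅u', s⁆ = ⁅u₀, n⁻¹ * s * n⁆ := fun s hs => by
      rw [hu', hconjE, hcomA _ (hu₀U.2 _ (hTinv n hn.2 s hs)) n (hNM hn)]
    have hu'U : u' ∈ U := ⟨hNMT hu'N, fun s hs => (hu'E s hs).symm ▸ hu₀U.2 _ (hTinv n hn.2 s hs)⟩
    have hr₀' : ⁅u', r₀⁆ = ⁅u₀, r₀⁆ := by
      rw [hu'E r₀ hr₀]
      have h1 : n⁻¹ * r₀ * n = ⁅n⁻¹, r₀⁆ * r₀ := by simp [commutatorElement_def, mul_assoc]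
      rw [h1, hlin u₀ hu₀U _ (hAT (hr₀N _ (N.inv_mem hn))) _ hr₀,
        hEA u₀ (hNM hu₀N) _ (hr₀N _ (N.inv_mem hn)), one_mul]
    have hwT : u₀⁻¹ * u' ∈ T := hfreeN r₀ hr₀ hr₀A _ (N.mul_mem (N.inv_mem hu₀N) hu'N)
      (commutatorElement_eq_one_iff_mul_comm.1 (by
        rw [hmulE _ _ (M.inv_mem (hNM hu₀N)) r₀ ((U.inv_mem hu₀U).2 r₀ hr₀) (hu'U.2 r₀ hr₀),
          hinvE _ (hNM hu₀N) r₀ (hu₀U.2 r₀ hr₀), hr₀', hAsq _ (hu₀U.2 r₀ hr₀)]))
    have hsame : ∀ s ∈ T, ⁅u', s⁆ = ⁅u₀, s⁆ := fun s hs => by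
      have h1 : ⁅u₀⁻¹ * u', s⁆ = 1 := commutatorElement_eq_one_iff_mul_comm.2 (hTc _ hwT _ hs)
      rw [hmulE _ _ (M.inv_mem (hNM hu₀N)) s ((U.inv_mem hu₀U).2 s hs) (hu'U.2 s hs),
        hinvE _ (hNM hu₀N) s (hu₀U.2 s hs)] at h1
      rw [← one_mul ⁅u', s⁆, ← hAsq _ (hu₀U.2 s hs), mul_assoc, h1, mul_one]
    set w := n * t * n⁻¹ * t⁻¹ with hw
    have hntT : n * t * n⁻¹ ∈ T := (mem_normalizer_iff.1 hn.2 t).1 ht
    have hwT' : w ∈ T := T.mul_mem hntT (T.inv_mem ht)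
    have h2 : ⁅u₀, n * t * n⁻¹⁆ = ⁅u₀, t⁆ := by
      rw [← hsame _ hntT, hu'E _ hntT, show n⁻¹ * (n * t * n⁻¹) * n = t by group]
    have h3 : ⁅u₀, w⁆ = 1 := by
      have h4 := hlin u₀ hu₀U _ hwT' _ ht
      rw [show w * t = n * t * n⁻¹ by rw [hw]; group, h2] at h4
      exact mul_eq_right.1 h4.symm
    by_contra hwA
    exact hu₀T (hfreeN w hwT' hwA u₀ hu₀N (commutatorElement_eq_one_iff_mul_comm.1 h3))
  have hNmaxU : ∀ P : Subgroup G, IsPGroup 2 ↥P → N ≤ P → P ≤ U → P = N := fun P hP hNP hPU =>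
    hNmax P hP hNP fun p hp => (hPU hp).1
  -- every value is taken
  have hsurj : ∀ r ∈ T, r ∉ A → ∀ a ∈ A, ∃ n ∈ N, ⁅n, r⁆ = a := by
    intro r hr hrA a ha
    by_cases ha1 : a = 1
    · exact ⟨1, N.one_mem, by rw [ha1, commutatorElement_one_left]⟩
    have hb1 : ⁅u₀, r⁆ ≠ 1 := fun e =>
      hu₀T (hfreeN r hr hrA u₀ hu₀N (commutatorElement_eq_one_iff_mul_comm.1 e))
    obtain ⟨k, hk⟩ := hB.torus_trans _ (hu₀U.2 r hr) a ha hb1 ha1
    set v := g ^ k * u₀ * (g ^ k)⁻¹ with hv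
    have hgk : g ^ k ∈ normalizer (A : Set G) := pow_mem hgA k
    have hvU : v ∈ U := by
      refine ⟨⟨(normalizer (T : Set G)).mul_mem ((normalizer (T : Set G)).mul_mem (pow_mem hgN k) hu₀N.2)
          ((normalizer (T : Set G)).inv_mem (pow_mem hgN k)),
        mem_centralizer_iff.2 fun b hb => ?_⟩, fun t ht => ?_⟩
      · have h1 := mem_centralizer_iff.1 (hNM hu₀N) _ ((mem_normalizer_iff.1 (inv_mem hgk) b).1 hb)
        calc b * v = g ^ k * (((g ^ k)⁻¹ * b * (g ^ k)⁻¹⁻¹) * u₀) * (g ^ k)⁻¹ := by rw [hv]; group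
          _ = g ^ k * (u₀ * ((g ^ k)⁻¹ * b * (g ^ k)⁻¹⁻¹)) * (g ^ k)⁻¹ := by rw [h1]
          _ = v * b := by rw [hv]; group
      · rw [hv, hconjE]
        exact (mem_normalizer_iff.1 hgk _).1 (hu₀U.2 _ (hTinv _ (pow_mem hgN k) t ht))
    have hvr : ⁅v, r⁆ = a := by
      obtain ⟨b, hb, r', hr', rfl⟩ := hdec r hr
      have hE : ∀ w ∈ U, ⁅w, b * r'⁆ = ⁅w, r'⁆ := fun w hw => by
        rw [hlin w hw _ (hAT hb) _ (hB.le hr'), hEA w hw.1.2 b hb, one_mul]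
      have hgr : (g ^ k)⁻¹ * r' * g ^ k = r' := by
        have h1 := mem_centralizer_iff.1 (pow_mem hB.torus_cent k) r' hr'
        rw [mul_assoc, h1, inv_mul_cancel_left]
      rw [hE v hvU, hv, hconjE, hgr, ← hE u₀ hu₀U, hk]
    -- its 2-part, moved into `N` inside `U`
    obtain ⟨j, m, hm, hjm⟩ := Nat.exists_eq_two_pow_mul_odd (orderOf_pos v).ne'
    obtain ⟨i, hi⟩ := hm
    have hev : ⁅v * v, r⁆ = 1 := by
      rw [hmulE v v hvU.1.2 r (hvU.2 r hr) (hvU.2 r hr), hAsq _ (hvU.2 r hr)]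
    have hpow : ∀ l : ℕ, ⁅(v * v) ^ l, r⁆ = 1 := by
      intro l
      induction l with
      | zero => simp
      | succ l ih =>
        rw [pow_succ, hmulE _ _ (M.pow_mem (M.mul_mem hvU.1.2 hvU.1.2) l) r (ih ▸ A.one_mem)
          (hev ▸ A.one_mem), ih, hev, one_mul]
    have hvm : ⁅v ^ m, r⁆ = a := by
      rw [hi, pow_succ, pow_mul, pow_two, hmulE _ _ (M.pow_mem (M.mul_mem hvU.1.2 hvU.1.2) i) r
        ((hpow i) ▸ A.one_mem) (hvU.2 r hr), hpow i, one_mul, hvr]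
    have hq : IsPGroup 2 ↥(zpowers (v ^ m)) := IsPGroup.of_card (n := j) (by
      rw [Nat.card_zpowers, orderOf_pow' _ (by omega), hjm, Nat.gcd_eq_right (dvd_mul_left _ _),
        Nat.mul_div_cancel _ (by omega)])
    obtain ⟨l, hl, hlN⟩ := conj_into_maximal (fun n hn => hNU n hn) hN2 hNmaxU
      (zpowers_le.2 (U.pow_mem hvU m)) hq
    refine ⟨l * v ^ m * l⁻¹, hlN _ (mem_zpowers _), ?_⟩
    have hl' : ⁅l⁻¹, r⁆ ∈ A := (U.inv_mem hl).2 r hr
    have hvmU := U.pow_mem hvU m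
    have h2 : ⁅v ^ m, l⁻¹ * r * l⁆ = a := by
      rw [show l⁻¹ * r * l = ⁅l⁻¹, r⁆ * r by simp [commutatorElement_def, mul_assoc],
        hlin _ hvmU _ (hAT hl') _ hr, hEA _ hvmU.1.2 _ hl', one_mul, hvm]
    rw [hconjE, h2, hcomA a ha l hl.1.2]
  have hsq : ∀ n ∈ N, n * n ∈ A := by
    intro n hn
    have h1 : ⁅n * n, r₀⁆ = 1 := by
      rw [hmulE n n (hNM hn) r₀ ((hNU n hn).2 r₀ hr₀) ((hNU n hn).2 r₀ hr₀), hAsq _ ((hNU n hn).2 r₀ hr₀)]
    have h2 := hfreeN r₀ hr₀ hr₀A _ (N.mul_mem hn hn) (commutatorElement_eq_one_iff_mul_comm.1 h1)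
    by_cases hnT : n ∈ T
    · rw [hTsq n hnT]; exact A.one_mem
    · by_contra h3
      exact hnT (hfreeN _ h2 h3 n hn (mul_assoc n n n).symm)
  refine ⟨S', T, H', hTS', hAT, ⟨⟨⟨fun s t => Subtype.ext (hTc s s.2 t t.2)⟩⟩, fun t ht => by
    rw [pow_two]; exact hTsq t ht⟩, ?_, ?_, ?_, ?_, hsq, ?_, ?_, ?_, ?_⟩
  · -- the order of `T`
    let φ : ↥T →* ↥A := MonoidHom.mk' (fun t => ⟨⁅u₀, (t : G)⁆, hu₀U.2 t t.2⟩)
      (fun s t => Subtype.ext (hlin u₀ hu₀U s s.2 t t.2))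
    have hker : φ.ker = A.subgroupOf T := by
      ext t
      rw [MonoidHom.mem_ker, mem_subgroupOf]
      constructor
      · intro h
        by_contra htA
        exact hu₀T (hfreeN t t.2 htA u₀ hu₀N
          (commutatorElement_eq_one_iff_mul_comm.1 (congrArg Subtype.val h)))
      · exact fun h => Subtype.ext (hEA u₀ (hNM hu₀N) t h)
    have h1 := φ.ker.card_mul_index
    rw [Subgroup.index_ker] at h1
    have h2 : Nat.card ↥φ.ker = 4 := by
      rw [hker, Nat.card_congr (subgroupOfEquivOfLe hAT).toEquiv, H.four]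
    have h3 : Nat.card ↥φ.range ∣ 4 := H.four ▸ Subgroup.card_subgroup_dvd_card _
    have h4 : Nat.card ↥φ.range ≠ 1 := fun e => by
      have hz : φ ⟨t₀, ht₀⟩ ∈ φ.range := ⟨_, rfl⟩
      rw [Subgroup.eq_bot_of_card_eq _ e, mem_bot] at hz
      exact hu₀t (congrArg Subtype.val hz)
    rw [h2] at h1
    obtain ⟨i, hi, he⟩ := (Nat.dvd_prime_pow Nat.prime_two).1 (show Nat.card ↥φ.range ∣ 2 ^ 2 from h3)
    interval_cases i
    · exact absurd he h4
    · exact Or.inl (by omega)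
    · exact Or.inr (by omega)
  · intro r hr hrA
    exact hfree r hr hrA _ (S'.isPGroup'.to_le inf_le_left)
      (le_inf hTS' fun t ht => mem_centralizer_singleton_iff.2 (hTc t ht r hr)) inf_le_right
  · exact hfree
  · let φ : ↥N →* ↥A := MonoidHom.mk' (fun n => ⟨⁅(n : G), r₀⁆, (hNU n n.2).2 r₀ hr₀⟩)
      (fun n m => Subtype.ext (hmulE n m (hNM n.2) r₀ ((hNU n n.2).2 r₀ hr₀) ((hNU m m.2).2 r₀ hr₀)))
    have hker : φ.ker = T.subgroupOf N := by
      ext n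
      rw [MonoidHom.mem_ker, mem_subgroupOf]
      constructor
      · exact fun h => hfreeN r₀ hr₀ hr₀A n n.2
          (commutatorElement_eq_one_iff_mul_comm.1 (congrArg Subtype.val h))
      · exact fun h => Subtype.ext (commutatorElement_eq_one_iff_mul_comm.2 (hTc n h r₀ hr₀))
    have hrange : φ.range = ⊤ := top_unique fun a _ => by
      obtain ⟨n, hn, he⟩ := hsurj r₀ hr₀ hr₀A a a.2
      exact ⟨⟨n, hn⟩, Subtype.ext he⟩
    have h1 := φ.ker.card_mul_index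
    rw [Subgroup.index_ker, hrange, card_top, H.four, hker,
      Nat.card_congr (subgroupOfEquivOfLe hTN).toEquiv] at h1
    rw [← h1, mul_comm]
  · intro n hn m hm
    have h1 := hsq _ (N.mul_mem hn hm)
    have h2 := A.inv_mem (hsq n hn)
    have h3 := A.inv_mem (hsq m hm)
    have e : ⁅n, m⁆ = (n * m) * (n * m) * ((m⁻¹ * (n * n)⁻¹ * m⁻¹⁻¹) * (m * m)⁻¹) := by
      rw [commutatorElement_def]; group
    rw [e, hcomA _ h2 m⁻¹ (M.inv_mem (hNM hm))]
    exact A.mul_mem h1 (A.mul_mem h2 h3)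
  · intro r hr hrA a ha
    obtain ⟨n, hn, he⟩ := hsurj r hr hrA a ha
    refine ⟨n, hn, ?_⟩
    rw [← mem_centralizer_iff.1 (hTM hr) a ha, ← he, commutatorElement_def]
    group
  · intro v hv hv2 hvA
    exact hmax _ ⟨S'.isPGroup'.to_le inf_le_left,
      le_inf H'.ctx.le (CornerHyp.le_centralizer_singleton (H'.central hv)),
      v, ⟨hv, mem_centralizer_singleton_iff.2 rfl⟩, hv2, hvA, inf_le_right⟩
  · intro r hr hrA
    obtain ⟨a, ha, hb⟩ := hall r (hTM hr) (hTsq r hr) hrA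
    obtain ⟨n, hn, he⟩ := hsurj r hr hrA a ha
    have hne' : r * a ∉ A := fun h => hrA (by
      have := A.mul_mem h (A.inv_mem ha)
      rwa [mul_inv_cancel_right] at this)
    have hb' := Bad.conj H (hTM (T.mul_mem hr (hAT ha))) hne'
      (H.mem_normalizer_of_two hN2 hAN hn) hb
    have hre : n * (r * a) * n⁻¹ = r := by
      calc n * (r * a) * n⁻¹ = (n * r * n⁻¹) * (n * a * n⁻¹) := by group
        _ = (⁅n, r⁆ * r) * a := by rw [hcomA a ha n (hNM hn), commutatorElement_def]; group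
        _ = r := by rw [he, mul_assoc, hTc r hr a (hAT ha), ← mul_assoc, hAsq a ha, one_mul]
    rw [hre] at hb'
    exact H.badAt_of_bad hT2 hAT hr hrA (fun t ht => mem_centralizer_singleton_iff.2 (hTc t ht r hr)) hb'

end Cfsg.Agent.Goldschmidt.General.Corner
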