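import Cfsg.Agent.Lib.Goldschmidt.General.Defs
import Cfsg.Agent.Lib.GWKlein.General.Main
import Cfsg.Agent.Lib.GWKlein.General.L2Facts
import Cfsg.Agent.Lib.PSL2.KleinCentre

/-!
# The centralisers of involutions in a small component (owner: helper34; `CORNER.md`, section V)

For a group `L` with `SmallFacts L 4`:
* `small_moving` : some involution of a Sylow subgroup has an odd element in its centraliser not centralising
  the Sylow subgroup
* `small_cyclic` : the odd elements of the centraliser of an involution lie in a cyclic subgroup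
* `small_inverted` : an odd element centralised by one involution and inverted by another
-/

set_option autoImplicit false
set_option linter.unusedSectionVars false
set_option linter.style.haveILetI false

namespace Cfsg.Agent.Goldschmidt.General.Corner

open Cfsg Subgroup

universe u

variable {L : Type u} [Group L] [Finite L]

theorem small_not_comm (F : SmallFacts L 4) : ¬ IsMulCommutative L := fun h => by
  haveI := F.simple
  exact top_ne_bot (α := Subgroup L) (by
    rw [← F.center]
    exact (top_unique fun x _ => mem_center_iff.2 fun g => h.is_comm.comm g x).symm)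

theorem small_klein (F : SmallFacts L 4) (P : Sylow 2 L) : IsKleinFour ↥(P : Subgroup L) := by
  obtain ⟨hE, hc⟩ := F.sylow P
  haveI : Nontrivial ↥(P : Subgroup L) := Finite.one_lt_card_iff_nontrivial.1 (by omega)
  refine { card_four := hc, exponent_two := ?_ }
  refine Nat.prime_two.eq_one_or_self_of_dvd _
    (Monoid.exponent_dvd_of_forall_pow_eq_one fun x => Subtype.ext (hE.2 x x.2)) |>.resolve_left fun h => ?_
  exact not_subsingleton ↥(P : Subgroup L) (Monoid.exp_eq_one_iff.1 h)

/-- Some centraliser of an involution is larger than the Sylow subgroup. -/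
theorem small_moving (F : SmallFacts L 4) (P : Sylow 2 L) :
    ∃ a ∈ (P : Subgroup L), a ≠ 1 ∧ ∃ z : L, Odd (orderOf z) ∧ Commute z a ∧
      ∃ b ∈ (P : Subgroup L), ¬ Commute z b := by
  haveI : Fact (Nat.Prime 2) := ⟨Nat.prime_two⟩
  by_contra hno
  push Not at hno
  haveI := F.simple
  have hP : IsMulCommutative ↥(P : Subgroup L) := (F.sylow P).1.1
  have hcen : ∀ p : {p : L // p ∈ P ∧ p ≠ 1}, centralizer ({(p : L)} : Set L) ≤
      centralizer ((P : Subgroup L) : Set L) := by
    rintro ⟨a, ha, ha1⟩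
    set C := centralizer ({a} : Set L)
    have hPC : (P : Subgroup L) ≤ C := fun q hq => mem_centralizer_singleton_iff.2
      (congrArg Subtype.val (hP.is_comm.comm ⟨q, hq⟩ ⟨a, ha⟩))
    -- the odd elements generate a normal subgroup with a 2-group as quotient
    set Q := Subgroup.closure {x : ↥C | Odd (orderOf x)}
    haveI hQn : Q.Normal := ⟨fun x hx c => by
      induction hx using Subgroup.closure_induction with
      | mem y hy => exact subset_closure (show Odd (orderOf (c * y * c⁻¹)) by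
          rwa [show orderOf (c * y * c⁻¹) = orderOf y from (MulAut.conj c).orderOf_eq y])
      | one => simp
      | mul y z _ _ h1 h2 =>
        rw [show c * (y * z) * c⁻¹ = (c * y * c⁻¹) * (c * z * c⁻¹) by group]
        exact mul_mem h1 h2
      | inv y _ h1 =>
        rw [show c * y⁻¹ * c⁻¹ = (c * y * c⁻¹)⁻¹ by group]
        exact inv_mem h1⟩
    have hquot : IsPGroup 2 (↥C ⧸ Q) := fun y => by
      obtain ⟨x, rfl⟩ := QuotientGroup.mk'_surjective Q y
      obtain ⟨k, m, hm, hkm⟩ := Nat.exists_eq_two_pow_mul_odd (orderOf_pos x).ne'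
      refine ⟨k, ?_⟩
      rw [← map_pow]
      refine (QuotientGroup.eq_one_iff _).2 (subset_closure (hm.of_dvd_nat (orderOf_dvd_of_pow_eq_one ?_)))
      rw [← pow_mul, ← hkm, pow_orderOf_eq_one]
    set P' := ((P.subtype hPC : Sylow 2 ↥C) : Subgroup ↥C)
    have hsup : P' ⊔ Q = ⊤ := by
      refine index_eq_one.1 (Nat.eq_one_of_dvd_coprimes ?_ (index_dvd_of_le (le_sup_left : P' ≤ P' ⊔ Q))
        (index_dvd_of_le (le_sup_right : Q ≤ P' ⊔ Q)))
      obtain ⟨j, hj⟩ := IsPGroup.iff_card.1 hquot
      rw [show Q.index = 2 ^ j from hj]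
      exact ((Nat.prime_two.coprime_iff_not_dvd.2 (P.subtype hPC).not_dvd_index).pow_left j).symm
    have hle : (⊤ : Subgroup ↥C) ≤ (centralizer ((P : Subgroup L) : Set L)).subgroupOf C := by
      rw [← hsup]
      refine sup_le (fun q hq => mem_subgroupOf.2 (mem_centralizer_iff.2 fun y hy => ?_)) ((closure_le _).2 ?_)
      · exact congrArg Subtype.val (hP.is_comm.comm ⟨y, hy⟩ ⟨(q : L), hq⟩)
      · intro y hy
        refine mem_subgroupOf.2 (mem_centralizer_iff.2 fun q hq => ?_)
        exact (hno a ha ha1 (y : L) (by rwa [Subgroup.orderOf_coe])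
          (mem_centralizer_singleton_iff.1 y.2) q hq).eq.symm
    exact fun x hx => mem_subgroupOf.1 (hle (mem_top ⟨x, hx⟩))
  have htop : centralizer ((P : Subgroup L) : Set L) = ⊤ := top_unique ((F.gen P).ge.trans (iSup_le hcen))
  obtain ⟨q, hq, hq1⟩ := Subgroup.bot_or_exists_ne_one (P : Subgroup L) |>.resolve_left fun e => by
    have h4 := (F.sylow P).2
    rw [e, card_bot] at h4
    omega
  refine hq1 (mem_bot.1 (F.center ▸ mem_center_iff.2 fun g => ?_))
  exact (mem_centralizer_iff.1 (show g ∈ centralizer ((P : Subgroup L) : Set L) by rw [htop]; exact mem_top g)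
    q hq).symm

/-- The odd elements of the centraliser of an involution lie in a cyclic subgroup. -/
theorem small_cyclic (F : SmallFacts L 4) {u : L} (hu : orderOf u = 2) :
    ∃ C : Subgroup L, IsCyclic ↥C ∧ ∀ x : L, Odd (orderOf x) → Commute x u → x ∈ C := by
  haveI : Fact (Nat.Prime 2) := ⟨Nat.prime_two⟩
  obtain ⟨P⟩ := (inferInstance : Nonempty (Sylow 2 L))
  obtain ⟨K, _, _, hodd, ⟨e⟩⟩ := GWKlein.kleinGW L F.simple (small_not_comm F) P (small_klein F P)
  have hodd' : Odd (Nat.card K) := by rwa [Nat.card_eq_fintype_card]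
  have hab : ∀ Q : Sylow 2 (Matrix.ProjectiveSpecialLinearGroup (Fin 2) K),
      IsMulCommutative ↥(Q : Subgroup (Matrix.ProjectiveSpecialLinearGroup (Fin 2) K)) := by
    intro Q
    let Q' : Sylow 2 L := Q.comapOfInjective (ϕ := e.toMonoidHom) e.injective fun y _ => e.surjective y
    have hQ' : IsMulCommutative ↥(Q' : Subgroup L) := (F.sylow Q').1.1
    refine ⟨⟨fun x y => Subtype.ext (e.symm.injective ?_)⟩⟩
    have hx : e.symm x ∈ (Q' : Subgroup L) := by
      show e (e.symm x) ∈ Q; rw [e.apply_symm_apply]; exact x.2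
    have hy : e.symm y ∈ (Q' : Subgroup L) := by
      show e (e.symm y) ∈ Q; rw [e.apply_symm_apply]; exact y.2
    rw [Subgroup.coe_mul, Subgroup.coe_mul, map_mul, map_mul]
    exact congrArg Subtype.val (hQ'.is_comm.comm ⟨_, hx⟩ ⟨_, hy⟩)
  have h8 := PSL2.mod_eight_of_comm hodd' hab
  have h3 : 3 < Nat.card K := by
    by_contra hle
    have hq : Nat.card K = 3 := by omega
    have hcard : Nat.card L = 12 := by
      rw [Nat.card_congr e.toEquiv]
      have h := GLOrder.card_PSL_two_of_odd (F := K) hodd'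
      rw [hq] at h
      omega
    haveI := F.simple
    obtain ⟨a, ha, ha1, z, hzo, hza, b, hb, hzb⟩ := small_moving F P
    set C := centralizer ({a} : Set L)
    have hP := (F.sylow P).1.1
    have h4 : 4 ∣ Nat.card C := (F.sylow P).2 ▸ card_dvd_of_le (fun q hq => mem_centralizer_singleton_iff.2
      (congrArg Subtype.val (hP.is_comm.comm ⟨q, hq⟩ ⟨a, ha⟩)))
    have hz1 : 1 < orderOf z := by
      rcases Nat.lt_or_ge 1 (orderOf z) with h | h
      · exact h
      · have := orderOf_pos z
        have h1 : z = 1 := orderOf_eq_one_iff.1 (by omega)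
        exact absurd (h1 ▸ Commute.one_left b) hzb
    have hd : orderOf z ∣ 12 := hcard ▸ orderOf_dvd_natCard z
    have hz3 : orderOf z = 3 := by
      have h3 : orderOf z ∣ 3 := ((Nat.coprime_two_right.2 hzo).pow_right 2).dvd_of_dvd_mul_left
        (show orderOf z ∣ 2 ^ 2 * 3 by simpa using hd)
      exact ((Nat.dvd_prime Nat.prime_three).1 h3).resolve_left (Nat.ne_of_gt hz1)
    have h3C : 3 ∣ Nat.card C := hz3 ▸ orderOf_dvd_natCard C (mem_centralizer_singleton_iff.2 hza.eq)
    have h12 : C = ⊤ := eq_top_of_card_eq _ (Nat.dvd_antisymm (card_subgroup_dvd_card C)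
      (hcard ▸ (show Nat.Coprime 4 3 by norm_num).mul_dvd_of_dvd_of_dvd h4 h3C))
    exact ha1 (mem_bot.1 (F.center ▸ mem_center_iff.2 fun g =>
      mem_centralizer_singleton_iff.1 (show g ∈ C by rw [h12]; exact mem_top g)))
  obtain ⟨n, hn⟩ := GWKlein.L2.exists_torusOrder K h8 h3
  have hu' : orderOf (e u) = 2 := (e.orderOf_eq u).trans hu
  obtain ⟨y, hy, hyu, -⟩ := hn.exists_torus hu'
  refine ⟨zpowers (e.symm y), isCyclic_zpowers _, fun x hx hc => ?_⟩
  obtain ⟨i, hi⟩ := hn.mem_torus hu' hy hyu (x := e x) (by rwa [e.orderOf_eq]) (hc.map e.toMonoidHom)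
  exact ⟨i, show e.symm y ^ i = x by rw [← map_zpow, show y ^ i = e x from hi, e.symm_apply_apply]⟩

/-- An odd element centralised by one involution of the Sylow subgroup and inverted by another. -/
theorem small_inverted (F : SmallFacts L 4) (P : Sylow 2 L) :
    ∃ a ∈ (P : Subgroup L), ∃ b ∈ (P : Subgroup L), a ≠ 1 ∧ b ∉ zpowers a ∧
      ∃ x : L, x ≠ 1 ∧ Odd (orderOf x) ∧ Commute x a ∧ b * x * b⁻¹ = x⁻¹ := by
  obtain ⟨a, ha, ha1, z, hzo, hza, b, hb, hzb⟩ := small_moving F P
  have hP := (F.sylow P).1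
  have hb2 : b * b = 1 := by rw [← pow_two]; exact hP.2 b hb
  have hab : Commute b a := congrArg Subtype.val (hP.1.is_comm.comm ⟨b, hb⟩ ⟨a, ha⟩)
  have hua : orderOf a = 2 := orderOf_eq_prime (hP.2 a ha) ha1
  obtain ⟨C, hC, hmem⟩ := small_cyclic F hua
  have hzC := hmem z hzo hza
  have hwc : Commute (b * z⁻¹ * b⁻¹) a := (hab.mul_left hza.inv_left).mul_left hab.inv_left
  have hwC := hmem (b * z⁻¹ * b⁻¹) (by
    rwa [show orderOf (b * z⁻¹ * b⁻¹) = orderOf z⁻¹ from (MulAut.conj b).orderOf_eq _, orderOf_inv]) hwc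
  haveI := hC
  have hcomm : Commute z (b * z⁻¹ * b⁻¹) :=
    congrArg Subtype.val ((IsCyclic.commGroup (α := C)).mul_comm (⟨z, hzC⟩ : C) ⟨_, hwC⟩)
  refine ⟨a, ha, b, hb, ha1, fun hbz => ?_, z * (b * z⁻¹ * b⁻¹), fun e => hzb ?_, ?_, hza.mul_left hwc, ?_⟩
  · obtain ⟨i, rfl⟩ := mem_zpowers_iff.1 hbz
    exact hzb (hza.zpow_right i)
  · have h1 := congrArg (· * b) e
    simp only [one_mul] at h1
    rw [show z * (b * z⁻¹ * b⁻¹) * b = z * b * z⁻¹ by group] at h1
    exact mul_inv_eq_iff_eq_mul.1 h1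
  · refine Odd.of_dvd_nat ?_ hcomm.orderOf_mul_dvd_mul_orderOf
    rw [show orderOf (b * z⁻¹ * b⁻¹) = orderOf z⁻¹ from (MulAut.conj b).orderOf_eq _, orderOf_inv]
    exact hzo.mul hzo
  · have hbi : b⁻¹ = b := inv_eq_of_mul_eq_one_left hb2
    rw [mul_inv_rev, mul_inv_rev, mul_inv_rev, inv_inv, inv_inv, hbi]
    calc b * (z * (b * z⁻¹ * b)) * b = b * z * b * z⁻¹ * (b * b) := by group
      _ = b * (z * b) * z⁻¹ := by rw [hb2]; group
      _ = b * z * b * z⁻¹ := by group
      _ = b * (z * b) * z⁻¹ := by group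

end Cfsg.Agent.Goldschmidt.General.Corner
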