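import Cfsg.Agent.Lib.Goldschmidt.General.Corner.Basic
import Cfsg.Agent.Lib.Goldschmidt.General.Corner.ModuleSmall
import Cfsg.Agent.Lib.Goldschmidt.General.Layers.Basic

/-!
# A bad involution: elements inverted by `A` and their lifts (owner: helper34; `CORNER.md`, section V)

* `Spot` : a bad involution of `T` with its data
* `Spot.mem_normalizer_of_commute`, `Spot.proj_mem`, `Spot.mem_core_of_inverted_two`
* `Spot.exists_lift`, `Spot.exists_lift_inverted`
* `Spot.exists_generator`, `Spot.sq_eq_one`, `Spot.exists_inverted`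
-/

set_option autoImplicit false
set_option linter.unusedSectionVars false
set_option linter.style.haveILetI false

namespace Cfsg.Agent.Goldschmidt.General.Corner

open Cfsg Subgroup Cfsg.Agent.Components
open scoped commutatorElement

universe u

/-- A bad involution of `T` with its data. -/
structure Spot {G : Type u} [Group G] [Finite G] (S : Sylow 2 G) (A T : Subgroup G) (r : G)
    (K : Subgroup (Bar r)) (R : Subgroup G) (g : G) : Prop where
  hyp : CornerHyp G S A
  data : MaxData S A T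
  mem : r ∈ T
  not_mem : r ∉ A
  bad : BadAt A T r K R g

/-- An element inverted by an involution: products. -/
theorem conj_eq_inv_pow {G : Type*} [Group G] {b z : G} (h : b * z * b⁻¹ = z⁻¹) (n : ℕ) :
    b * z ^ n * b⁻¹ = (z ^ n)⁻¹ := by
  rw [← inv_pow, ← h, conj_pow]

theorem eq_one_of_odd_sq {G : Type*} [Group G] {z : G} (hodd : Odd (orderOf z)) (h : z * z = 1) : z = 1 :=
  orderOf_eq_one_iff.1 (Nat.eq_one_of_dvd_coprimes (Nat.coprime_two_right.2 hodd) dvd_rfl
    (orderOf_dvd_of_pow_eq_one (by rw [pow_two]; exact h)))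

namespace Spot

variable {G : Type u} [Group G] [Finite G] {S : Sylow 2 G} {A T : Subgroup G} {r : G}
  {K : Subgroup (Bar r)} {R : Subgroup G} {g : G} (P : Spot S A T r K R g)
include P

theorem two : IsPGroup 2 ↥T := fun t => ⟨1, Subtype.ext (by simpa using P.data.elem.2 t t.2)⟩

theorem sq {t : G} (ht : t ∈ T) : t * t = 1 := by rw [← pow_two]; exact P.data.elem.2 t ht

theorem comm {s t : G} (hs : s ∈ T) (ht : t ∈ T) : Commute s t :=
  congrArg Subtype.val (P.data.elem.1.is_comm.comm ⟨s, hs⟩ ⟨t, ht⟩)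

theorem inv_eq {t : G} (ht : t ∈ T) : t⁻¹ = t := inv_eq_of_mul_eq_one_left (P.sq ht)

theorem le_cent : T ≤ centralizer ({r} : Set G) :=
  fun _ ht => mem_centralizer_singleton_iff.2 (P.comm ht P.mem).eq

theorem mem_centA : r ∈ centralizer (A : Set G) :=
  mem_centralizer_iff.2 fun _ ha => (P.comm (P.data.base ha) P.mem).eq

theorem eq_one_of_proj {x : ↥(centralizer ({r} : Set G))} (hx : (x : G) ∈ T) (h : proj r x = 1) :
    (x : G) = 1 := congrArg Subtype.val (proj_eq_one_of_two P.two hx h)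

theorem proj_bar {x : ↥(centralizer ({r} : Set G))} (hx : (x : G) ∈ A) : proj r x ∈ bar A r := ⟨x, hx, rfl⟩

theorem proj_part {x : ↥(centralizer ({r} : Set G))} (hx : (x : G) ∈ A) : proj r x ∈ K :=
  P.bad.part (P.proj_bar hx)

theorem commute_part {x : ↥(centralizer ({r} : Set G))} (hx : (x : G) ∈ R) {k : Bar r} (hk : k ∈ K) :
    Commute (proj r x) k :=
  (mem_centralizer_iff.1 (P.bad.cent ⟨x, hx, rfl⟩) k hk).symm

/-- What fixes a member fixes the component. -/
theorem mem_normalizer_of_commute {x : ↥(centralizer ({r} : Set G))} {a : G} (ha : a ∈ A) (ha1 : a ≠ 1)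
    (hxa : Commute (x : G) a) : proj r x ∈ normalizer (K : Set (Bar r)) := by
  set X := proj r x with hX
  by_cases hmv : Moved (bar A r) (K.map (MulAut.conj X).toMonoidHom)
  · exact Coprime.mem_normalizer_of_forall fun k hk => (P.bad.only _ hmv).le ⟨k, hk, rfl⟩
  · exfalso
    have hle := not_not.1 fun h => hmv ⟨IsComponent.conj P.bad.moved.1 X, h⟩
    set a' : ↥(centralizer ({r} : Set G)) := ⟨a, P.le_cent (P.data.base ha)⟩
    have hxa0 : Commute x a' := Subtype.ext hxa.eq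
    have hxa' : Commute X (proj r a') := hxa0.map (proj r)
    have hfix : proj r a' ∈ General.fixer (bar A r) K := by
      refine ⟨P.proj_bar (x := a') ha, mem_centralizer_iff.2 fun k hk => ?_⟩
      have h1 : proj r a' * (X * k * X⁻¹) = X * k * X⁻¹ * proj r a' :=
        mem_centralizer_iff.1 (hle ⟨k, hk, rfl⟩) _ (P.proj_bar (x := a') ha)
      have h2 : X⁻¹ * proj r a' * X = proj r a' := by
        rw [mul_assoc, ← hxa'.eq, inv_mul_cancel_left]
      calc k * proj r a' = k * (X⁻¹ * proj r a' * X) := by rw [h2]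
        _ = X⁻¹ * (X * k * X⁻¹ * proj r a') * X := by group
        _ = X⁻¹ * (proj r a' * (X * k * X⁻¹)) * X := by rw [h1]
        _ = X⁻¹ * proj r a' * X * k := by group
        _ = proj r a' * k := by rw [h2]
    rw [P.bad.fixer, mem_bot] at hfix
    exact ha1 (P.eq_one_of_proj (x := a') (P.data.base ha) hfix)

/-- What normalises `A` fixes the component. -/
theorem mem_normalizer_of_norm {x : ↥(centralizer ({r} : Set G))} (hx : (x : G) ∈ normalizer (A : Set G)) :
    proj r x ∈ normalizer (K : Set (Bar r)) := by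
  set X := proj r x with hX
  have hmv : Moved (bar A r) (K.map (MulAut.conj X).toMonoidHom) := by
    refine ⟨IsComponent.conj P.bad.moved.1 X, fun hle => P.bad.moved.2 fun k hk =>
      mem_centralizer_iff.2 ?_⟩
    rintro _ ⟨a, ha, rfl⟩
    have h1 : proj r (x * a * x⁻¹) * (X * k * X⁻¹) = X * k * X⁻¹ * proj r (x * a * x⁻¹) :=
      mem_centralizer_iff.1 (hle ⟨k, hk, rfl⟩) _
        (P.proj_bar (x := x * a * x⁻¹) ((mem_normalizer_iff.1 hx (a : G)).1 ha))
    rw [map_mul, map_mul, map_inv, ← hX] at h1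
    calc proj r a * k = X⁻¹ * (X * proj r a * X⁻¹ * (X * k * X⁻¹)) * X := by group
      _ = X⁻¹ * (X * k * X⁻¹ * (X * proj r a * X⁻¹)) * X := by rw [h1]
      _ = k * proj r a := by group
  exact Coprime.mem_normalizer_of_forall fun k hk => (P.bad.only _ hmv).le ⟨k, hk, rfl⟩

/-- An odd element fixing a member and inverted by another one maps into the component. -/
theorem proj_mem {z a b : G} (hz : z ∈ centralizer ({r} : Set G)) (ha : a ∈ A) (ha1 : a ≠ 1)
    (hza : Commute z a) (hb : b ∈ A) (hinv : b * z * b⁻¹ = z⁻¹) (hodd : Odd (orderOf z)) :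
    proj r ⟨z, hz⟩ ∈ K := by
  set z' : ↥(centralizer ({r} : Set G)) := ⟨z, hz⟩
  set b' : ↥(centralizer ({r} : Set G)) := ⟨b, P.le_cent (P.data.base hb)⟩
  have hn := P.mem_normalizer_of_commute (x := z') ha ha1 hza
  have hbK := P.proj_part (x := b') hb
  have h1 : proj r z' * proj r b' * (proj r z')⁻¹ * (proj r b')⁻¹ ∈ K :=
    mul_mem ((mem_normalizer_iff.1 hn _).1 hbK) (inv_mem hbK)
  have h2 : proj r z' * proj r b' * (proj r z')⁻¹ * (proj r b')⁻¹ = proj r z' ^ 2 := by
    rw [← map_mul, ← map_inv, ← map_mul, ← map_inv, ← map_mul, ← map_pow]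
    refine congrArg _ (Subtype.ext ?_)
    show z * b * z⁻¹ * b⁻¹ = z ^ 2
    rw [show z * b * z⁻¹ * b⁻¹ = z * (b * z * b⁻¹)⁻¹ by group, hinv, inv_inv, pow_two]
  refine Coprime.mem_of_pow_mem ?_ (h2 ▸ h1)
  refine Nat.coprime_two_right.2 (hodd.of_dvd_nat ((orderOf_map_dvd _ _).trans ?_))
  rw [← Subgroup.orderOf_coe]

/-- If it is inverted by an element of `R` too, it lies in the core. -/
theorem mem_core_of_inverted_two {z a b r' : G} (hz : z ∈ centralizer ({r} : Set G)) (ha : a ∈ A)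
    (ha1 : a ≠ 1) (hza : Commute z a) (hb : b ∈ A) (hinv : b * z * b⁻¹ = z⁻¹) (hr' : r' ∈ R)
    (hinv' : r' * z * r'⁻¹ = z⁻¹) (hodd : Odd (orderOf z)) : z ∈ centralizerPPrimeCore 2 r := by
  refine Layers.mem_core.2 ⟨hz, eq_one_of_odd_sq (hodd.of_dvd_nat ((orderOf_map_dvd _ _).trans ?_)) ?_⟩
  · rw [← Subgroup.orderOf_coe]
  set z' : ↥(centralizer ({r} : Set G)) := ⟨z, hz⟩
  set r₁ : ↥(centralizer ({r} : Set G)) := ⟨r', P.le_cent (P.bad.le hr')⟩
  have h1 := P.commute_part (x := r₁) hr' (P.proj_mem hz ha ha1 hza hb hinv hodd)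
  have h2 : proj r r₁ * proj r z' * (proj r r₁)⁻¹ = (proj r z')⁻¹ := by
    rw [← map_mul, ← map_inv, ← map_mul, ← map_inv]
    exact congrArg _ (Subtype.ext hinv')
  rw [h1.eq, mul_inv_cancel_right, eq_inv_iff_mul_eq_one] at h2
  exact h2

/-- An element commuting with the image of a subgroup of `T` is the image of one centralising it. -/
theorem exists_lift {T₀ : Subgroup G} (hT₀ : T₀ ≤ T) {x : Bar r}
    (hx : ∀ t : ↥(centralizer ({r} : Set G)), (t : G) ∈ T₀ → Commute (proj r t) x) :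
    ∃ y : ↥(centralizer ({r} : Set G)), (y : G) ∈ centralizer (T₀ : Set G) ∧ proj r y = x := by
  obtain ⟨w, rfl⟩ := QuotientGroup.mk'_surjective _ x
  have h2 : IsPGroup 2 ↥(T₀.subgroupOf (centralizer ({r} : Set G))) :=
    (P.two.to_le hT₀).comap_of_injective _ (subtype_injective _)
  obtain ⟨y, hy, hye⟩ := exists_lift_normalizer (Cores.coprime_card_pPrimeCore 2) h2 (x := w)
    (Coprime.mem_normalizer_of_forall (by
      rintro _ ⟨t, ht, rfl⟩
      refine ⟨t, ht, ?_⟩
      rw [← (hx t ht).eq, mul_inv_cancel_right]))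
  refine ⟨y, mem_centralizer_iff.2 fun t ht => ?_, hye⟩
  set t' : ↥(centralizer ({r} : Set G)) := ⟨t, P.le_cent (hT₀ ht)⟩
  have h3 : ((y * t' * y⁻¹ * t'⁻¹ : ↥(centralizer ({r} : Set G))) : G) ∈ T :=
    hT₀ (mul_mem ((mem_normalizer_iff.1 hy t').1 (mem_subgroupOf.2 ht)) (inv_mem ht))
  have h4 := P.eq_one_of_proj h3 (by
    rw [map_mul, map_mul, map_mul, map_inv, map_inv]
    show proj r y * proj r t' * (proj r y)⁻¹ * (proj r t')⁻¹ = 1
    rw [show proj r y = proj r w from hye, ← (hx t' ht).eq, mul_inv_cancel_right, mul_inv_cancel])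
  exact (mul_inv_eq_iff_eq_mul.1 (mul_inv_eq_one.1
    (show (y : G) * t * (y : G)⁻¹ * t⁻¹ = 1 from h4))).symm

/-- An element of prime order inverted by a member is the image of such a one. -/
theorem exists_lift_inverted {a b : G} (ha : a ∈ A) (hb : b ∈ A) {k : Bar r} (hk : k ∈ K) {p : ℕ}
    (hp : p.Prime) (hp2 : p ≠ 2) (hkp : k ^ p = 1)
    (hka : ∀ a' : ↥(centralizer ({r} : Set G)), (a' : G) = a → Commute (proj r a') k)
    (hkb : ∀ b' : ↥(centralizer ({r} : Set G)), (b' : G) = b → proj r b' * k * (proj r b')⁻¹ = k⁻¹) :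
    ∃ (y : G) (hy : y ∈ centralizer ({r} : Set G)), Commute y a ∧ y ∈ centralizer (R : Set G) ∧
      b * y * b⁻¹ = y⁻¹ ∧ proj r ⟨y, hy⟩ = k ∧ ∃ s : ℕ, y ^ p ^ s = 1 := by
  set C := centralizer ({r} : Set G)
  set T₀ := R ⊔ zpowers a
  have hT₀ : T₀ ≤ T := sup_le P.bad.le (zpowers_le.2 (P.data.base ha))
  have hsub : T₀.subgroupOf C ≤ (centralizer ({k} : Set (Bar r))).comap (proj r) := by
    have hle : T₀ ≤ ((centralizer ({k} : Set (Bar r))).comap (proj r)).map C.subtype := by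
      refine sup_le (fun x hx => ?_) (zpowers_le.2 ?_)
      · exact ⟨⟨x, P.le_cent (P.bad.le hx)⟩, mem_centralizer_singleton_iff.2
          (P.commute_part (x := ⟨x, _⟩) hx hk).eq, rfl⟩
      · exact ⟨⟨a, P.le_cent (P.data.base ha)⟩, mem_centralizer_singleton_iff.2 (hka _ rfl).eq, rfl⟩
    intro x hx
    obtain ⟨x', hx', hxe⟩ := hle hx
    exact (Subtype.ext hxe : x' = x) ▸ hx'
  obtain ⟨c, hc, hck⟩ := P.exists_lift hT₀ (x := k) fun t ht =>
    mem_centralizer_singleton_iff.1 (hsub (mem_subgroupOf.2 ht))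
  set b' : ↥C := ⟨b, P.le_cent (P.data.base hb)⟩
  set c' : ↥C := b' * c⁻¹ * b'⁻¹ * c with hc'
  have hbT := P.data.base hb
  have hc'T : (c' : G) ∈ centralizer (T₀ : Set G) := mem_centralizer_iff.2 fun t ht => by
    have h1 : Commute t b := P.comm (hT₀ ht) hbT
    have h2 : Commute t (c : G) := mem_centralizer_iff.1 hc t ht
    exact (((h1.mul_right h2.inv_right).mul_right h1.inv_right).mul_right h2).eq
  have hc'k : proj r c' = k ^ 2 := by
    rw [hc', map_mul, map_mul, map_mul, map_inv, map_inv, hck,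
      show proj r b' * k⁻¹ * (proj r b')⁻¹ = (proj r b' * k * (proj r b')⁻¹)⁻¹ by group, hkb b' rfl,
      inv_inv, pow_two]
  have hc'b : b * (c' : G) * b⁻¹ = (c' : G)⁻¹ := by
    show b * (b * (c : G)⁻¹ * b⁻¹ * (c : G)) * b⁻¹ = (b * (c : G)⁻¹ * b⁻¹ * (c : G))⁻¹
    calc b * (b * (c : G)⁻¹ * b⁻¹ * (c : G)) * b⁻¹
        = b * b * (c : G)⁻¹ * b⁻¹ * (c : G) * b⁻¹ := by group
      _ = (c : G)⁻¹ * b⁻¹ * (c : G) * b⁻¹ := by rw [P.sq hbT, one_mul]
      _ = (c : G)⁻¹ * b * (c : G) * b⁻¹ := by rw [P.inv_eq hbT]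
      _ = (b * (c : G)⁻¹ * b⁻¹ * (c : G))⁻¹ := by group
  obtain ⟨s, m, hm, hord⟩ := Nat.exists_eq_pow_mul_and_not_dvd (orderOf_pos (c' : G)).ne' p hp.ne_one
  have h2m : (2 * m).Coprime p := Nat.coprime_comm.1 (hp.coprime_iff_not_dvd.2 fun h => by
    rcases (Nat.Prime.dvd_mul hp).1 h with h | h
    · exact hp2 ((Nat.prime_dvd_prime_iff_eq hp Nat.prime_two).1 h)
    · exact hm h)
  obtain ⟨j, hj⟩ := exists_pow_eq_self_of_coprime (x := k) (n := 2 * m)
    (h2m.coprime_dvd_right (orderOf_dvd_of_pow_eq_one hkp))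
  set y : ↥C := c' ^ (m * j)
  refine ⟨y, y.2, ?_, ?_, ?_, ?_, s, ?_⟩
  · exact (mem_centralizer_iff.1 (pow_mem hc'T (m * j)) a (mem_sup_right (mem_zpowers a))).symm
  · exact centralizer_le (show (R : Set G) ⊆ T₀ from le_sup_left (a := R)) (pow_mem hc'T (m * j))
  · exact conj_eq_inv_pow hc'b _
  · show proj r y = k
    rw [map_pow, hc'k, ← pow_mul, ← mul_assoc, pow_mul, hj]
  · show ((c' : G) ^ (m * j)) ^ p ^ s = 1
    rw [← pow_mul, show m * j * p ^ s = orderOf (c' : G) * j by rw [hord]; ring, pow_mul,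
      pow_orderOf_eq_one, one_pow]

/-! ### The component -/

theorem cproj_bijective : Function.Bijective (cproj K) :=
  ⟨(MonoidHom.ker_eq_bot_iff _).1 (by rw [cproj, QuotientGroup.ker_mk', P.bad.simple]), cproj_surjective K⟩

theorem isSimple : IsSimpleGroup ↥K := by
  haveI := P.bad.small.simple
  haveI : Nontrivial ↥K := (cproj_surjective K).nontrivial
  exact IsSimpleGroup.isSimpleGroup_of_surjective (MulEquiv.ofBijective _ P.cproj_bijective).symm.toMonoidHom
    (MulEquiv.surjective _)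

/-- The elements of odd order of the component fixing a member are powers of one. -/
theorem exists_generator {a : ↥(centralizer ({r} : Set G))} (ha : (a : G) ∈ A) (ha1 : (a : G) ≠ 1) :
    ∃ k₀ : Bar r, ∀ z ∈ K, Odd (orderOf z) → Commute z (proj r a) → z ∈ zpowers k₀ := by
  set a' : ↥K := ⟨proj r a, P.proj_part ha⟩
  set e := MulEquiv.ofBijective _ P.cproj_bijective
  have hu : orderOf (e a') = 2 := by
    rw [e.orderOf_eq]
    refine orderOf_eq_prime (Subtype.ext ?_) fun h => ha1 ?_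
    · show proj r a ^ 2 = 1
      rw [← map_pow, show a ^ 2 = 1 from Subtype.ext (by simpa using P.data.elem.2 _ (P.data.base ha)),
        map_one]
    · exact P.eq_one_of_proj (P.data.base ha) (congrArg Subtype.val h)
  obtain ⟨C, hC, hmem⟩ := small_cyclic P.bad.small hu
  obtain ⟨c, hc⟩ := (Subgroup.isCyclic_iff_exists_zpowers_eq_top C).1 hC
  refine ⟨(e.symm c : ↥K), fun z hz hodd hza => ?_⟩
  have hza' : Commute (⟨z, hz⟩ : ↥K) a' := Subtype.ext hza.eq
  have h1 := hmem (e ⟨z, hz⟩) (by rwa [e.orderOf_eq, ← Subgroup.orderOf_coe]) (hza'.map e.toMonoidHom)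
  rw [← hc] at h1
  obtain ⟨i, hi⟩ := mem_zpowers_iff.1 h1
  refine mem_zpowers_iff.2 ⟨i, ?_⟩
  rw [← Subgroup.coe_zpow, ← map_zpow, hi, e.symm_apply_apply]

/-- Two-elements of the component have order at most two. -/
theorem sq_eq_one {x : Bar r} (hx : x ∈ K) {i : ℕ} (hi : x ^ 2 ^ i = 1) : x ^ 2 = 1 := by
  haveI : Fact (Nat.Prime 2) := ⟨Nat.prime_two⟩
  set e := MulEquiv.ofBijective _ P.cproj_bijective
  set y := e ⟨x, hx⟩
  have hy : IsPGroup 2 ↥(zpowers y) := fun z => by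
    obtain ⟨n, hn⟩ := mem_zpowers_iff.1 z.2
    refine ⟨i, Subtype.ext ?_⟩
    rw [Subgroup.coe_pow, ← hn, ← zpow_natCast, ← zpow_mul, mul_comm, zpow_mul, zpow_natCast,
      show y ^ 2 ^ i = 1 by rw [← map_pow, show (⟨x, hx⟩ : ↥K) ^ 2 ^ i = 1 from Subtype.ext hi, map_one],
      one_zpow]
    rfl
  obtain ⟨Q, hQ⟩ := hy.exists_le_sylow
  have h1 := (P.bad.small.sylow Q).1.2 y (hQ (mem_zpowers y))
  rw [← map_pow, map_eq_one_iff _ e.injective] at h1
  exact congrArg Subtype.val h1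

/-- An element of prime order centralised by one member and inverted by another. -/
theorem exists_inverted :
    ∃ a ∈ A, ∃ b ∈ A, a ≠ 1 ∧ b ≠ 1 ∧ b ≠ a ∧ ∃ k ∈ K, ∃ p : ℕ, p.Prime ∧ p ≠ 2 ∧ k ≠ 1 ∧ k ^ p = 1 ∧
      (∀ a' : ↥(centralizer ({r} : Set G)), (a' : G) = a → Commute (proj r a') k) ∧
      ∀ b' : ↥(centralizer ({r} : Set G)), (b' : G) = b → proj r b' * k * (proj r b')⁻¹ = k⁻¹ := by
  haveI : Fact (Nat.Prime 2) := ⟨Nat.prime_two⟩
  set e := MulEquiv.ofBijective _ P.cproj_bijective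
  set V := ((bar A r).subgroupOf K).map e.toMonoidHom
  have hV4 : Nat.card ↥V = 4 := by
    show Nat.card ↥(((bar A r).subgroupOf K).map e.toMonoidHom) = 4
    rw [card_map_of_injective (f := e.toMonoidHom) e.injective, Nat.card_congr (subgroupOfEquivOfLe P.bad.part).toEquiv,
      P.hyp.card_bar P.mem_centA]
  obtain ⟨Q, hQ⟩ := (IsPGroup.of_card (p := 2) (n := 2) hV4).exists_le_sylow
  have hQV : V = (Q : Subgroup _) := Subgroup.eq_of_le_of_card_ge hQ (by rw [hV4, (P.bad.small.sylow Q).2])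
  obtain ⟨a₀, ha₀, b₀, hb₀, ha1, hba, x, hx1, hxo, hxa, hxb⟩ := small_inverted P.bad.small Q
  rw [← hQV] at ha₀ hb₀
  obtain ⟨a₁, ⟨a, ha, hae⟩, rfl⟩ := ha₀
  obtain ⟨b₁, ⟨b, hb, hbe⟩, rfl⟩ := hb₀
  have key : ∀ (w : ↥(centralizer ({r} : Set G))) (w₁ : ↥K), proj r w = w₁ → (w : G) = 1 → w₁ = 1 :=
    fun w w₁ h h1 => Subtype.ext (by rw [← h, show w = 1 from Subtype.ext h1, map_one]; rfl)
  obtain ⟨p, hp, hpd⟩ := Nat.exists_prime_and_dvd (n := orderOf x) (mt orderOf_eq_one_iff.1 hx1)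
  have hp2 : p ≠ 2 := fun h => (Nat.coprime_two_right.2 hxo).symm.eq_one_of_dvd (h ▸ hpd) |> (by decide : 2 ≠ 1)
  set x' := x ^ (orderOf x / p)
  have hx'o : orderOf x' = p := orderOf_pow_orderOf_div (orderOf_pos x).ne' hpd
  have hx'p : x' ^ p = 1 := hx'o ▸ pow_orderOf_eq_one x'
  refine ⟨a, ha, b, hb, fun h => ha1 ?_, fun h => hba ?_, fun h => hba ?_, ((e.symm x' : ↥K) : Bar r),
    (e.symm x').2, p, hp, hp2, fun h => ?_, ?_, fun a' h => ?_, fun b' h => ?_⟩
  · rw [key a a₁ hae h]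
    exact map_one e
  · rw [key b b₁ hbe h]
    show e 1 ∈ _
    rw [map_one]
    exact one_mem _
  · rw [show b₁ = a₁ from Subtype.ext (hbe.symm.trans ((congrArg (proj r) (Subtype.ext h)).trans hae))]
    exact mem_zpowers _
  · have h2 : e.symm x' = 1 := Subtype.ext h
    rw [map_eq_one_iff _ e.symm.injective] at h2
    rw [h2, orderOf_one] at hx'o
    exact hp.ne_one hx'o.symm
  · rw [← Subgroup.coe_pow, ← map_pow, hx'p, map_one]
    rfl
  · rw [show a' = a from Subtype.ext h, show proj r a = (a₁ : Bar r) from hae]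
    refine Commute.map ?_ K.subtype
    have h3 := ((hxa.pow_left (orderOf x / p)).symm).map e.symm.toMonoidHom
    simpa [x'] using h3
  · rw [show b' = b from Subtype.ext h, show proj r b = (b₁ : Bar r) from hbe]
    have h3 := congrArg e.symm (conj_eq_inv_pow hxb (orderOf x / p))
    simp only [MulEquiv.coe_toMonoidHom, map_mul, map_inv, e.symm_apply_apply] at h3
    exact congrArg Subtype.val h3

/-- Some element of `R` is neither trivial nor `r`. -/
theorem exists_other (h16 : Nat.card ↥T = 16) : ∃ r' ∈ R, r' ≠ 1 ∧ r' ≠ r := by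
  by_contra hno
  push Not at hno
  have hn : A ≤ normalizer (R : Set G) := fun a ha => Coprime.mem_normalizer_of_forall fun x hx => by
    rw [(P.comm (P.data.base ha) (P.bad.le hx)).eq, mul_inv_cancel_right]
    exact hx
  let f : Bool × ↥A → ↥T := fun q =>
    ⟨(if q.1 then r else 1) * q.2, mul_mem (by cases q.1 <;> simp [one_mem, P.mem]) (P.data.base q.2.2)⟩
  have hf : Function.Surjective f := fun t => by
    obtain ⟨x, hx, a, ha, hxa⟩ := (Coprime.mem_sup_iff hn).1 (P.bad.sup.ge t.2)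
    by_cases h : x = 1
    · exact ⟨(false, ⟨a, ha⟩), Subtype.ext (by simpa [f, h] using hxa)⟩
    · exact ⟨(true, ⟨a, ha⟩), Subtype.ext (by simpa [f, hno x hx h] using hxa)⟩
  have h := Nat.card_le_card_of_surjective f hf
  rw [h16, Nat.card_prod, P.hyp.four, Nat.card_eq_fintype_card, Fintype.card_bool] at h
  omega

end Spot

end Cfsg.Agent.Goldschmidt.General.Corner
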