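import Cfsg.Agent.Lib.Goldschmidt.General.Corner.Defs
import Cfsg.Agent.Lib.Coprime.Invariant

/-!
# The largest elementary abelian `p`-quotient of a subgroup (owner: helper34; `CORNER.md`, section V)

* `PTop p M` : `M` modulo its commutators and `p`-th powers, with the action `pAct` of the normaliser
* `exists_pTop_ne` : a solvable non-trivial `M` has a non-trivial one
* `exists_lift_fixed` : coprime lifting of fixed points
-/

set_option autoImplicit false
set_option linter.unusedSectionVars false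
set_option linter.style.haveILetI false

namespace Cfsg.Agent.Goldschmidt.General.Corner

open Cfsg Subgroup
open scoped commutatorElement

universe u

variable {G : Type u} [Group G] (p : ℕ) (M : Subgroup G)

/-- The commutators and the `p`-th powers. -/
def pRad : Subgroup ↥M :=
  commutator ↥M ⊔ Subgroup.closure (Set.range fun x : ↥M => x ^ p)

theorem commutator_le_pRad : commutator ↥M ≤ pRad p M := le_sup_left

theorem pow_mem_pRad (x : ↥M) : x ^ p ∈ pRad p M :=
  le_sup_right (a := commutator ↥M) (Subgroup.subset_closure ⟨x, rfl⟩)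

instance pRad_normal : (pRad p M).Normal :=
  ⟨fun x hx g => by
    have h := mul_mem (commutator_le_pRad p M (commutator_mem_commutator (mem_top g) (mem_top x))) hx
    rwa [commutatorElement_def, show g * x * g⁻¹ * x⁻¹ * x = g * x * g⁻¹ by group] at h⟩

/-- The quotient. -/
abbrev PTop : Type u := ↥M ⧸ pRad p M

/-- The class of an element. -/
abbrev pMk : ↥M →* PTop p M := QuotientGroup.mk' (pRad p M)

theorem pTop_comm (v w : PTop p M) : v * w = w * v := by
  obtain ⟨a, rfl⟩ := QuotientGroup.mk'_surjective _ v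
  obtain ⟨b, rfl⟩ := QuotientGroup.mk'_surjective _ w
  refine commutatorElement_eq_one_iff_mul_comm.1 ?_
  rw [← map_commutatorElement]
  exact (QuotientGroup.eq_one_iff _).2
    (commutator_le_pRad p M (commutator_mem_commutator (mem_top a) (mem_top b)))

instance : CommGroup (PTop p M) :=
  { (inferInstance : Group (PTop p M)) with mul_comm := pTop_comm p M }

theorem pTop_pow (v : PTop p M) : v ^ p = 1 := by
  obtain ⟨a, rfl⟩ := QuotientGroup.mk'_surjective _ v
  rw [← map_pow]
  exact (QuotientGroup.eq_one_iff _).2 (pow_mem_pRad p M a)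

theorem pRad_map (e : ↥M ≃* ↥M) : (pRad p M).map (e : ↥M →* ↥M) = pRad p M := by
  rw [pRad, Subgroup.map_sup, MonoidHom.map_closure, _root_.commutator_def, Subgroup.map_commutator,
    Subgroup.map_top_of_surjective (e : ↥M →* ↥M) e.surjective, ← Set.range_comp]
  congr 2
  ext x
  constructor
  · rintro ⟨y, rfl⟩
    exact ⟨e y, (map_pow e y p).symm⟩
  · rintro ⟨y, rfl⟩
    exact ⟨e.symm y, by show e (e.symm y ^ p) = y ^ p; rw [map_pow, e.apply_symm_apply]⟩

/-- The action of the normaliser. -/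
def pAct : ↥(normalizer (M : Set G)) →* MulAut (PTop p M) where
  toFun n := QuotientGroup.congr _ _ (M.normalizerMonoidHom n) (pRad_map p M _)
  map_one' := MulEquiv.ext fun v => by
    obtain ⟨a, rfl⟩ := QuotientGroup.mk'_surjective _ v
    show pMk p M (M.normalizerMonoidHom 1 a) = pMk p M a
    rw [map_one]
    rfl
  map_mul' n m := MulEquiv.ext fun v => by
    obtain ⟨a, rfl⟩ := QuotientGroup.mk'_surjective _ v
    show pMk p M (M.normalizerMonoidHom (n * m) a) =
      pMk p M (M.normalizerMonoidHom n (M.normalizerMonoidHom m a))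
    rw [map_mul, MulAut.mul_apply]

theorem pAct_apply (n : ↥(normalizer (M : Set G))) (x : ↥M) :
    pAct p M n (pMk p M x) = pMk p M ⟨n * x * (n : G)⁻¹, (mem_normalizer_iff.1 n.2 x).1 x.2⟩ :=
  rfl

variable [Finite G]

/-- A non-trivial solvable subgroup has a non-trivial quotient of this kind. -/
theorem exists_pTop_ne (hM : M ≠ ⊥) (hs : Group.IsSolvable ↥M) :
    ∃ q : ℕ, q.Prime ∧ q ∣ Nat.card ↥M ∧ ∃ v : PTop q M, v ≠ 1 := by
  haveI := hs
  haveI : Nontrivial ↥M := (nontrivial_iff_ne_bot M).2 hM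
  have hne : commutator ↥M ≠ ⊤ := (Group.IsSolvable.commutator_lt_top_of_nontrivial _).ne
  set N := commutator ↥M
  obtain ⟨q, hq, hqd⟩ := Nat.exists_prime_and_dvd (n := Nat.card (↥M ⧸ N)) (fun h => hne
    (index_eq_one.1 h))
  haveI := Fact.mk hq
  obtain ⟨z, hz⟩ := exists_prime_orderOf_dvd_card' q hqd
  refine ⟨q, hq, hqd.trans (card_quotient_dvd_card N), ?_⟩
  by_contra hall
  push Not at hall
  have hle : ∀ x : ↥M, ∃ w : ↥M ⧸ N, w ^ q = QuotientGroup.mk' N x := by
    intro x
    have hx : x ∈ pRad q M := (QuotientGroup.eq_one_iff x).1 (hall (pMk q M x))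
    have hle : pRad q M ≤ (powMonoidHom q : Abelianization ↥M →* Abelianization ↥M).range.comap
        Abelianization.of := by
      refine sup_le (fun y hy => ⟨1, ?_⟩) ((closure_le _).2 ?_)
      · rw [powMonoidHom_apply, one_pow]
        exact ((QuotientGroup.eq_one_iff y).2 hy).symm
      · rintro _ ⟨y, rfl⟩
        exact ⟨Abelianization.of y, (map_pow _ _ _).symm⟩
    exact hle hx
  have hsurj : Function.Surjective fun w : ↥M ⧸ N => w ^ q := fun w => by
    obtain ⟨x, rfl⟩ := QuotientGroup.mk'_surjective _ w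
    exact hle x
  have hz1 : z = 1 := Finite.injective_iff_surjective.2 hsurj (show z ^ q = 1 ^ q by
    rw [one_pow, ← hz, pow_orderOf_eq_one])
  rw [hz1, orderOf_one] at hz
  exact hq.ne_one hz.symm

/-- **Coprime lifting of fixed points.** -/
theorem exists_lift_fixed {B : Subgroup G} (hB : B ≤ normalizer (M : Set G))
    (hcop : (Nat.card ↥B).Coprime (Nat.card ↥M)) (hs : Group.IsSolvable ↥B ∨ Group.IsSolvable ↥M)
    {v : PTop p M} (hv : ∀ b : ↥B, pAct p M (Subgroup.inclusion hB b) v = v) :
    ∃ (c : G) (hc : c ∈ M), c ∈ centralizer (B : Set G) ∧ pMk p M ⟨c, hc⟩ = v := by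
  obtain ⟨x, rfl⟩ := QuotientGroup.mk'_surjective _ v
  have hNle : (pRad p M).map M.subtype ≤ M := map_subtype_le _
  have hNn : B ≤ normalizer (((pRad p M).map M.subtype : Subgroup G) : Set G) := by
    intro b hb
    refine Coprime.mem_normalizer_of_forall ?_
    rintro _ ⟨y, hy, rfl⟩
    exact ⟨_, (pRad_map p M (M.normalizerMonoidHom ⟨b, hB hb⟩)).le ⟨y, hy, rfl⟩, rfl⟩
  obtain ⟨c, ⟨hcM, hcB⟩, hcx⟩ := Coprime.exists_mem_centralizer_of_coset hB hcop hs hNle hNn x.2
    (fun b hb => by
      have h1 := hv ⟨b, hb⟩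
      rw [pAct_apply] at h1
      refine ⟨_, (QuotientGroup.eq_one_iff
        ((⟨b * x * b⁻¹, (mem_normalizer_iff.1 (hB hb) x).1 x.2⟩ : ↥M) * x⁻¹)).1 ?_, rfl⟩
      rw [← QuotientGroup.mk'_apply, map_mul, map_inv, mul_inv_eq_one]
      exact h1)
  obtain ⟨y, hy, hyc⟩ := hcx
  refine ⟨c, hcM, hcB, ?_⟩
  have h1 : (⟨c, hcM⟩ : ↥M) = y * x := Subtype.ext (by
    show c = (y : G) * (x : G)
    rw [show (y : G) = c * (x : G)⁻¹ from hyc]; group)
  rw [h1, map_mul]
  exact mul_eq_right.2 ((QuotientGroup.eq_one_iff y).2 hy)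

end Cfsg.Agent.Goldschmidt.General.Corner
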