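import Cfsg.Agent.Lib.Goldschmidt.General.Corner.ModuleAction
import Cfsg.Agent.Lib.Goldschmidt.General.Corner.ModuleQuot
import Cfsg.Agent.Lib.Goldschmidt.General.Corner.ModuleLift
import Cfsg.Agent.Lib.Signalizer.GraphTrivial
import Cfsg.Agent.Lib.Signalizer.ElemAb
import Cfsg.Agent.Lib.Components.Basic

/-!
# Section V of the corner: the contradiction (owner: helper34; `CORNER.md`)

* `core_commute` : the complement `R` of a bad involution `r` centralises the core of `C(r)`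
* `moduleTarget`

Otherwise some `V = M / M'Mᵖ`, `M = [O(C r), r']`, admits `A` without fixed points; the fixed lines of the
members are cyclic and the component then has an element of order four.
-/

set_option autoImplicit false
set_option linter.unusedSectionVars false
set_option linter.style.haveILetI false

namespace Cfsg.Agent.Goldschmidt.General.Corner

open Cfsg Subgroup
open scoped commutatorElement

universe u

theorem eq_one_or_eq_of_mem_zpowers {G : Type*} [Group G] {a x : G} (ha : a * a = 1) (hx : x ∈ zpowers a) :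
    x = 1 ∨ x = a := by
  obtain ⟨i, rfl⟩ := mem_zpowers_iff.1 hx
  rcases Int.even_or_odd' i with ⟨j, rfl | rfl⟩
  · exact Or.inl (by rw [zpow_mul, zpow_two, ha, one_zpow])
  · exact Or.inr (by rw [zpow_add, zpow_mul, zpow_two, ha, one_zpow, one_mul, zpow_one])

/-- Odd order and order at most two. -/
theorem eq_one_of_odd_pow {G : Type*} [Group G] {f : G} {n : ℕ} (hn : Odd n) (h1 : f ^ n = 1) (h2 : f ^ 2 = 1) :
    f = 1 :=
  orderOf_eq_one_iff.1 (Nat.eq_one_of_dvd_coprimes (Nat.coprime_two_right.2 hn) (orderOf_dvd_of_pow_eq_one h1)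
    (orderOf_dvd_of_pow_eq_one h2))

variable {G : Type u} [Group G] [Finite G] {S : Sylow 2 G} {A T : Subgroup G}

theorem odd_core (x : G) : Odd (Nat.card ↥(centralizerPPrimeCore 2 x)) := by
  haveI : Fact (Nat.Prime 2) := ⟨Nat.prime_two⟩
  exact Nat.coprime_two_right.1 (Components.coprime_card_centralizerPPrimeCore (p := 2) x)

/-- **The core is centralised.** -/
theorem core_commute {r : G} {K : Subgroup (Bar r)} {R : Subgroup G} {g : G} (P : Spot S A T r K R g)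
    (hcc : CoreControl A) (hdc : DeltaCentral T) {r' : G} (hr' : r' ∈ R) {o : G}
    (ho : o ∈ centralizerPPrimeCore 2 r) : Commute r' o := by
  haveI : Fact (Nat.Prime 2) := ⟨Nat.prime_two⟩
  by_contra hor
  set C := centralizer ({r} : Set G) with hC
  set J := centralizerPPrimeCore 2 r with hJ
  have hJC : J ≤ C := map_subtype_le _
  have hJn : C ≤ normalizer (J : Set G) := fun c hc => Coprime.mem_normalizer_of_forall (by
    rintro _ ⟨j, hj, rfl⟩
    exact ⟨⟨c, hc⟩ * j * ⟨c, hc⟩⁻¹, (Cores.pPrimeCore_normal (G := ↥C) 2).conj_mem j hj _, rfl⟩)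
  have hTR : ∀ {t : G}, t ∈ R → t ∈ T := fun h => P.bad.le h
  have hr'T := hTR hr'
  have hcop : ∀ (B U : Subgroup G), B ≤ T → Odd (Nat.card ↥U) →
      (Nat.card ↥B).Coprime (Nat.card ↥U) := fun B U hB hU => by
    obtain ⟨i, hi⟩ := IsPGroup.iff_card.1 (P.two.to_le hB)
    rw [hi]
    exact (Nat.coprime_two_left.2 hU).pow_left i
  -- the module
  set Z := zpowers r' with hZ
  have hZT : Z ≤ T := zpowers_le.2 hr'T
  have hZJ : Z ≤ normalizer (J : Set G) := hZT.trans (P.le_cent.trans hJn)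
  have hsolvJ : Group.IsSolvable ↥J := OddOrderTheorem.solvable (odd_core r)
  set M := ⁅J, Z⁆ with hM
  have hMJ : M ≤ J := Coprime.commutator_le_left' hZJ
  have hMM : ⁅M, Z⁆ = M := Coprime.commutator_commutator_eq hZJ (hcop Z J hZT (odd_core r)) (Or.inr hsolvJ)
  have hMne : M ≠ ⊥ := fun h => hor (commutatorElement_eq_one_iff_mul_comm.1
    (mem_bot.1 (h ▸ commutator_mem_commutator ho (mem_zpowers r')))).symm
  have hModd : Odd (Nat.card ↥M) := (odd_core r).of_dvd_nat (card_dvd_of_le hMJ)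
  have hMn : ∀ y : G, y ∈ C → Commute y r' → y ∈ normalizer (M : Set G) := fun y hy hyr =>
    Coprime.mem_normalizer_of_forall fun m hm => by
      have h1 : M.map (MulAut.conj y).toMonoidHom ≤ M := by
        rw [hM, Subgroup.map_commutator]
        refine commutator_mono ?_ ?_
        · rintro _ ⟨j, hj, rfl⟩
          exact (mem_normalizer_iff.1 (hJn hy) j).1 hj
        · rw [hZ, MonoidHom.map_zpowers]
          exact zpowers_le.2 (mem_zpowers_iff.2 ⟨1, by simp [hyr.eq]⟩)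
      exact h1 ⟨m, hm, rfl⟩
  obtain ⟨p, hp, hpd, v₁, hv₁⟩ := exists_pTop_ne M hMne (Coprime.isSolvable_of_le hMJ hsolvJ)
  haveI := Fact.mk hp
  have hp2 : p ≠ 2 := fun h => Nat.not_even_iff_odd.2 hModd (even_iff_two_dvd.2 (h ▸ hpd))
  have hinv1 := @eq_one_of_inv (PTop p M) _ p _ hp2 (pTop_pow p M)
  set mk := pMk p M with hmk
  set ρ := pAct p M with hρ
  have hTM : T ≤ normalizer (M : Set G) := fun t ht => hMn t (P.le_cent ht) (P.comm ht hr'T)
  have hact : ∀ (n : ↥(normalizer (M : Set G))) (x y : ↥M), (n : G) * x * (n : G)⁻¹ = y →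
      ρ n (mk x) = mk y := fun n x y h => by
    rw [hρ, pAct_apply]
    exact congrArg _ (Subtype.ext h)
  -- `r'` inverts
  have hinv : ∀ v : PTop p M, ρ ⟨r', hTM hr'T⟩ v = v⁻¹ := by
    let Q : Subgroup ↥M :=
      { carrier := {y | ρ ⟨r', hTM hr'T⟩ (mk y) = (mk y)⁻¹}
        mul_mem' := fun {x y} hx hy => by
          show ρ ⟨r', hTM hr'T⟩ (mk (x * y)) = (mk (x * y))⁻¹
          rw [map_mul, map_mul, show ρ ⟨r', hTM hr'T⟩ (mk x) = _ from hx,
            show ρ ⟨r', hTM hr'T⟩ (mk y) = _ from hy, mul_inv]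
        one_mem' := by
          show ρ ⟨r', hTM hr'T⟩ (mk 1) = (mk 1)⁻¹
          rw [map_one, map_one, inv_one]
        inv_mem' := fun {x} hx => by
          show ρ ⟨r', hTM hr'T⟩ (mk x⁻¹) = (mk x⁻¹)⁻¹
          rw [map_inv, map_inv, show ρ ⟨r', hTM hr'T⟩ (mk x) = _ from hx] }
    have hle : ⁅M, Z⁆ ≤ Q.map M.subtype := commutator_le.2 fun m hm z hz => by
      rcases eq_one_or_eq_of_mem_zpowers (P.sq hr'T) hz with rfl | rfl
      · rw [commutatorElement_one_right]; exact one_mem _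
      · have hmem : ⁅m, z⁆ ∈ M := hMM.le (commutator_mem_commutator hm hz)
        refine ⟨⟨_, hmem⟩, ?_, rfl⟩
        show ρ ⟨z, hTM hr'T⟩ (mk ⟨_, hmem⟩) = (mk ⟨_, hmem⟩)⁻¹
        rw [← map_inv]
        refine hact _ _ _ ?_
        show z * (m * z * m⁻¹ * z⁻¹) * z⁻¹ = (m * z * m⁻¹ * z⁻¹)⁻¹
        calc z * (m * z * m⁻¹ * z⁻¹) * z⁻¹ = z * m * z * m⁻¹ * (z * z)⁻¹ := by group
          _ = z * m * z * m⁻¹ := by rw [P.sq hr'T, inv_one, mul_one]
          _ = z * m * z⁻¹ * m⁻¹ := by rw [P.inv_eq hr'T]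
          _ = (m * z * m⁻¹ * z⁻¹)⁻¹ := by group
    intro v
    obtain ⟨x, rfl⟩ := QuotientGroup.mk'_surjective _ v
    obtain ⟨y, hy, hye⟩ := hle (hMM.ge x.2)
    exact (Subtype.ext hye : y = x) ▸ hy
  have hkill : ∀ c : ↥M, Commute (c : G) r' → mk c = 1 := fun c hc => hinv1 (by
    rw [← hinv (mk c)]
    exact hact _ c c (by show r' * c * r'⁻¹ = c; rw [← hc.eq, mul_inv_cancel_right]))
  -- no fixed points of `A`
  have hAT := P.data.base
  have hAM : A ≤ normalizer (M : Set G) := hAT.trans hTM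
  have hrA := P.mem_centA
  have hfixA : ∀ v : PTop p M, (∀ a : ↥A, ρ (Subgroup.inclusion hAM a) v = v) → v = 1 := fun v hv => by
    obtain ⟨c, hc, hcA, rfl⟩ := exists_lift_fixed p M hAM (hcop A M hAT hModd)
      (Or.inr (Coprime.isSolvable_of_le hMJ hsolvJ)) hv
    refine hkill _ ?_
    have hcD : c ∈ signalizerDelta 2 A := mem_iInf.2 fun a =>
      hcc a a.2.1 a.2.2 r hrA (P.sq P.mem)
        ⟨hMJ hc, mem_centralizer_singleton_iff.2 (mem_centralizer_iff.1 hcA a a.2.1).symm⟩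
    exact (mem_centralizer_iff.1 (hdc A hAT P.hyp.four hcD) r' hr'T).symm
  -- the three members
  obtain ⟨⟨a, ha⟩, ha1'⟩ := ne_bot_iff_exists_ne_one.1 P.hyp.ctx.ne
  have ha1 : a ≠ 1 := fun e => ha1' (Subtype.ext e)
  have hgA := P.bad.torus_mem
  have hgR : ∀ t ∈ R, Commute g t := fun t ht => (mem_centralizer_iff.1 P.bad.torus_cent t ht).symm
  have hgC : g ∈ C := mem_centralizer_singleton_iff.2 (hgR r P.bad.mem).eq
  have hgM : g ∈ normalizer (M : Set G) := hMn g hgC (hgR r' hr')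
  set b := g * a * g⁻¹ with hb
  have hbA : b ∈ A := (mem_normalizer_iff.1 hgA a).1 ha
  have hb1 : b ≠ 1 := fun e => ha1 (conj_eq_one_iff.1 e)
  have hab : a ≠ b := fun e => by
    obtain ⟨c, hc, hc1, hca⟩ := P.hyp.exists_ne ha
    obtain ⟨k, hk⟩ := P.bad.torus_trans a ha c hc ha1 hc1
    have hga : Commute g a := by
      show g * a = a * g
      nth_rw 2 [e]
      rw [hb]; group
    exact hca (by rw [← hk, (hga.pow_left k).eq, mul_inv_cancel_right])
  have hgb : g * b * g⁻¹ = a * b := by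
    have hmem : g * b * g⁻¹ ∈ A := (mem_normalizer_iff.1 hgA b).1 hbA
    rcases P.hyp.mem_cases ha hbA hmem ha1 hb1 hab with h | h | h | h
    · exact absurd (conj_eq_one_iff.1 h) hb1
    · exfalso
      have h2 : Commute (g ^ 2) a := by
        have h3 : g ^ 2 * a * (g ^ 2)⁻¹ = a := by
          calc g ^ 2 * a * (g ^ 2)⁻¹ = g * b * g⁻¹ := by rw [hb, pow_two, mul_inv_rev]; simp [mul_assoc]
            _ = a := h
        exact mul_inv_eq_iff_eq_mul.1 h3
      obtain ⟨k, hk⟩ := exists_pow_eq_self_of_coprime (x := g) (n := 2) (Nat.coprime_two_left.2 P.bad.torus_odd)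
      have h4 := h2.pow_left k
      rw [hk] at h4
      exact hab (by rw [hb, h4.eq, mul_inv_cancel_right])
    · exact absurd (mul_left_cancel (mul_right_cancel (show g * b * g⁻¹ = g * a * g⁻¹ from h))) hab.symm
    · exact h
  set α := ρ ⟨a, hAM ha⟩ with hαdef
  set β := ρ ⟨b, hAM hbA⟩ with hβdef
  set γ := ρ ⟨g, hgM⟩ with hγdef
  have hsq : ∀ {c : G} (hc : c ∈ A), ρ ⟨c, hAM hc⟩ * ρ ⟨c, hAM hc⟩ = 1 := fun {c} hc => by
    rw [← map_mul, ← map_one ρ]
    exact congrArg _ (Subtype.ext (P.sq (hAT hc)))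
  have hαs : ∀ v, α (α v) = v := fun v => DFunLike.congr_fun (hsq ha) v
  have hβs : ∀ v, β (β v) = v := fun v => DFunLike.congr_fun (hsq hbA) v
  have hαβ' : α * β = β * α := by
    rw [hαdef, hβdef, ← map_mul, ← map_mul]
    exact congrArg _ (Subtype.ext (P.comm (hAT ha) (hAT hbA)).eq)
  have hαβ : ∀ v, α (β v) = β (α v) := fun v => DFunLike.congr_fun hαβ' v
  have hγα : ∀ v, γ (α v) = β (γ v) := fun v => DFunLike.congr_fun (show γ * α = β * γ by
    rw [hγdef, hαdef, hβdef, ← map_mul, ← map_mul]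
    exact congrArg _ (Subtype.ext (show g * a = g * a * g⁻¹ * g by group))) v
  have hγβ : ∀ v, γ (β v) = α (β (γ v)) := fun v => DFunLike.congr_fun (show γ * β = α * (β * γ) by
    rw [hγdef, hαdef, hβdef, ← map_mul, ← map_mul, ← map_mul]
    refine congrArg _ (Subtype.ext ?_)
    show g * b = a * (b * g)
    calc g * b = g * b * g⁻¹ * g := (inv_mul_cancel_right _ _).symm
      _ = a * b * g := by rw [hgb]
      _ = a * (b * g) := mul_assoc _ _ _) v
  have hfix : ∀ v, α v = v → β v = v → v = 1 := fun v hva hvb => hfixA v fun ⟨c, hc⟩ => by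
    rcases P.hyp.mem_cases ha hbA hc ha1 hb1 hab with rfl | rfl | rfl | rfl
    · exact DFunLike.congr_fun (map_one ρ) v
    · exact hva
    · exact hvb
    · show ρ ⟨a * b, _⟩ v = v
      rw [show (⟨a * b, hAM hc⟩ : ↥(normalizer (M : Set G))) = ⟨a, hAM ha⟩ * ⟨b, hAM hbA⟩ from rfl, map_mul,
        MulAut.mul_apply, hvb, hva]
  have hflip : ∀ v, α v = v → β v = v⁻¹ := fun v hv => eq_inv_of_mul_eq_one_left (hfix _
    (by rw [map_mul, hαβ, hv]) (by rw [map_mul, hβs, mul_comm]))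
  -- the fixed line of `a`
  obtain ⟨n, hn, hnr⟩ := P.data.surj r P.mem P.not_mem a ha
  have hnA : ∀ c ∈ A, Commute c n := fun c hc => mem_centralizer_iff.1 (P.hyp.central hn.1) c hc
  set Q := M ⊓ centralizer ({a} : Set G) with hQ
  have hQa : ∀ x ∈ Q, Commute x a := fun x hx => mem_centralizer_singleton_iff.1 hx.2
  have hQr : ∀ x ∈ Q, Commute x r := fun x hx => mem_centralizer_singleton_iff.1 (hJC (hMJ hx.1))
  have hQn : ∀ x : ↥Q, (MulAut.conj n⁻¹).toMonoidHom.comp Q.subtype x ∈ C := fun x =>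
    mem_centralizer_singleton_iff.2 (by
      show n⁻¹ * (x : G) * n⁻¹⁻¹ * r = r * (n⁻¹ * (x : G) * n⁻¹⁻¹)
      have h1 : n⁻¹ * (r * a) * n = r := by rw [← hnr]; group
      have h2 : Commute (x : G) (r * a) := (hQr x x.2).mul_right (hQa x x.2)
      calc n⁻¹ * (x : G) * n⁻¹⁻¹ * r = n⁻¹ * (x : G) * n⁻¹⁻¹ * (n⁻¹ * (r * a) * n) := by rw [h1]
        _ = n⁻¹ * ((x : G) * (r * a)) * n := by group
        _ = n⁻¹ * ((r * a) * (x : G)) * n := by rw [h2.eq]
        _ = n⁻¹ * (r * a) * n * (n⁻¹ * (x : G) * n⁻¹⁻¹) := by group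
        _ = r * (n⁻¹ * (x : G) * n⁻¹⁻¹) := by rw [h1])
  let θ : ↥Q →* ↥C := ((MulAut.conj n⁻¹).toMonoidHom.comp Q.subtype).codRestrict C hQn
  set φ : ↥Q →* Bar r := (proj r).comp θ with hφ
  set ψ : ↥Q →* PTop p M := mk.comp (Subgroup.inclusion inf_le_left) with hψ
  have hθ : ∀ x, ((θ x : ↥C) : G) = n⁻¹ * (x : G) * n⁻¹⁻¹ := fun x => rfl
  have hker : ∀ x, φ x = 1 → ψ x = 1 := fun x hx => hkill _ (by
    show Commute (x : G) r'
    set D := zpowers a ⊔ zpowers r with hD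
    have hDT : D ≤ T := sup_le (zpowers_le.2 (hAT ha)) (zpowers_le.2 P.mem)
    have hrD : r ∉ zpowers a := fun h => P.not_mem ((zpowers_le.2 ha) h)
    have hD4 : Nat.card ↥D = 4 := by
      rw [hD, Signalizer.card_sup_zpowers P.data.elem (zpowers_le.2 (hAT ha)) P.mem hrD, Nat.card_zpowers,
        orderOf_eq_prime (P.data.elem.2 a (hAT ha)) ha1]
    refine (mem_centralizer_iff.1 (hdc D hDT hD4 (mem_iInf.2 fun y => ?_)) r' hr'T).symm
    have hna : zpowers r ≤ normalizer (zpowers a : Set G) := zpowers_le.2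
      (Coprime.mem_normalizer_of_forall fun z hz => by
        rw [(P.comm P.mem (hAT ((zpowers_le.2 ha) hz))).eq, mul_inv_cancel_right]; exact hz)
    obtain ⟨s, hs, t, ht, hst⟩ := (Coprime.mem_sup_iff hna).1 y.2.1
    have hxJ : (x : G) ∈ J := hMJ x.2.1
    have hxa : (x : G) ∈ centralizerPPrimeCore 2 a :=
      hcc a ha ha1 r hrA (P.sq P.mem) ⟨hxJ, x.2.2⟩
    have hxn : (x : G) ∈ centralizerPPrimeCore 2 (r * a) := by
      rw [← hnr, ← Signalizer.map_conj_centralizerPPrimeCore (p := 2) r n]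
      refine ⟨(θ x : G), Layers.mem_core.2 ⟨(θ x).2, hx⟩, ?_⟩
      show n * (n⁻¹ * (x : G) * n⁻¹⁻¹) * n⁻¹ = x
      group
    rcases eq_one_or_eq_of_mem_zpowers (P.sq (hAT ha)) hs with rfl | rfl <;>
      rcases eq_one_or_eq_of_mem_zpowers (P.sq P.mem) ht with rfl | rfl
    · exact absurd (hst ▸ mul_one (1 : G)) (fun e => y.2.2 e)
    · rw [← hst, one_mul]; exact hxJ
    · rw [← hst, mul_one]; exact hxa
    · rw [← hst, (P.comm (hAT ha) P.mem).eq]; exact hxn)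
  set a' : ↥C := ⟨a, P.le_cent (hAT ha)⟩
  obtain ⟨k₀, hk₀⟩ := P.exists_generator (a := a') ha ha1
  set P₀ := (zpowers k₀).comap φ
  obtain ⟨u₀, hu₀⟩ : ∃ u, zpowers u = P₀.map φ := by
    haveI : IsCyclic ↥(P₀.map φ) := isCyclic_of_injective (Subgroup.inclusion (map_comap_le φ (zpowers k₀)))
      (inclusion_injective _)
    exact (Subgroup.isCyclic_iff_exists_zpowers_eq_top _).1 inferInstance
  obtain ⟨x₀, hx₀P, hx₀⟩ : u₀ ∈ P₀.map φ := hu₀ ▸ mem_zpowers u₀
  have hP₀ : ∀ x ∈ P₀, ψ x ∈ zpowers (ψ x₀) := fun x hx => by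
    obtain ⟨i, hi⟩ := mem_zpowers_iff.1 (hu₀.ge ⟨x, hx, rfl⟩ : φ x ∈ zpowers u₀)
    refine mem_zpowers_iff.2 ⟨i, ?_⟩
    have h1 := hker (x₀ ^ i * x⁻¹) (by rw [map_mul, map_zpow, hx₀, hi, map_inv, mul_inv_cancel])
    rw [map_mul, map_zpow, map_inv, mul_inv_eq_one] at h1
    exact h1
  have hψfix : ∀ x : ↥Q, α (ψ x) = ψ x := fun x => hact _ _ _ (by
    show a * (x : G) * a⁻¹ = x
    rw [← (hQa x x.2).eq, mul_inv_cancel_right])
  -- commutators with `b` land in the component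
  have hw : ∀ v, α v = v → ∃ w : ↥Q, ψ w = (v ^ 2)⁻¹ ∧ φ w ∈ K ∧ Odd (orderOf (φ w)) ∧
      Commute (φ w) (proj r a') ∧
      ∀ b' : ↥C, (b' : G) = b → proj r b' * φ w * (proj r b')⁻¹ = (φ w)⁻¹ := by
    intro v hv
    have hzM : zpowers a ≤ normalizer (M : Set G) := zpowers_le.2 (hAM ha)
    obtain ⟨x, hxM, hxa, rfl⟩ := exists_lift_fixed p M hzM (hcop _ M (zpowers_le.2 (hAT ha)) hModd)
      (Or.inr (Coprime.isSolvable_of_le hMJ hsolvJ)) (v := v) (fun ⟨c, hc⟩ => by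
        rcases eq_one_or_eq_of_mem_zpowers (P.sq (hAT ha)) hc with rfl | rfl
        · exact DFunLike.congr_fun (map_one ρ) v
        · exact hv)
    have hxa' : Commute x a := (mem_centralizer_iff.1 hxa a (mem_zpowers a)).symm
    have hba : Commute b a := P.comm (hAT hbA) (hAT ha)
    set w := b * x * b⁻¹ * x⁻¹ with hwdef
    have hwM : w ∈ M := mul_mem ((mem_normalizer_iff.1 (hAM hbA) x).1 hxM) (inv_mem hxM)
    have hwQ : w ∈ Q := ⟨hwM, mem_centralizer_singleton_iff.2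
      (((hba.mul_left hxa').mul_left hba.inv_left).mul_left hxa'.inv_left).eq⟩
    have hwinv : b * w * b⁻¹ = w⁻¹ := by
      rw [hwdef]
      calc b * (b * x * b⁻¹ * x⁻¹) * b⁻¹ = b * b * x * b⁻¹ * x⁻¹ * b⁻¹ := by group
        _ = x * b⁻¹ * x⁻¹ * b⁻¹ := by rw [P.sq (hAT hbA), one_mul]
        _ = x * b * x⁻¹ * b⁻¹ := by rw [P.inv_eq (hAT hbA)]
        _ = _ := by group
    set z : ↥C := θ ⟨w, hwQ⟩
    have hza : Commute (z : G) a := by
      have h1 : Commute n⁻¹ a := (hnA a ha).symm.inv_left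
      exact (h1.mul_left (hQa w hwQ)).mul_left (by simpa using (hnA a ha).symm)
    have hzb : b * (z : G) * b⁻¹ = (z : G)⁻¹ := by
      show b * (n⁻¹ * w * n⁻¹⁻¹) * b⁻¹ = (n⁻¹ * w * n⁻¹⁻¹)⁻¹
      have h1 : b * n⁻¹ = n⁻¹ * b := (hnA b hbA).inv_right.eq
      have h2 : n * b⁻¹ = b⁻¹ * n := (hnA b hbA).inv_left.eq.symm
      calc b * (n⁻¹ * w * n⁻¹⁻¹) * b⁻¹ = b * n⁻¹ * w * (n * b⁻¹) := by group
        _ = n⁻¹ * (b * w * b⁻¹) * n := by rw [h1, h2]; group
        _ = n⁻¹ * w⁻¹ * n := by rw [hwinv]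
        _ = _ := by group
    have hzo : Odd (orderOf (z : G)) := by
      show Odd (orderOf ((MulAut.conj n⁻¹) w))
      rw [MulEquiv.orderOf_eq]
      exact hModd.of_dvd_nat (Subgroup.orderOf_dvd_natCard M hwM)
    refine ⟨⟨w, hwQ⟩, ?_, P.proj_mem z.2 ha ha1 hza hbA hzb hzo, ?_, ?_, fun b' hb' => ?_⟩
    · show mk ⟨w, hwM⟩ = _
      have h1 : mk ⟨w, hwM⟩ = β (mk ⟨x, hxM⟩) * (mk ⟨x, hxM⟩)⁻¹ := by
        rw [hβdef, hρ, pAct_apply, ← hmk, ← map_inv, ← map_mul]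
        exact congrArg _ (Subtype.ext rfl)
      rw [h1, hflip _ hv, pow_two, mul_inv]
    · rw [Subgroup.orderOf_coe] at hzo
      exact hzo.of_dvd_nat (orderOf_map_dvd (proj r) z)
    · exact (Subtype.ext hza.eq : z * a' = a' * z) |> congrArg (proj r) |> fun h => by
        rwa [map_mul, map_mul] at h
    · show proj r b' * proj r z * (proj r b')⁻¹ = (proj r z)⁻¹
      rw [← map_mul, ← map_inv, ← map_mul, ← map_inv]
      refine congrArg _ (Subtype.ext ?_)
      show (b' : G) * (z : G) * (b' : G)⁻¹ = (z : G)⁻¹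
      rw [hb']; exact hzb
  have hline : ∀ v, α v = v → v ∈ zpowers (ψ x₀) := fun v hv => by
    obtain ⟨w, hw1, hwK, hwo, hwa, -⟩ := hw v hv
    have h1 := hP₀ w (hk₀ _ hwK hwo hwa)
    rw [hw1, inv_mem_iff] at h1
    refine Coprime.mem_of_pow_mem (Nat.Coprime.coprime_dvd_left (orderOf_dvd_of_pow_eq_one (pTop_pow p M v))
      ((Nat.coprime_primes hp Nat.prime_two).2 hp2)) h1
  obtain ⟨v, hv, hv1⟩ : ∃ v, α v = v ∧ v ≠ 1 := by
    by_contra hno
    push Not at hno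
    have h1 : ∀ v, α v = v⁻¹ := fun v => eq_inv_of_mul_eq_one_left (hno _ (by rw [map_mul, hαs, mul_comm]))
    have h2 : ∀ v, β v = v⁻¹ := fun v => by
      obtain ⟨w, rfl⟩ := γ.surjective v
      rw [← hγα, h1, map_inv]
    refine hv₁ (hinv1 (γ.injective ?_))
    rw [← h2, hγβ, h2, h1, inv_inv]
  obtain ⟨w, hw1, hwK, hwo, hwa, hwb⟩ := hw v hv
  have hψw : ψ w ≠ 1 := fun h => by
    rw [hw1, inv_eq_one] at h
    exact hv1 (hinv1 (inv_eq_of_mul_eq_one_left (by rwa [pow_two] at h)))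
  have hpw : p ∣ orderOf (φ w) := by
    by_contra h
    refine hψw (orderOf_eq_one_iff.1 (Nat.eq_one_of_dvd_coprimes ((hp.coprime_iff_not_dvd).2 h)
      (orderOf_dvd_of_pow_eq_one (pTop_pow p M _)) (orderOf_dvd_of_pow_eq_one ?_)))
    rw [← map_pow]
    exact hker _ (by rw [map_pow, pow_orderOf_eq_one])
  set k := φ w ^ (orderOf (φ w) / p)
  have hko : orderOf k = p := orderOf_pow_orderOf_div (orderOf_pos _).ne' hpw
  obtain ⟨y, hyC, hya, hyR, hyb, hyk, s, hys⟩ := P.exists_lift_inverted ha hbA (k := k) (pow_mem hwK _) hp hp2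
    (hko ▸ pow_orderOf_eq_one k)
    (fun c hc => by rw [show c = a' from Subtype.ext hc]; exact hwa.symm.pow_right _)
    (fun c hc => conj_eq_inv_pow (hwb c hc) _)
  -- the group of automorphisms
  set Y := centralizer (R : Set G) ⊓ Layers.pre r K with hY
  have hRM : ∀ y, y ∈ centralizer (R : Set G) → y ∈ C → y ∈ normalizer (M : Set G) := fun y h1 h2 =>
    hMn y h2 (mem_centralizer_iff.1 h1 r' hr').symm
  set E := (Y.subgroupOf (normalizer (M : Set G))).map ρ with hE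
  set X := ρ ⟨y, hRM y hyR hyC⟩ with hX
  have hXE : X ∈ E := ⟨_, ⟨hyR, Layers.mem_pre.2 ⟨hyC, hyk ▸ pow_mem hwK _⟩⟩, rfl⟩
  have hXp : X ^ p ^ s = 1 := by
    rw [hX, ← map_pow, ← map_one ρ]
    exact congrArg _ (Subtype.ext hys)
  have hXα : Commute X α := by
    have h : Commute (⟨y, hRM y hyR hyC⟩ : ↥(normalizer (M : Set G))) ⟨a, hAM ha⟩ := Subtype.ext hya.eq
    exact h.map ρ
  have hXβ : ∀ v, X (β (X v)) = β v := fun v => DFunLike.congr_fun (show X * (β * X) = β by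
    rw [hX, hβdef, ← map_mul, ← map_mul]
    refine congrArg _ (Subtype.ext ?_)
    show y * (b * y) = b
    calc y * (b * y) = y * (b * y * b⁻¹) * b := by group
      _ = b := by rw [hyb]; group) v
  have hγE : ∀ x ∈ E, γ * x * γ⁻¹ ∈ E := by
    rintro _ ⟨z, ⟨hzR, hzK⟩, rfl⟩
    obtain ⟨hzC, hzK⟩ := Layers.mem_pre.1 hzK
    refine ⟨⟨g, hgM⟩ * z * ⟨g, hgM⟩⁻¹, ⟨mem_centralizer_iff.2 fun t ht => ?_, Layers.mem_pre.2
      ⟨mul_mem (mul_mem hgC hzC) (inv_mem hgC), ?_⟩⟩, by rw [map_mul, map_mul, map_inv]⟩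
    · have h1 : Commute t (z : G) := mem_centralizer_iff.1 hzR t ht
      exact (((hgR t ht).symm.mul_right h1).mul_right (hgR t ht).symm.inv_right).eq
    · have h1 := (mem_normalizer_iff.1 (P.mem_normalizer_of_norm (x := ⟨g, hgC⟩) hgA) _).1 hzK
      rw [← map_inv, ← map_mul, ← map_mul] at h1
      exact h1
  have hX1 : X ≠ 1 := by
    intro hX1
    set L := ((ρ.ker.map (normalizer (M : Set G)).subtype ⊓ centralizer (R : Set G)).subgroupOf C).map
      (proj r)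
    haveI hLn : (L.subgroupOf K).Normal := by
      refine ⟨fun l hl m => ?_⟩
      obtain ⟨x, ⟨⟨xn, hxn, hxe⟩, hxR⟩, hxl⟩ := hl
      obtain ⟨m₁, hm₁, hm₁e⟩ := P.exists_lift (T₀ := R) P.bad.le (x := (m : Bar r))
        fun t ht => P.commute_part ht m.2
      refine ⟨m₁ * x * m₁⁻¹, ⟨⟨⟨m₁, hRM _ hm₁ m₁.2⟩ * xn * ⟨m₁, hRM _ hm₁ m₁.2⟩⁻¹, ?_, ?_⟩, ?_⟩, ?_⟩
      · exact (MonoidHom.normal_ker ρ).conj_mem xn hxn _
      · show (m₁ : G) * (xn : G) * (m₁ : G)⁻¹ = (m₁ : G) * (x : G) * (m₁ : G)⁻¹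
        rw [show (xn : G) = x from hxe]
      · exact Subgroup.mul_mem _ (Subgroup.mul_mem _ hm₁ hxR) (Subgroup.inv_mem _ hm₁)
      · rw [map_mul, map_mul, map_inv, hm₁e, hxl]
        rfl
    haveI := P.isSimple
    have hkL : (⟨k, pow_mem hwK _⟩ : ↥K) ∈ L.subgroupOf K :=
      ⟨⟨y, hyC⟩, ⟨⟨⟨y, hRM y hyR hyC⟩, hX1, rfl⟩, hyR⟩, hyk⟩
    rcases hLn.eq_bot_or_eq_top with h | h
    · rw [h, mem_bot] at hkL
      rw [show k = 1 from congrArg Subtype.val hkL, orderOf_one] at hko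
      exact hp.ne_one hko.symm
    have htriv : ∀ c (hc : c ∈ A), ρ ⟨c, hAM hc⟩ = 1 := fun c hc => by
      set c' : ↥C := ⟨c, P.le_cent (hAT hc)⟩
      obtain ⟨x, ⟨⟨xn, hxn, hxe⟩, hxR⟩, hxc⟩ :
          (⟨proj r c', P.proj_part (x := c') hc⟩ : ↥K) ∈ L.subgroupOf K := by rw [h]; exact mem_top _
      set j : ↥(normalizer (M : Set G)) := xn * ⟨c, hAM hc⟩⁻¹
      have hjJ : (j : G) ∈ J := ⟨x * c'⁻¹, (QuotientGroup.eq_one_iff _).1 (by
        rw [← QuotientGroup.mk'_apply, map_mul, map_inv]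
        show proj r x * (proj r c')⁻¹ = 1
        rw [hxc]; exact mul_inv_cancel _), by
        show (x : G) * c⁻¹ = (xn : G) * c⁻¹
        rw [show (xn : G) = x from hxe]⟩
      refine eq_one_of_odd_pow (odd_core r) ?_ (by rw [pow_two]; exact hsq hc)
      have hj1 : ρ j ^ Nat.card ↥J = 1 := by
        rw [← map_pow, ← map_one ρ]
        exact congrArg _ (Subtype.ext (Aschbacher.odd_exponent (odd_core r) hjJ))
      rwa [map_mul, map_inv, show ρ xn = 1 from hxn, one_mul, inv_pow, inv_eq_one] at hj1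
    exact hv₁ (hfixA v₁ fun c => DFunLike.congr_fun (htriv c c.2) v₁)
  obtain ⟨f, ⟨W, ⟨hWR, hWK⟩, rfl⟩, ⟨v₂, hv₂⟩, hf4⟩ := exists_order_four hp2 (pTop_pow p M) E hαs hβs hαβ hfix
    hγα hγβ ⟨ψ x₀, hψfix x₀, hline⟩ hXE hX1 hXp hXα hXβ hγE
  obtain ⟨hWC, hWK⟩ := Layers.mem_pre.1 hWK
  set W' : ↥C := ⟨W, hWC⟩
  obtain ⟨i, m, hm, hord⟩ := Nat.exists_eq_two_pow_mul_odd (orderOf_pos W').ne'
  have hWm : proj r W' ^ (2 * m) = 1 := by
    rw [mul_comm, pow_mul]
    refine P.sq_eq_one (pow_mem hWK m) (i := i) ?_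
    rw [← pow_mul, mul_comm, ← hord, ← map_pow, pow_orderOf_eq_one, map_one]
  have hWJ : (W : G) ^ (2 * m) ∈ J := ⟨W' ^ (2 * m), (QuotientGroup.eq_one_iff _).1 (by
    rw [← QuotientGroup.mk'_apply, map_pow]; exact hWm), rfl⟩
  have hf2 : ρ W ^ 2 = 1 := by
    refine eq_one_of_odd_pow (hm.mul (odd_core r)) ?_ ?_
    · rw [← pow_mul, ← mul_assoc, ← map_pow, ← map_one ρ]
      refine congrArg _ (Subtype.ext ?_)
      show (W : G) ^ (2 * m * Nat.card ↥J) = 1
      rw [pow_mul]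
      exact Aschbacher.odd_exponent (odd_core r) hWJ
    · rw [← pow_mul]
      refine MulEquiv.ext fun v => ?_
      rw [show 2 * 2 = 1 + 1 + 1 + 1 from rfl, pow_add, pow_add, pow_add, pow_one]
      exact hf4 v
  exact hv₂ (by rw [← MulAut.mul_apply, ← pow_two, hf2]; rfl)

/-- **Section V.** -/
theorem moduleTarget : ModuleTarget.{u} := by
  intro _ G _ _ S A T H _ D hT hcc hdc
  exfalso
  haveI : Fact (Nat.Prime 2) := ⟨Nat.prime_two⟩
  obtain ⟨r, hr, hrA⟩ : ∃ r ∈ T, r ∉ A := by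
    by_contra hno
    push Not at hno
    have h1 := card_le_of_le (show T ≤ A from hno)
    rw [hT, H.four] at h1
    omega
  obtain ⟨K, R, g, hbad⟩ := D.bad r hr hrA
  have P : Spot S A T r K R g := ⟨H, D, hr, hrA, hbad⟩
  obtain ⟨a, ha, b, hb, ha1, hb1, hba, k, hk, p, hp, hp2, hk1, hkp, hka, hkb⟩ := P.exists_inverted
  obtain ⟨y, hyC, hya, hyR, hyb, hyk, s, hys⟩ := P.exists_lift_inverted ha hb hk hp hp2 hkp hka hkb
  obtain ⟨n, hn, hnr⟩ := D.surj r hr hrA a ha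
  obtain ⟨r', hr', hr'1, hr'r⟩ := P.exists_other hT
  have hr'T := hbad.le hr'
  have hnA : ∀ c ∈ A, Commute c n := fun c hc => mem_centralizer_iff.1 (H.central hn.1) c hc
  have hRA : ∀ t ∈ R, t ≠ 1 → t ∉ A := fun t ht h1 hA => h1 (mem_bot.1 (hbad.disjoint ▸ ⟨ht, hA⟩))
  have hself : ∀ t ∈ R, t ≠ 1 → ¬ Commute n t := fun t ht h1 hc => by
    have hnT : n ∈ T := by
      rw [← D.self t (hbad.le ht) (hRA t ht h1)]
      exact ⟨hn.1, mem_centralizer_singleton_iff.2 hc.eq⟩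
    rw [(P.comm hnT hr).eq, mul_inv_cancel_right] at hnr
    exact ha1 (mul_left_cancel (hnr.symm.trans (mul_one r).symm))
  set c := r' * n * r'⁻¹ * n⁻¹ with hc
  have hcA : c ∈ A := D.comm r' ⟨D.le hr'T, le_normalizer hr'T⟩ n hn
  have hnc : n * r' * n⁻¹ = r' * c := by
    rw [hc, show r' * (r' * n * r'⁻¹ * n⁻¹) = r' * r' * n * r'⁻¹ * n⁻¹ by group, P.sq hr'T, one_mul,
      P.inv_eq hr'T]
  have hc1 : c ≠ 1 := fun h => hself r' hr' hr'1 (by
    rw [h, mul_one] at hnc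
    exact mul_inv_eq_iff_eq_mul.1 hnc)
  have hca : c ≠ a := fun h => by
    refine hself (r * r') (mul_mem hbad.mem hr') (fun e => hr'r ?_) ?_
    · rw [← P.inv_eq hr, inv_eq_of_mul_eq_one_right e]
    · refine mul_inv_eq_iff_eq_mul.1 ?_
      calc n * (r * r') * n⁻¹ = (n * r * n⁻¹) * (n * r' * n⁻¹) := by group
        _ = r * (a * r') * a := by rw [hnr, hnc, h]; group
        _ = r * r' * (a * a) := by rw [(P.comm (D.base ha) hr'T).eq]; group
        _ = r * r' := by rw [P.sq (D.base ha), mul_one]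
  set y' := n * y * n⁻¹ with hy'
  have hy'a : Commute y' a := by
    have h := (hnA a ha).symm
    exact (h.mul_left hya).mul_left h.inv_left
  have hy'r : Commute y' r := by
    have h1 : Commute y' (r * a) := by
      rw [← hnr, hy']
      show n * y * n⁻¹ * (n * r * n⁻¹) = n * r * n⁻¹ * (n * y * n⁻¹)
      calc n * y * n⁻¹ * (n * r * n⁻¹) = n * (y * r) * n⁻¹ := by group
        _ = n * (r * y) * n⁻¹ := by rw [mem_centralizer_singleton_iff.1 hyC]
        _ = _ := by group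
    have h2 := h1.mul_right hy'a
    rwa [mul_assoc, P.sq (D.base ha), mul_one] at h2
  have hy'b : b * y' * b⁻¹ = y'⁻¹ := by
    have h1 : b * n = n * b := (hnA b hb).eq
    have h2 : n⁻¹ * b⁻¹ = b⁻¹ * n⁻¹ := (hnA b hb).symm.inv_inv.eq
    calc b * (n * y * n⁻¹) * b⁻¹ = b * n * y * (n⁻¹ * b⁻¹) := by group
      _ = n * (b * y * b⁻¹) * n⁻¹ := by rw [h1, h2]; group
      _ = n * y⁻¹ * n⁻¹ := by rw [hyb]
      _ = _ := by rw [hy']; group
  have hy'c : c * y' * c⁻¹ = y'⁻¹ := by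
    rcases H.mem_cases ha hb hcA ha1 hb1 (Ne.symm hba) with h | h | h | h
    · exact absurd h hc1
    · exact absurd h hca
    · rw [h]; exact hy'b
    · rw [h]
      calc a * b * y' * (a * b)⁻¹ = a * (b * y' * b⁻¹) * a⁻¹ := by group
        _ = a * y'⁻¹ * a⁻¹ := by rw [hy'b]
        _ = y'⁻¹ := by rw [← hy'a.inv_left.eq, mul_inv_cancel_right]
  have hy'r' : r' * y' * r'⁻¹ = y'⁻¹ := by
    have h1 : Commute y' (r' * c) := by
      rw [← hnc, hy']
      show n * y * n⁻¹ * (n * r' * n⁻¹) = n * r' * n⁻¹ * (n * y * n⁻¹)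
      calc n * y * n⁻¹ * (n * r' * n⁻¹) = n * (y * r') * n⁻¹ := by group
        _ = n * (r' * y) * n⁻¹ := by rw [mem_centralizer_iff.1 hyR r' hr']
        _ = _ := by group
    have h2 : c * y' * c⁻¹ = r'⁻¹ * y' * r' :=
      calc c * y' * c⁻¹ = r'⁻¹ * (r' * c * y') * c⁻¹ := by group
        _ = r'⁻¹ * (y' * (r' * c)) * c⁻¹ := by rw [h1.eq]
        _ = r'⁻¹ * y' * r' := by group
    rw [hy'c, P.inv_eq hr'T] at h2
    rw [P.inv_eq hr'T, ← h2]
  have hodd : Odd (orderOf y') := by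
    rw [show y' = MulAut.conj n y from rfl, MulEquiv.orderOf_eq]
    exact (hp.odd_of_ne_two hp2).pow.of_dvd_nat (orderOf_dvd_of_pow_eq_one hys)
  have hcom := core_commute P hcc hdc hr' (P.mem_core_of_inverted_two
    (mem_centralizer_singleton_iff.2 hy'r.eq) ha ha1 hy'a hb hy'b hr' hy'r' hodd)
  rw [hcom.eq, mul_inv_cancel_right, eq_inv_iff_mul_eq_one] at hy'r'
  have hy1 : y = 1 := conj_eq_one_iff.1 (eq_one_of_odd_sq hodd hy'r')
  refine hk1 (hyk ▸ ?_)
  rw [show (⟨y, hyC⟩ : ↥(centralizer ({r} : Set G))) = 1 from Subtype.ext hy1, map_one]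

end Cfsg.Agent.Goldschmidt.General.Corner
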