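import Cfsg.Agent.Lib.Goldschmidt.General.Corner.Sixteen.Layer
import Cfsg.Agent.Lib.Goldschmidt.General.Corner.Functor.Basic
import Cfsg.Agent.Lib.Goldschmidt.General.Local

/-!
# `|T| = 16`: the cores are balanced at `A` (owner: helper84; section S of `CORNER.md`)

For `a` in `A` no component of `Bar a` is moved, so `Bar a` is `C(A)` modulo its core and has no
component; an odd subgroup centralised by an involution and normalised by its centraliser is trivial.

* `bar_layer_eq_bot`
* `sixteenTarget`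
-/

set_option autoImplicit false
set_option linter.unusedSectionVars false
set_option linter.style.haveILetI false

namespace Cfsg.Agent.Goldschmidt.General.Corner

open Cfsg Subgroup Cfsg.Agent.Components

universe u

variable {G : Type u} [Group G] [Finite G] {S : Sylow 2 G} {A : Subgroup G}

namespace Sixteen

/-- With `|A| = 4` no component of `Bar a` is moved. -/
theorem not_moved (h : CornerHyp G S A) (hloc : LocalsHold A) {a : G} (ha : a ∈ A) (ha1 : a ≠ 1)
    (K : Subgroup (Bar a)) : ¬ Moved (bar A a) K := by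
  intro hK
  obtain ⟨q, hq⟩ := (hloc a ha ha1).data K hK
  have hbar : Nat.card ↥(bar A a) = 4 := by
    have h1 := h.ctx.card_pull ha (⊤ : Subgroup (Bar a))
    rw [inf_top_eq] at h1
    rw [← h1, ← h.four]
    congr 2
    exact le_antisymm inf_le_left fun z hz => (h.ctx.mem_pull ha hz).2 (mem_top _)
  have hmem : proj a ⟨a, h.ctx.le_centralizer_of_mem ha ha⟩ ∈ fixer (bar A a) K := by
    refine ⟨⟨_, mem_subgroupOf.2 ha, rfl⟩, mem_centralizer_iff.2 fun m _ => ?_⟩
    obtain ⟨z, rfl⟩ := QuotientGroup.mk'_surjective _ m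
    rw [← map_mul, ← map_mul]
    exact congrArg _ (Subtype.ext (mem_centralizer_singleton_iff.1 z.2))
  have h2 : Nat.card ↥(fixer (bar A a) K) ≠ 1 := fun e =>
    ha1 (h.ctx.eq_one_of_proj ha ha
      ((Subgroup.eq_bot_iff_forall _).1 (Subgroup.eq_bot_of_card_eq _ e) _ hmem))
  have h3 := (General.shapeFacts hq.shape).four
  have h4 := hq.card
  rw [hbar] at h4
  have h5 : 0 < Nat.card ↥(fixer (bar A a) K) := Nat.card_pos
  have h6 := Nat.mul_le_mul h3 (show 2 ≤ Nat.card ↥(fixer (bar A a) K) by omega)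
  omega

/-- An element of `N(A)` fixing a member centralises `A`. -/
theorem mem_centralizer_of_fix (h : CornerHyp G S A) {a y : G} (ha : a ∈ A) (ha1 : a ≠ 1)
    (hy : y ∈ normalizer (A : Set G)) (hya : Commute y a) : y ∈ centralizer (A : Set G) := by
  haveI : Fact (Nat.Prime 2) := ⟨Nat.prime_two⟩
  set N := normalizer (A : Set G)
  have h2 : y ^ 2 ∈ centralizer (A : Set G) := mem_centralizer_iff.2 fun r hr =>
    (commute_sq_of_four h.four.le ha ha1 (h.ctx.sq ha)
      (fun v hv => (mem_normalizer_iff.1 hy v).1 hv) hya hr).eq.symm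
  set M := (centralizer (A : Set G)).subgroupOf N
  haveI : M.Normal := by
    refine ⟨fun n hn g => mem_subgroupOf.2 ?_⟩
    exact (mem_normalizer_iff.1 (PReduced.le_normalizer_centralizer le_rfl g.2) (n : G)).1
      (mem_subgroupOf.1 hn)
  have hodd : ¬ 2 ∣ M.index := fun hd => (S.subtype h.ctx.sylow_le_normalizer).not_dvd_index
    (hd.trans (index_dvd_of_le fun s hs => mem_subgroupOf.2 (h.central (mem_subgroupOf.1 hs))))
  have h3 : QuotientGroup.mk' M ⟨y, hy⟩ = 1 := by
    have h4 : (QuotientGroup.mk' M ⟨y, hy⟩) ^ 2 = 1 := by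
      rw [← map_pow]
      exact (QuotientGroup.eq_one_iff _).2 (mem_subgroupOf.2 h2)
    rcases (Nat.dvd_prime Nat.prime_two).1 (orderOf_dvd_of_pow_eq_one h4) with e | e
    · exact orderOf_eq_one_iff.1 e
    · exact absurd (e ▸ orderOf_dvd_natCard (QuotientGroup.mk' M ⟨y, hy⟩)) hodd
  exact mem_subgroupOf.1 ((QuotientGroup.eq_one_iff _).1 h3)

/-- `Bar a` has no component. -/
theorem bar_layer_eq_bot (h : CornerHyp G S A) (hloc : LocalsHold A)
    (hS : Nat.card ↥(S : Subgroup G) = 64) (hsq : ∀ x ∈ (S : Subgroup G), x * x ∈ A) {a : G}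
    (ha : a ∈ A) (ha1 : a ≠ 1) : Cfsg.layer (Bar a) = ⊥ := by
  haveI : Fact (Nat.Prime 2) := ⟨Nat.prime_two⟩
  set M := centralizer (A : Set G)
  have hMa : M ≤ centralizer ({a} : Set G) := fun x hx =>
    mem_centralizer_singleton_iff.2 (mem_centralizer_iff.1 hx a ha).symm
  let ψ : ↥M →* Bar a := (proj a).comp (Subgroup.inclusion hMa)
  have htop : normalizer (bar A a : Set (Bar a)) = ⊤ := (hloc a ha ha1).decomp _ le_rfl
    fun K hK => absurd hK (not_moved h hloc ha ha1 K)
  have hψ : Function.Surjective ψ := by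
    intro x
    obtain ⟨z, rfl⟩ := QuotientGroup.mk'_surjective _ x
    obtain ⟨y, hy, hye⟩ := h.ctx.normalizer_lift (h.ctx.le_centralizer_of_mem ha) (x := z)
      (by rw [htop]; exact mem_top _)
    exact ⟨⟨y, mem_centralizer_of_fix h ha ha1 hy (mem_centralizer_singleton_iff.1 y.2)⟩, hye⟩
  have hker : ψ.ker = pPrimeCore 2 ↥M := by
    refine le_antisymm (Cores.le_pPrimeCore inferInstance ?_) ?_
    · let ι : ↥ψ.ker →* ↥(pPrimeCore 2 ↥(centralizer ({a} : Set G))) :=
        ((Subgroup.inclusion hMa).comp ψ.ker.subtype).codRestrict _ fun l =>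
          (QuotientGroup.eq_one_iff _).1 (MonoidHom.mem_ker.1 l.2)
      exact (Cores.coprime_card_pPrimeCore 2).coprime_dvd_left (Subgroup.card_dvd_of_injective ι
        fun x y hxy => Subtype.ext (Subtype.ext (congrArg
          (fun w : ↥(pPrimeCore 2 ↥(centralizer ({a} : Set G))) => ((w : ↥(centralizer ({a} : Set G))) : G)) hxy)))
    · rw [← Subgroup.map_eq_bot_iff, ← le_bot_iff]
      exact (Cores.map_pPrimeCore_le ψ hψ 2).trans (Cores.pPrimeCore_quotient_self 2).le
  rw [← layer_map_equiv ((QuotientGroup.quotientMulEquivOfEq hker).symm.trans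
    (QuotientGroup.quotientKerEquivOfSurjective ψ hψ)), quot_layer_eq_bot h hS hsq, Subgroup.map_bot]

/-- The cores are balanced. -/
theorem coreControl (h : CornerHyp G S A) (hloc : LocalsHold A)
    (hS : Nat.card ↥(S : Subgroup G) = 64) (hsq : ∀ x ∈ (S : Subgroup G), x * x ∈ A) :
    CoreControl A := by
  intro a ha ha1 r hr hrr
  haveI : Fact (Nat.Prime 2) := ⟨Nat.prime_two⟩
  set X := centralizer ({a} : Set G) with hX
  have hrX : r ∈ X := mem_centralizer_singleton_iff.2 (mem_centralizer_iff.1 hr a ha).symm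
  set rb := proj a ⟨r, hrX⟩ with hrb
  set D := ((centralizerPPrimeCore 2 r).subgroupOf X).map (proj a) with hD
  have hDodd : Odd (Nat.card ↥D) := by
    refine (Nat.coprime_two_right.1 (Components.coprime_card_centralizerPPrimeCore (p := 2) r)).of_dvd_nat
      ((Subgroup.card_map_dvd _ _).trans ?_)
    exact Subgroup.card_comap_dvd_of_injective _ X.subtype X.subtype_injective
  have hP : IsPGroup 2 ↥(zpowers rb) :=
    ClosedPair.isPGroup_zpowers_of_sq (by
      rw [hrb, ← map_mul]
      exact (congrArg (proj a) (Subtype.ext hrr : (⟨r, hrX⟩ * ⟨r, hrX⟩ : ↥X) = 1)).trans (map_one _))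
  have hPD : zpowers rb ≤ centralizer (D : Set (Bar a)) := by
    refine zpowers_le.2 (mem_centralizer_iff.2 ?_)
    rintro _ ⟨x, hx, rfl⟩
    rw [hrb, ← map_mul, ← map_mul]
    exact congrArg _ (Subtype.ext (mem_centralizer_singleton_iff.1
      (Components.centralizerPPrimeCore_le_centralizer_singleton r (mem_subgroupOf.1 hx))))
  haveI hn : (pCore 2 (Bar a)).Normal := Cores.pCore_normal 2 (Bar a)
  have hnorm : ∀ H : Subgroup (Bar a), H ≤ normalizer (pCore 2 (Bar a) : Set (Bar a)) := fun H => by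
    rw [normalizer_eq_top]; exact le_top
  have hC : pCore 2 (Bar a) ⊓ centralizer (zpowers rb : Set (Bar a)) ≤ centralizer (D : Set (Bar a)) := by
    rintro u ⟨hu, huc⟩
    -- lift `u` into the centraliser of `r`
    have hcent : u ∈ centralizer (((zpowers (⟨r, hrX⟩ : ↥X)).map (proj a) : Subgroup (Bar a)) : Set (Bar a)) := by
      rwa [MonoidHom.map_zpowers]
    rw [Components.centralizer_map_of_coprime (ClosedPair.isPGroup_zpowers_of_sq
      (Subtype.ext hrr : (⟨r, hrX⟩ * ⟨r, hrX⟩ : ↥X) = 1)) _ (Cores.coprime_card_pPrimeCore 2)] at hcent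
    obtain ⟨v, hv, rfl⟩ := hcent
    have hvr : (v : G) ∈ centralizer ({r} : Set G) := mem_centralizer_singleton_iff.2
      (congrArg Subtype.val (mem_centralizer_iff.1 hv ⟨r, hrX⟩ (mem_zpowers _)).symm)
    have hvD : proj a v ∈ normalizer (D : Set (Bar a)) := norm_mem _ (by
      rintro _ ⟨x, hx, rfl⟩
      refine ⟨v * x * v⁻¹, mem_subgroupOf.2 ?_, by rw [map_mul, map_mul, map_inv]⟩
      exact (mem_normalizer_iff.1 (Components.centralizer_le_normalizer_centralizerPPrimeCore r hvr) x).1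
        (mem_subgroupOf.1 hx))
    refine mem_centralizer_iff.2 fun d hd => ?_
    set c := d * proj a v * d⁻¹ * (proj a v)⁻¹
    have h1 : c ∈ D := by
      have := D.mul_mem hd ((mem_normalizer_iff.1 hvD _).1 (D.inv_mem hd))
      simpa [c, mul_assoc] using this
    have h2 : c ∈ pCore 2 (Bar a) :=
      (pCore 2 (Bar a)).mul_mem (hn.conj_mem _ hu d) ((pCore 2 (Bar a)).inv_mem hu)
    have h3 : c = 1 := Coprime.eq_one_of_mem_of_mem
      (Coprime.coprime_of_isPGroup (Nat.coprime_two_right.2 hDodd) (Cores.isPGroup_pCore 2 (Bar a))) h1 h2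
    exact mul_inv_eq_iff_eq_mul.1 (mul_inv_eq_one.1 h3)
  have hDO : D ≤ centralizer (pCore 2 (Bar a) : Set (Bar a)) :=
    Coprime.thompson_pq 2 hP (Nat.coprime_two_right.2 hDodd) (Cores.isPGroup_pCore 2 (Bar a)) hPD
      (hnorm _) (hnorm _) hC
  have hDle : D ≤ pCore 2 (Bar a) := by
    have h1 := centralizer_genFitting_le (G := Bar a)
    rw [genFitting_eq_pCore_of (p := 2) (bar_layer_eq_bot h hloc hS hsq ha ha1)
      (Cores.pPrimeCore_quotient_self 2)] at h1
    exact hDO.trans h1
  rintro x ⟨hx, hxa⟩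
  have h3 : proj a ⟨x, hxa⟩ = 1 := by
    have hxD : proj a ⟨x, hxa⟩ ∈ D := ⟨_, mem_subgroupOf.2 hx, rfl⟩
    exact Coprime.eq_one_of_mem_of_mem
      (Coprime.coprime_of_isPGroup (Nat.coprime_two_right.2 hDodd) (Cores.isPGroup_pCore 2 (Bar a)))
      hxD (hDle hxD)
  exact ⟨⟨x, hxa⟩, (QuotientGroup.eq_one_iff _).1 h3, rfl⟩

end Sixteen

/-- `|T| = 16`: the Sylow subgroup normalises `T` and the cores are balanced at `A`. -/
theorem sixteenTarget : SixteenTarget.{u} := fun _ _ _ _ _ _ h hloc hM h16 =>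
  ⟨Sixteen.sylow_le_normalizer h hM h16, Sixteen.coreControl h hloc (Sixteen.card_sylow h hM h16)
    fun _ hx => Sixteen.sq_mem h hM h16 hx⟩

end Cfsg.Agent.Goldschmidt.General.Corner
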