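import Cfsg.Agent.Lib.Goldschmidt.General.Corner.Defs
import Cfsg.Agent.Lib.Goldschmidt.General.Local
import Cfsg.Agent.Lib.Goldschmidt.General.MakeFrame.Kind

/-!
# The corner `|A| = 4`: basic facts (owner: helper96; section C of `../CORNER.md`)

* `CornerHyp.le_centralizer_of_two` : 2-subgroups over `A` centralise `A`
* `CornerHyp.centralizes_of_fix`, `CornerHyp.exists_rotation` : `N(A) / C(A)` has order three
* `CornerHyp.exists_sylow` : a 2-subgroup over `A` lies in a Sylow subgroup with the same hypotheses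
* C1: `CornerHyp.not_moved`, `CornerHyp.proj_commute`, `CornerHyp.exists_core_mul`,
  `CornerHyp.core_inf_centralizer`
* C2: `CornerHyp.mem_core_of_inverted`
* C3: `CornerHyp.compFacts`, `Bad.conj`, `CornerHyp.badAt_of_bad`
* `proj_eq_one_of_two`, `exists_odd_pow`, `exists_lift_normalizer` : lifting from `Bar y`
-/

set_option autoImplicit false
set_option linter.unusedSectionVars false
set_option linter.style.haveILetI false

namespace Cfsg.Agent.Goldschmidt.General.Corner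

open Cfsg Subgroup Cfsg.Agent.Components
open scoped commutatorElement

universe u

/-! ### Lifting -/

/-- A 2-subgroup of `C(y)` meets the core trivially. -/
theorem proj_eq_one_of_two {G : Type u} [Group G] [Finite G] {P : Subgroup G} (hP : IsPGroup 2 ↥P) {y : G}
    {x : ↥(centralizer ({y} : Set G))} (hx : (x : G) ∈ P) (h : proj y x = 1) : x = 1 := by
  haveI : Fact (Nat.Prime 2) := ⟨Nat.prime_two⟩
  exact Coprime.eq_one_of_mem_of_mem (Coprime.coprime_of_isPGroup (Cores.coprime_card_pPrimeCore 2)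
    (hP.comap_of_injective _ (subtype_injective _))) ((QuotientGroup.eq_one_iff _).1 h)
    (mem_subgroupOf.2 hx : x ∈ P.subgroupOf _)

/-- An element of odd order has a preimage of odd order. -/
theorem exists_odd_pow {H L : Type*} [Group H] [Finite H] [Group L] (f : H →* L) (x : H)
    (hodd : Odd (orderOf (f x))) : ∃ n : ℕ, f (x ^ n) = f x ∧ Odd (orderOf (x ^ n)) := by
  obtain ⟨k, m, hm, hnm⟩ := Nat.exists_eq_two_pow_mul_odd (orderOf_pos x).ne'
  obtain ⟨j, hj⟩ := exists_pow_eq_self_of_coprime (x := f x) (n := 2 ^ k)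
    (Nat.Coprime.pow_left _ (Nat.coprime_two_left.2 hodd))
  refine ⟨2 ^ k * j, by rw [pow_mul, map_pow, map_pow, hj], ?_⟩
  rw [pow_mul]
  refine hm.of_dvd_nat ((orderOf_pow_dvd _).trans ?_)
  rw [orderOf_pow' _ (by positivity), hnm, Nat.gcd_eq_right (dvd_mul_right _ _),
    Nat.mul_div_cancel_left _ (by positivity)]

/-- Normalisers of 2-subgroups modulo a normal subgroup of odd order are images of normalisers. -/
theorem exists_lift_normalizer {H : Type*} [Group H] [Finite H] {R T : Subgroup H} [R.Normal]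
    (hR : (Nat.card ↥R).Coprime 2) (hT : IsPGroup 2 ↥T) {x : H}
    (hx : QuotientGroup.mk' R x ∈ normalizer ((T.map (QuotientGroup.mk' R) : Subgroup _) : Set _)) :
    ∃ y ∈ normalizer (T : Set H), QuotientGroup.mk' R y = QuotientGroup.mk' R x := by
  haveI : Fact (Nat.Prime 2) := ⟨Nat.prime_two⟩
  set f := QuotientGroup.mk' R
  set Q := (T.map f).comap f
  have hle : T ≤ Q := le_comap_map _ _
  obtain ⟨R₀, hR₀⟩ := (hT.comap_of_injective Q.subtype Q.subtype_injective).exists_le_sylow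
  have hmax : ∀ r ∈ (R₀ : Subgroup ↥Q), (r : H) ∈ T := by
    intro r hr
    obtain ⟨a, ha, hae⟩ := r.2
    have hmem : (a⁻¹ * (r : H) : H) ∈ R := (QuotientGroup.eq).1 hae
    have h1 : (⟨a, hle ha⟩ : ↥Q)⁻¹ * r ∈ (R₀ : Subgroup ↥Q) := mul_mem (inv_mem (hR₀ ha)) hr
    have h2 : (a⁻¹ * (r : H) : H) = 1 := Coprime.eq_one_of_mem_of_mem
      (Coprime.coprime_of_isPGroup hR (R₀.isPGroup'.map Q.subtype)) hmem ⟨_, h1, rfl⟩
    rw [inv_mul_eq_one] at h2
    exact h2 ▸ ha
  set T₁ := T.map (MulAut.conj x).toMonoidHom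
  have hT₁ : T₁ ≤ Q := by
    rintro _ ⟨a, ha, rfl⟩
    show f ((MulAut.conj x) a) ∈ T.map f
    rw [MulAut.conj_apply, map_mul, map_mul, map_inv]
    exact (mem_normalizer_iff.1 hx _).1 ⟨a, ha, rfl⟩
  obtain ⟨R₁, hR₁⟩ := ((hT.map (MulAut.conj x).toMonoidHom).comap_of_injective Q.subtype
    Q.subtype_injective).exists_le_sylow
  obtain ⟨k, hk⟩ := MulAction.exists_smul_eq ↥Q R₁ R₀
  obtain ⟨a₀, ha₀, ha₀e⟩ := k.2
  refine ⟨a₀⁻¹ * (k : H) * x, Coprime.mem_normalizer_of_forall fun a ha => ?_, ?_⟩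
  · have h1 : k * (⟨x * a * x⁻¹, hT₁ ⟨a, ha, rfl⟩⟩ : ↥Q) * k⁻¹ ∈ (R₀ : Subgroup ↥Q) := by
      rw [← hk, Sylow.coe_subgroup_smul, Coprime.mem_conj]
      simpa [mul_assoc] using hR₁ (show (⟨x * a * x⁻¹, hT₁ ⟨a, ha, rfl⟩⟩ : ↥Q) ∈ T₁.subgroupOf Q
        from ⟨a, ha, rfl⟩)
    have h2 := hmax _ h1
    rw [show a₀⁻¹ * (k : H) * x * a * (a₀⁻¹ * (k : H) * x)⁻¹
      = a₀⁻¹ * ((k : H) * (x * a * x⁻¹) * (k : H)⁻¹) * a₀ by group]
    exact mul_mem (mul_mem (inv_mem ha₀) h2) ha₀
  · show f (a₀⁻¹ * (k : H) * x) = f x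
    rw [map_mul, map_mul, map_inv, ha₀e, inv_mul_cancel, one_mul]

/-- A projected element lies in the image of `A` only if it lies in `A`, inside a 2-subgroup. -/
theorem mem_of_proj_mem_bar {G : Type u} [Group G] [Finite G] {P A : Subgroup G} (hP : IsPGroup 2 ↥P)
    (hAP : A ≤ P) {y : G} {x : ↥(centralizer ({y} : Set G))} (hx : (x : G) ∈ P)
    (h : proj y x ∈ bar A y) : (x : G) ∈ A := by
  obtain ⟨a, ha, he⟩ := h
  have h1 : a⁻¹ * x = 1 := proj_eq_one_of_two hP (mul_mem (inv_mem (hAP ha)) hx) (by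
    rw [map_mul, map_inv, he, inv_mul_cancel])
  rw [inv_mul_eq_one] at h1
  exact h1 ▸ ha

end Cfsg.Agent.Goldschmidt.General.Corner

namespace Cfsg.Agent.Goldschmidt.General.CornerHyp

open Cfsg Subgroup Cfsg.Agent.Components Corner
open scoped commutatorElement

universe u

variable {G : Type u} [Group G] [Finite G] {S : Sylow 2 G} {A : Subgroup G} (H : CornerHyp G S A)
include H

theorem mem_normalizer_of_two {P : Subgroup G} (hP : IsPGroup 2 ↥P) (hAP : A ≤ P) :
    P ≤ normalizer (A : Set G) := fun p hp => Coprime.mem_normalizer_of_forall fun a ha =>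
  H.ctx.mem_of_mem hP hAP (mul_mem (mul_mem hp (hAP ha)) (inv_mem hp))
    (H.ctx.elemT.closed.conj p a (mem_classSet_of_mem ha))

theorem relIndex_odd : ¬ 2 ∣ (centralizer (A : Set G)).relIndex (normalizer (A : Set G)) := by
  haveI : Fact (Nat.Prime 2) := ⟨Nat.prime_two⟩
  exact fun h => S.not_dvd_index (h.trans ((relIndex_dvd_of_le_left _ H.central).trans
    (relIndex_dvd_index_of_le H.ctx.sylow_le_normalizer)))

/-- A 2-element of `N(A)` centralises `A`. -/
theorem mem_centralizer_of_sq {g : G} (hg : g ∈ normalizer (A : Set G))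
    (h2 : g ^ 2 ∈ centralizer (A : Set G)) : g ∈ centralizer (A : Set G) := by
  set N := normalizer (A : Set G) with hN
  set M := (centralizer (A : Set G)).subgroupOf N with hM
  haveI : M.Normal := by
    refine ⟨fun m hm n => mem_subgroupOf.2 (mem_centralizer_iff.2 fun a ha => ?_)⟩
    have h1 := mem_centralizer_iff.1 (mem_subgroupOf.1 hm) _
      ((mem_normalizer_iff.1 (inv_mem n.2) a).1 ha)
    show a * ((n : G) * m * (n : G)⁻¹) = (n : G) * m * (n : G)⁻¹ * a
    calc a * ((n : G) * m * (n : G)⁻¹) = n * (((n : G)⁻¹ * a * (n : G)⁻¹⁻¹) * m) * (n : G)⁻¹ := by group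
      _ = n * ((m : G) * ((n : G)⁻¹ * a * (n : G)⁻¹⁻¹)) * (n : G)⁻¹ := by rw [h1]
      _ = (n : G) * m * (n : G)⁻¹ * a := by group
  have hidx : M.index % 2 = 1 := Nat.two_dvd_ne_zero.1 H.relIndex_odd
  obtain ⟨k, hk⟩ : ∃ k, M.index = 2 * k + 1 := ⟨M.index / 2, by omega⟩
  have h1 : g ^ M.index ∈ centralizer (A : Set G) := M.pow_index_mem ⟨g, hg⟩
  rw [hk, pow_succ, pow_mul] at h1
  exact (mul_mem_cancel_left (pow_mem h2 k)).1 h1

/-- 2-subgroups over `A` centralise `A`. -/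
theorem le_centralizer_of_two {P : Subgroup G} (hP : IsPGroup 2 ↥P) (hAP : A ≤ P) :
    P ≤ centralizer (A : Set G) := by
  intro p hp
  obtain ⟨n, hn⟩ := hP ⟨p, hp⟩
  have hpn : p ^ 2 ^ n ∈ centralizer (A : Set G) := by
    rw [show p ^ 2 ^ n = 1 from congrArg Subtype.val hn]; exact one_mem _
  clear hn
  induction n with
  | zero => simpa using hpn
  | succ n ih =>
    refine ih (H.mem_centralizer_of_sq (pow_mem (H.mem_normalizer_of_two hP hAP hp) _) ?_)
    rwa [← pow_mul, ← pow_succ]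

theorem comm {a b : G} (ha : a ∈ A) (hb : b ∈ A) : a * b = b * a := H.ctx.comm ha hb

theorem le_centralizer_self : A ≤ centralizer (A : Set G) :=
  fun _ ha => mem_centralizer_iff.2 fun _ hb => H.comm hb ha

omit H in
theorem le_centralizer_singleton {y : G} (hy : y ∈ centralizer (A : Set G)) :
    A ≤ centralizer ({y} : Set G) :=
  fun _ ha => mem_centralizer_singleton_iff.2 (mem_centralizer_iff.1 hy _ ha)

omit H in
theorem centralizer_le_singleton {a : G} (ha : a ∈ A) :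
    centralizer (A : Set G) ≤ centralizer ({a} : Set G) :=
  fun _ hm => mem_centralizer_singleton_iff.2 (mem_centralizer_iff.1 hm a ha).symm

/-- The other members. -/
theorem mem_cases {a b c : G} (ha : a ∈ A) (hb : b ∈ A) (hc : c ∈ A) (ha1 : a ≠ 1) (hb1 : b ≠ 1)
    (hab : a ≠ b) : c = 1 ∨ c = a ∨ c = b ∨ c = a * b := by
  classical
  by_contra hno
  push_neg at hno
  obtain ⟨hc1, hca, hcb, hcab⟩ := hno
  have hab1 : a * b ≠ 1 := fun e => hab (by rw [← inv_eq_of_mul_eq_one_left (H.ctx.sq ha), inv_eq_of_mul_eq_one_right e])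
  have haba : a * b ≠ a := fun e => hb1 (mul_eq_left.1 e)
  have habb : a * b ≠ b := fun e => ha1 (mul_eq_right.1 e)
  haveI : Fintype ↥A := Fintype.ofFinite _
  have h5 : ({⟨1, one_mem A⟩, ⟨a, ha⟩, ⟨b, hb⟩, ⟨a * b, mul_mem ha hb⟩, ⟨c, hc⟩} : Finset ↥A).card = 5 := by
    simp [Finset.card_insert_of_notMem, ha1.symm, hb1.symm, hab1.symm, hc1.symm, hab, haba.symm,
      habb.symm, hca.symm, hcb.symm, hcab.symm]
  have := Finset.card_le_univ ({⟨1, one_mem A⟩, ⟨a, ha⟩, ⟨b, hb⟩, ⟨a * b, mul_mem ha hb⟩, ⟨c, hc⟩} : Finset ↥A)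
  rw [h5, ← Nat.card_eq_fintype_card, H.four] at this
  omega

theorem exists_ne {a : G} (ha : a ∈ A) : ∃ b ∈ A, b ≠ 1 ∧ b ≠ a := by
  classical
  by_contra hno
  push_neg at hno
  haveI : Fintype ↥A := Fintype.ofFinite _
  have hsub : (Finset.univ : Finset ↥A) ⊆ {⟨1, one_mem A⟩, ⟨a, ha⟩} := fun x _ => by
    by_cases hx : (x : G) = 1
    · simp [Subtype.ext_iff, hx]
    · simp [Subtype.ext_iff, hno x x.2 hx]
  have := (Finset.card_le_card hsub).trans Finset.card_le_two
  rw [Finset.card_univ, ← Nat.card_eq_fintype_card, H.four] at this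
  omega

/-- An element of `N(A)` fixing a member centralises `A`. -/
theorem centralizes_of_fix {g a : G} (hg : g ∈ normalizer (A : Set G)) (ha : a ∈ A) (ha1 : a ≠ 1)
    (hga : g * a = a * g) : g ∈ centralizer (A : Set G) := by
  obtain ⟨b, hb, hb1, hba⟩ := H.exists_ne ha
  have hfa : g * a * g⁻¹ = a := by rw [hga, mul_inv_cancel_right]
  refine H.mem_centralizer_of_sq hg (mem_centralizer_iff.2 fun c hc => ?_)
  have hgb : g * b * g⁻¹ ∈ A := (mem_normalizer_iff.1 hg b).1 hb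
  have hfix : g * (g * b * g⁻¹) * g⁻¹ = b := by
    rcases H.mem_cases ha hb hgb ha1 hb1 (Ne.symm hba) with h | h | h | h
    · exact absurd (conj_eq_one_iff.1 h) hb1
    · exact absurd (mul_left_cancel (mul_right_cancel (h.trans hfa.symm))) hba
    · rw [h, h]
    · rw [h, show g * (a * b) * g⁻¹ = (g * a * g⁻¹) * (g * b * g⁻¹) by group, hfa, h, ← mul_assoc,
        H.ctx.sq ha, one_mul]
  have hfc : g * (g * c * g⁻¹) * g⁻¹ = c := by
    rcases H.mem_cases ha hb hc ha1 hb1 (Ne.symm hba) with rfl | rfl | rfl | rfl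
    · group
    · rw [hfa, hfa]
    · exact hfix
    · rw [show g * (g * (a * b) * g⁻¹) * g⁻¹
        = (g * (g * a * g⁻¹) * g⁻¹) * (g * (g * b * g⁻¹) * g⁻¹) by group, hfa, hfa, hfix]
  rw [pow_two]
  calc c * (g * g) = g * (g * c * g⁻¹) * g⁻¹ * (g * g) := by rw [hfc]
    _ = g * g * c := by group

/-- An element of odd order of `N(A)` transitive on the members. -/
theorem exists_rotation : ∃ g ∈ normalizer (A : Set G), Odd (orderOf g) ∧
    ∀ a ∈ A, ∀ b ∈ A, a ≠ 1 → b ≠ 1 → ∃ k : ℕ, g ^ k * a * (g ^ k)⁻¹ = b := by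
  obtain ⟨a₀, ha₀, ha₀1⟩ : ∃ a ∈ A, a ≠ 1 := by
    obtain ⟨⟨a, ha⟩, h⟩ := ne_bot_iff_exists_ne_one.1 H.ctx.ne
    exact ⟨a, ha, fun e => h (Subtype.ext e)⟩
  obtain ⟨g₀, hg₀, hgm⟩ : ∃ g ∈ normalizer (A : Set G), g ∉ centralizer (A : Set G) := by
    by_contra hno
    push_neg at hno
    obtain ⟨b, hb, hb1, hba⟩ := H.exists_ne ha₀
    rcases H.ctx.irred (zpowers a₀) (zpowers_le.2 ha₀) (fun g hg => centralizer_le_normalizer _
      (mem_centralizer_iff.2 fun c hc => by
        obtain ⟨k, rfl⟩ := mem_zpowers_iff.1 hc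
        exact mem_centralizer_iff.1 (hno g hg) _ (zpow_mem ha₀ k))) with h | h
    · exact ha₀1 (mem_bot.1 (h ▸ mem_zpowers a₀))
    · have h1 := congrArg (fun K : Subgroup G => Nat.card ↥K) h
      simp only [Nat.card_zpowers, H.four] at h1
      have h2 := orderOf_dvd_of_pow_eq_one (show a₀ ^ 2 = 1 by rw [pow_two]; exact H.ctx.sq ha₀)
      rw [h1] at h2
      omega
  obtain ⟨k, m, hm, hnm⟩ := Nat.exists_eq_two_pow_mul_odd (orderOf_pos g₀).ne'
  set g := g₀ ^ 2 ^ k with hgdef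
  have hgN : g ∈ normalizer (A : Set G) := pow_mem hg₀ _
  have hgo : Odd (orderOf g) := by
    rw [hgdef, orderOf_pow' _ (by positivity), hnm, Nat.gcd_eq_right (dvd_mul_right _ _),
      Nat.mul_div_cancel_left _ (by positivity)]
    exact hm
  have hgC : g ∉ centralizer (A : Set G) := by
    intro h
    rw [hgdef] at h
    clear hgdef hnm hgN hgo
    induction k with
    | zero => exact hgm (by simpa using h)
    | succ k ih =>
      exact ih (H.mem_centralizer_of_sq (pow_mem hg₀ _) (by rwa [← pow_mul, ← pow_succ]))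
  refine ⟨g, hgN, hgo, fun a ha b hb ha1 hb1 => ?_⟩
  have hconj : ∀ n : ℕ, g ^ n * a * (g ^ n)⁻¹ ∈ A := fun n =>
    (mem_normalizer_iff.1 (pow_mem hgN n) a).1 ha
  have hne : ∀ (n : ℕ) (x : G), g ^ n * x * (g ^ n)⁻¹ = 1 → x = 1 := fun n x h => conj_eq_one_iff.1 h
  have h01 : g * a * g⁻¹ ≠ a := fun e => hgC (H.centralizes_of_fix hgN ha ha1 (by
    calc g * a = g * a * g⁻¹ * g := by group
      _ = a * g := by rw [e]))
  have h02 : g ^ 2 * a * (g ^ 2)⁻¹ ≠ a := fun e => hgC (H.mem_centralizer_of_sq hgN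
    (H.centralizes_of_fix (pow_mem hgN 2) ha ha1 (by
      calc g ^ 2 * a = g ^ 2 * a * (g ^ 2)⁻¹ * g ^ 2 := by group
        _ = a * g ^ 2 := by rw [e])))
  have hga : g * a * g⁻¹ ∈ A := by simpa using hconj 1
  rcases H.mem_cases ha hga hb ha1 (fun e => ha1 (conj_eq_one_iff.1 e)) h01.symm with h | h | h | h
  · exact absurd h hb1
  · exact ⟨0, by rw [h]; group⟩
  · exact ⟨1, by rw [h, pow_one]⟩
  · rcases H.mem_cases ha hga (hconj 2) ha1 (fun e => ha1 (conj_eq_one_iff.1 e)) h01.symm with h' | h' | h' | h'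
    · exact absurd (hne 2 a h') ha1
    · exact absurd h' h02
    · refine absurd ?_ h01
      calc g * a * g⁻¹ = g⁻¹ * (g ^ 2 * a * (g ^ 2)⁻¹) * g := by group
        _ = g⁻¹ * (g * a * g⁻¹) * g := by rw [h']
        _ = a := by group
    · exact ⟨2, by rw [h, h']⟩

/-- Conjugation by a member of `C(A)` keeps the hypotheses. -/
theorem conj {m : G} (hm : m ∈ centralizer (A : Set G)) : CornerHyp G (m • S) A := by
  have hmem : ∀ x : G, x ∈ ((m • S : Sylow 2 G) : Subgroup G) ↔ m⁻¹ * x * m ∈ (S : Subgroup G) := fun x => by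
    rw [Sylow.coe_subgroup_smul, Coprime.mem_conj]
  have hfixA : ∀ a ∈ A, m⁻¹ * a * m = a := fun a ha => by
    rw [mul_assoc, mem_centralizer_iff.1 hm a ha, inv_mul_cancel_left]
  refine
    { ctx :=
        { simple := H.ctx.simple, nonab := H.ctx.nonab, sec := H.ctx.sec
          le := fun a ha => (hmem a).2 (by rw [hfixA a ha]; exact H.ctx.le ha)
          ne := H.ctx.ne, elemAb := H.ctx.elemAb, closed := ⟨fun a ha => (hmem a).2 (by
              rw [hfixA a ha]; exact H.ctx.le ha), fun x hx g hg => ?_⟩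
          irred := H.ctx.irred }
      four := H.four, central := ?_, frattini := ?_, outside := ?_ }
  · have h1 := H.ctx.closed.2 x hx (m⁻¹ * g) (by
      rw [show m⁻¹ * g * x * (m⁻¹ * g)⁻¹ = m⁻¹ * (g * x * g⁻¹) * m by group]; exact (hmem _).1 hg)
    have h2 : m⁻¹ * (g * x * g⁻¹) * m ∈ A := by
      rwa [show m⁻¹ * g * x * (m⁻¹ * g)⁻¹ = m⁻¹ * (g * x * g⁻¹) * m by group] at h1
    have h3 := mem_centralizer_iff.1 hm _ h2
    rw [show g * x * g⁻¹ = m * (m⁻¹ * (g * x * g⁻¹) * m) * m⁻¹ by group, ← h3, mul_inv_cancel_right]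
    exact h2
  · intro x hx
    have h1 := H.central ((hmem x).1 hx)
    have h2 := mul_mem (mul_mem hm h1) (inv_mem hm)
    simpa [mul_assoc] using h2
  · intro a ha
    let e : ↥(S : Subgroup G) ≃* ↥((m • S : Sylow 2 G) : Subgroup G) :=
      { toFun := fun s => ⟨m * s * m⁻¹, (hmem _).2 (by simpa [mul_assoc] using s.2)⟩
        invFun := fun s => ⟨m⁻¹ * s * m, (hmem s).1 s.2⟩
        left_inv := fun s => Subtype.ext (show m⁻¹ * (m * (s : G) * m⁻¹) * m = s by group)
        right_inv := fun s => Subtype.ext (show m * (m⁻¹ * (s : G) * m) * m⁻¹ = s by group)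
        map_mul' := fun s t => Subtype.ext
          (show m * ((s : G) * t) * m⁻¹ = m * (s : G) * m⁻¹ * (m * (t : G) * m⁻¹) by group) }
    have haA : (a : G) ∈ A := ha
    have h1 : e.symm a ∈ _root_.frattini ↥(S : Subgroup G) := H.frattini (by
      show m⁻¹ * (a : G) * m ∈ A
      rw [hfixA _ haA]; exact haA)
    by_contra hna
    obtain ⟨M, hM, haM⟩ : ∃ M : Subgroup ↥((m • S : Sylow 2 G) : Subgroup G), IsCoatom M ∧ a ∉ M := by
      by_contra hall
      push_neg at hall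
      exact hna (PGroup.le_frattini (K := zpowers a) (fun M hM => zpowers_le.2 (hall M hM)) (mem_zpowers a))
    have hMc : IsCoatom (M.comap e.toMonoidHom) := by
      rw [← e.symm.mapSubgroup.isCoatom_iff M] at hM
      convert hM using 1
      exact (Subgroup.map_equiv_eq_comap_symm e.symm M).symm
    have h2 : e.symm a ∈ M.comap e.toMonoidHom := frattini_le_coatom hMc h1
    exact haM (by simpa using h2)
  · obtain ⟨e, he, he2, heA⟩ := H.outside
    refine ⟨m * e * m⁻¹, (hmem _).2 (by simpa [mul_assoc] using he), ?_, fun h => heA ?_⟩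
    · rw [show m * e * m⁻¹ * (m * e * m⁻¹) = m * (e * e) * m⁻¹ by group, he2]; group
    · have := hfixA _ h
      rw [show m⁻¹ * (m * e * m⁻¹) * m = e by group] at this
      rwa [this]

/-- A 2-subgroup over `A` lies in a Sylow subgroup with the same hypotheses. -/
theorem exists_sylow {P : Subgroup G} (hP : IsPGroup 2 ↥P) (hAP : A ≤ P) :
    ∃ S' : Sylow 2 G, CornerHyp G S' A ∧ P ≤ (S' : Subgroup G) := by
  haveI : Fact (Nat.Prime 2) := ⟨Nat.prime_two⟩
  set M := centralizer (A : Set G)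
  have hPM := H.le_centralizer_of_two hP hAP
  obtain ⟨P', hP'⟩ := (hP.of_equiv (Subgroup.subgroupOfEquivOfLe hPM).symm).exists_le_sylow
  obtain ⟨k, hk⟩ := MulAction.exists_smul_eq ↥M (S.subtype H.central) P'
  refine ⟨(k : G) • S, H.conj k.2, fun p hp => ?_⟩
  have h1 : (⟨p, hPM hp⟩ : ↥M) ∈ ((k • S.subtype H.central : Sylow 2 ↥M) : Subgroup ↥M) := by
    rw [hk]; exact hP' hp
  rw [Sylow.coe_subgroup_smul, Coprime.mem_conj] at h1
  rw [Sylow.coe_subgroup_smul, Coprime.mem_conj]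
  exact h1

/-! ### C1, C2: the centralisers of members -/

/-- The image of `A` in a centraliser has four elements. -/
theorem card_bar {y : G} (hy : y ∈ centralizer (A : Set G)) : Nat.card ↥(bar A y) = 4 := by
  have hle : A ≤ centralizer ({y} : Set G) := le_centralizer_singleton hy
  rw [← H.four, ← Nat.card_congr (subgroupOfEquivOfLe hle).toEquiv]
  refine (Nat.card_congr (Equiv.ofBijective
    (fun x : ↥(A.subgroupOf (centralizer ({y} : Set G))) =>
      (⟨proj y x.1, x.1, x.2, rfl⟩ : ↥(bar A y))) ⟨fun a b h => ?_, ?_⟩)).symm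
  · have h1 : proj y a.1 = proj y b.1 := congrArg Subtype.val h
    have h2 := proj_eq_one_of_two H.ctx.two (x := a.1⁻¹ * b.1) (mul_mem (inv_mem a.2) b.2)
      (by rw [map_mul, map_inv, h1, inv_mul_cancel])
    exact Subtype.ext (inv_mul_eq_one.1 h2)
  · rintro ⟨z, w, hw, rfl⟩
    exact ⟨⟨w, hw⟩, rfl⟩

theorem ne_one_of_not_mem {y : G} (hy : y ∉ A) : y ≠ 1 := fun e => hy (e ▸ one_mem A)

/-- The local group of an involution commuting with `A`. -/
theorem localY {y : G} (hy : y ∈ centralizer (A : Set G)) (hy1 : y ≠ 1) :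
    Local (Bar y) (proj y '' ((centralizer ({y} : Set G)).subtype ⁻¹' classSet A)) (bar A y) :=
  H.ctx.localQuot (H.ctx.centralizer_ne_top hy1) (le_centralizer_singleton hy)

/-- The parameter and the fixer of a moved component. -/
theorem param {y : G} (hy : y ∈ centralizer (A : Set G)) {K : Subgroup (Bar y)} {q : ℕ}
    (hd : CompData (bar A y) K q) : q = 4 ∧ General.fixer (bar A y) K = ⊥ := by
  have h1 := hd.card
  rw [H.card_bar hy] at h1
  have hq := (General.shapeFacts hd.shape).four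
  have hf : 1 ≤ Nat.card ↥(General.fixer (bar A y) K) := Nat.card_pos
  refine ⟨by nlinarith, Subgroup.eq_bot_of_card_eq _ ?_⟩
  nlinarith

/-- No component of `Bar a` is moved. -/
theorem not_moved {a : G} (ha : a ∈ A) (ha1 : a ≠ 1) (K : Subgroup (Bar a)) :
    ¬ Moved (bar A a) K := by
  intro hK
  obtain ⟨q, hd⟩ := compData (H.ctx.localBar ha ha1) hK
  have hb := (H.param (H.le_centralizer_self ha) hd).2
  set a' : ↥(centralizer ({a} : Set G)) := ⟨a, mem_centralizer_singleton_iff.2 rfl⟩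
  have h1 : proj a a' ∈ General.fixer (bar A a) K := ⟨⟨a', ha, rfl⟩, mem_centralizer_iff.2 fun m _ => by
    obtain ⟨z, rfl⟩ := QuotientGroup.mk'_surjective _ m
    rw [← map_mul, ← map_mul]
    exact congrArg _ (Subtype.ext (mem_centralizer_singleton_iff.1 z.2))⟩
  rw [hb, mem_bot] at h1
  exact ha1 (congrArg Subtype.val (proj_eq_one_of_two H.ctx.two (x := a') ha h1))

theorem bar_normal {a : G} (ha : a ∈ A) (ha1 : a ≠ 1) :
    normalizer ((bar A a : Subgroup (Bar a)) : Set (Bar a)) = ⊤ :=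
  decomp (H.ctx.localBar ha ha1) _ le_rfl fun K hK => absurd hK (H.not_moved ha ha1 K)

/-- C1: `C(a) = O(C a) C(A)`. -/
theorem exists_core_mul {a : G} (ha : a ∈ A) (ha1 : a ≠ 1) {x : G} (hx : x ∈ centralizer ({a} : Set G)) :
    ∃ o ∈ centralizerPPrimeCore 2 a, ∃ m ∈ centralizer (A : Set G), o * m = x := by
  set x' : ↥(centralizer ({a} : Set G)) := ⟨x, hx⟩
  obtain ⟨y, hy, hye⟩ := H.ctx.normalizer_lift (H.ctx.le_centralizer_of_mem ha) (x := x')
    (by rw [H.bar_normal ha ha1]; exact mem_top _)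
  refine ⟨((x' * y⁻¹ : ↥(centralizer ({a} : Set G))) : G), ⟨x' * y⁻¹, ?_, rfl⟩, y,
    H.centralizes_of_fix hy ha ha1 (mem_centralizer_singleton_iff.1 y.2), ?_⟩
  · show x' * y⁻¹ ∈ pPrimeCore 2 ↥(centralizer ({a} : Set G))
    rw [← QuotientGroup.eq_one_iff (N := pPrimeCore 2 ↥(centralizer ({a} : Set G))),
      ← QuotientGroup.mk'_apply, map_mul, map_inv, ← hye, mul_inv_cancel]
  · show x * (y : G)⁻¹ * (y : G) = x
    group

/-- C1: the image of `A` is central in `Bar a`. -/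
theorem proj_commute {a : G} (ha : a ∈ A) (ha1 : a ≠ 1) (x b : ↥(centralizer ({a} : Set G)))
    (hb : (b : G) ∈ A) : proj a x * proj a b = proj a b * proj a x := by
  obtain ⟨o, ⟨o', ho, rfl⟩, m, hm, hom⟩ := H.exists_core_mul ha ha1 x.2
  set m' : ↥(centralizer ({a} : Set G)) := ⟨m, centralizer_le_singleton ha hm⟩
  have hx : proj a x = proj a m' := by
    have ho1 : proj a o' = 1 := (QuotientGroup.eq_one_iff o').2 ho
    rw [show x = o' * m' from Subtype.ext hom.symm, map_mul, ho1, one_mul]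
  rw [hx, ← map_mul, ← map_mul]
  exact congrArg _ (Subtype.ext (mem_centralizer_iff.1 hm _ hb).symm)

/-- C1: `O(C a) ∩ C(A) = O(C(A))`. -/
theorem core_inf_centralizer {a : G} (ha : a ∈ A) (ha1 : a ≠ 1) :
    centralizerPPrimeCore 2 a ⊓ centralizer (A : Set G) =
      (pPrimeCore 2 ↥(centralizer (A : Set G))).map (centralizer (A : Set G)).subtype := by
  haveI : Fact (Nat.Prime 2) := ⟨Nat.prime_two⟩
  set M := centralizer (A : Set G) with hM
  set C := centralizer ({a} : Set G) with hC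
  have hMC : M ≤ C := centralizer_le_singleton ha
  apply le_antisymm
  · set D := (centralizerPPrimeCore 2 a ⊓ M).subgroupOf M with hD
    haveI : D.Normal := by
      refine ⟨fun d hd m => ?_⟩
      obtain ⟨⟨d', hd', hde⟩, -⟩ := mem_subgroupOf.1 hd
      refine mem_subgroupOf.2 ⟨⟨⟨m, hMC m.2⟩ * d' * ⟨m, hMC m.2⟩⁻¹,
        (Cores.pPrimeCore_normal (G := ↥C) 2).conj_mem d' hd' _, ?_⟩, (m * d * m⁻¹).2⟩
      show (m : G) * d' * (m : G)⁻¹ = m * d * (m : G)⁻¹
      rw [show (d' : G) = d from hde]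
    have hcard : (Nat.card ↥D).Coprime 2 := by
      refine Nat.Coprime.coprime_dvd_left ?_ (Cores.coprime_card_pPrimeCore (G := ↥C) 2)
      rw [Nat.card_congr (subgroupOfEquivOfLe inf_le_right).toEquiv]
      refine (card_dvd_of_le inf_le_left).trans ?_
      exact dvd_of_eq (card_map_of_injective C.subtype_injective)
    intro x hx
    exact ⟨⟨x, hx.2⟩, Cores.le_pPrimeCore inferInstance hcard (mem_subgroupOf.2 hx), rfl⟩
  · rintro x ⟨o, ho, rfl⟩
    refine ⟨?_, o.2⟩
    set R := (pPrimeCore 2 ↥M).map ((proj a).comp (Subgroup.inclusion hMC)) with hR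
    haveI : R.Normal := by
      refine ⟨fun r hr g => ?_⟩
      obtain ⟨d, hd, rfl⟩ := hr
      obtain ⟨z, rfl⟩ := QuotientGroup.mk'_surjective _ g
      obtain ⟨_, ⟨o', ho', rfl⟩, m, hm, hom⟩ := H.exists_core_mul ha ha1 z.2
      refine ⟨⟨m, hm⟩ * d * ⟨m, hm⟩⁻¹, (Cores.pPrimeCore_normal (G := ↥M) 2).conj_mem d hd _, ?_⟩
      rw [show z = o' * Subgroup.inclusion hMC ⟨m, hm⟩ from Subtype.ext hom.symm, map_mul, map_mul,
        map_mul (QuotientGroup.mk' _) o', map_inv]
      have ho1 : proj a o' = 1 := (QuotientGroup.eq_one_iff o').2 ho'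
      simp only [proj] at ho1
      rw [ho1, one_mul]
      rfl
    have h1 : R ≤ pPrimeCore 2 (Bar a) := Cores.le_pPrimeCore inferInstance
      ((Cores.coprime_card_pPrimeCore (G := ↥M) 2).coprime_dvd_left (card_map_dvd _ _))
    rw [Cores.pPrimeCore_quotient_self, le_bot_iff] at h1
    have h2 : proj a (Subgroup.inclusion hMC o) = 1 := mem_bot.1 (h1 ▸ ⟨o, ho, rfl⟩)
    exact ⟨_, (QuotientGroup.eq_one_iff _).1 h2, rfl⟩

/-- C2: an element of odd order of `C(b)` inverted by a member lies in the core. -/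
theorem mem_core_of_inverted {b c z : G} (hb : b ∈ A) (hb1 : b ≠ 1) (hc : c ∈ A)
    (hz : z ∈ centralizer ({b} : Set G)) (hodd : Odd (orderOf z)) (hinv : c * z * c⁻¹ = z⁻¹) :
    z ∈ centralizerPPrimeCore 2 b := by
  set z' : ↥(centralizer ({b} : Set G)) := ⟨z, hz⟩
  set c' : ↥(centralizer ({b} : Set G)) := ⟨c, H.ctx.le_centralizer_of_mem hb hc⟩
  refine ⟨z', (QuotientGroup.eq_one_iff _).1 ?_, rfl⟩
  show proj b z' = 1
  have h1 := H.proj_commute hb hb1 z' c' hc
  have h2 : proj b c' * proj b z' * (proj b c')⁻¹ = (proj b z')⁻¹ := by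
    rw [← map_mul, ← map_inv, ← map_mul, ← map_inv]
    exact congrArg _ (Subtype.ext hinv)
  rw [← h1, mul_inv_cancel_right, eq_inv_iff_mul_eq_one, ← pow_two] at h2
  have h3 : Odd (orderOf (proj b z')) := by
    refine hodd.of_dvd_nat ((orderOf_map_dvd _ _).trans ?_)
    rw [← Subgroup.orderOf_coe]
  exact orderOf_eq_one_iff.1 (Nat.eq_one_of_dvd_coprimes (Nat.coprime_two_right.2 h3) dvd_rfl
    (orderOf_dvd_of_pow_eq_one h2))

/-! ### C3: involutions outside `A` -/

/-- C3: a moved component in the centraliser of an involution commuting with `A`. -/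
theorem compFacts {y : G} (hy : y ∈ centralizer (A : Set G)) (hy1 : y ≠ 1) {K : Subgroup (Bar y)}
    (hK : Moved (bar A y) K) :
    CompData (bar A y) K 4 ∧ Subgroup.center ↥K = ⊥ ∧ General.fixer (bar A y) K = ⊥ ∧ bar A y ≤ K ∧
      ∀ K' : Subgroup (Bar y), Moved (bar A y) K' → K' = K := by
  have hloc := H.localY hy hy1
  have key : ∀ K : Subgroup (Bar y), Moved (bar A y) K →
      CompData (bar A y) K 4 ∧ General.fixer (bar A y) K = ⊥ ∧ bar A y ≤ K := by
    intro K hK
    obtain ⟨q, hd⟩ := compData hloc hK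
    obtain ⟨rfl, hf⟩ := H.param hy hd
    refine ⟨hd, hf, ?_⟩
    have h1 := hd.sup
    rw [hf, sup_bot_eq] at h1
    exact h1.ge.trans inf_le_right
  obtain ⟨hd, hf, hle⟩ := key K hK
  refine ⟨hd, by_contra fun hc => by have := (hd.cover hc).1; omega, hf, hle, fun K' hK' => ?_⟩
  by_contra hne
  refine hK.2 (le_centralizer_iff.1 ?_)
  intro b hb
  have hbot := IsComponent.commutator_eq_bot hK'.1 hK.1 hne
  exact mem_centralizer_iff.2 fun k hk => (commutatorElement_eq_one_iff_mul_comm.1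
    (mem_bot.1 (hbot ▸ commutator_mem_commutator ((key K' hK').2.2 hb) hk))).symm

/-- C3: the data of a bad involution inside a 2-subgroup of its centraliser. -/
theorem badAt_of_bad {T : Subgroup G} (hT : IsPGroup 2 ↥T) (hAT : A ≤ T) {y : G} (hy : y ∈ T) (hyA : y ∉ A)
    (hTy : T ≤ centralizer ({y} : Set G)) (hbad : Bad A y) :
    ∃ (K : Subgroup (Bar y)) (R : Subgroup G) (g : G), BadAt A T y K R g := by
  haveI : Fact (Nat.Prime 2) := ⟨Nat.prime_two⟩
  have hTM := H.le_centralizer_of_two hT hAT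
  have hyM := hTM hy
  have hy1 := H.ne_one_of_not_mem hyA
  have hloc := H.localY hyM hy1
  obtain ⟨K, hK, q', hsmall'⟩ := hbad
  obtain ⟨hd, hcen, hfix, hpart, honly⟩ := H.compFacts hyM hy1 hK
  have hsmall : SmallFacts (↥K ⧸ Subgroup.center ↥K) 4 := by
    obtain ⟨Q₀⟩ : Nonempty (Sylow 2 (↥K ⧸ Subgroup.center ↥K)) := inferInstance
    have h1 := (General.shapeFacts hd.shape).card_centre Q₀
    rw [hsmall'.centre_eq, (hsmall'.sylow Q₀).2] at h1
    exact h1 ▸ hsmall'
  -- `T` normalises `K`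
  set Cy := centralizer ({y} : Set G) with hCy
  have hnK : ∀ t : ↥Cy, (t : G) ∈ T → proj y t ∈ normalizer (K : Set (Bar y)) := by
    intro t ht
    have hcomp := IsComponent.conj hK.1 (proj y t)
    have hmv : Moved (bar A y) (K.map (MulAut.conj (proj y t)).toMonoidHom) := by
      refine ⟨hcomp, fun hle => hK.2 fun k hk => mem_centralizer_iff.2 fun _ ⟨a, ha, hae⟩ => ?_⟩
      subst hae
      have h1 := mem_centralizer_iff.1 (hle ⟨k, hk, rfl⟩) (proj y a) ⟨a, ha, rfl⟩
      have h2 : proj y t * proj y a * (proj y t)⁻¹ = proj y a := by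
        rw [← map_mul, ← map_inv, ← map_mul]
        refine congrArg _ (Subtype.ext ?_)
        show (t : G) * a * (t : G)⁻¹ = a
        rw [← mem_centralizer_iff.1 (hTM ht) (a : G) (mem_subgroupOf.1 ha), mul_inv_cancel_right]
      have h1' : proj y a * (proj y t * k * (proj y t)⁻¹) = proj y t * k * (proj y t)⁻¹ * proj y a := h1
      calc proj y a * k
          = (proj y t)⁻¹ * ((proj y t * proj y a * (proj y t)⁻¹) * (proj y t * k * (proj y t)⁻¹)) * proj y t := by
            group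
        _ = (proj y t)⁻¹ * (proj y t * k * (proj y t)⁻¹ * proj y a) * proj y t := by rw [h2, h1']
        _ = k * ((proj y t)⁻¹ * proj y a * proj y t) := by group
        _ = k * proj y a := by
          congr 1
          calc (proj y t)⁻¹ * proj y a * proj y t
              = (proj y t)⁻¹ * (proj y t * proj y a * (proj y t)⁻¹) * proj y t := by rw [h2]
            _ = proj y a := by group
    have he := honly _ hmv
    refine Coprime.mem_normalizer_of_forall fun k hk => ?_
    exact he.le ⟨k, hk, rfl⟩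
  -- every element of `T` is a member times one centralising `K`
  obtain ⟨q, Qb, h, c⟩ := exists_chart hloc hK
  have hq : q = 4 := by
    have h1 := (General.shapeFacts c.shape).card_centre Qb
    rw [hsmall.centre_eq, (hsmall.sylow Qb).2] at h1
    exact h1.symm
  subst hq
  set R : Subgroup G :=
    T ⊓ ((centralizer (K : Set (Bar y))).comap (proj y)).map Cy.subtype with hR
  have hmemR : ∀ t : ↥Cy, (t : G) ∈ R ↔ (t : G) ∈ T ∧ proj y t ∈ centralizer (K : Set (Bar y)) := by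
    intro t
    constructor
    · rintro ⟨h1, t', ht', hte⟩
      exact ⟨h1, (Subtype.ext hte : t' = t) ▸ ht'⟩
    · exact fun h => ⟨h.1, t, h.2, rfl⟩
  have hdecomp : ∀ t : ↥Cy, (t : G) ∈ T → ∃ a : ↥Cy, (a : G) ∈ A ∧
      proj y (a⁻¹ * t) ∈ centralizer (K : Set (Bar y)) := by
    intro t ht
    set α := ThreePrime.quotAut (hnK t ht) with hα
    have hαfix : ∀ x ∈ (Qb : Subgroup (↥K ⧸ Subgroup.center ↥K)), α x = x := by
      intro x hx
      obtain ⟨b, hb, rfl⟩ := c.onto x (by rw [hsmall.centre_eq]; exact hx)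
      rw [hα, cproj, ThreePrime.quotAut_mk]
      refine congrArg _ (Subtype.ext ?_)
      show proj y t * (b : Bar y) * (proj y t)⁻¹ = b
      obtain ⟨a, ha, hae⟩ := hb
      rw [← hae, ← map_mul, ← map_inv, ← map_mul]
      refine congrArg _ (Subtype.ext ?_)
      show (t : G) * a * (t : G)⁻¹ = a
      rw [← mem_centralizer_iff.1 (hTM ht) (a : G) (mem_subgroupOf.1 ha), mul_inv_cancel_right]
    obtain ⟨n, hn⟩ := hT ⟨t, ht⟩
    have htn : t ^ 2 ^ n = 1 := Subtype.ext (by
      have := congrArg Subtype.val hn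
      simpa using this)
    obtain ⟨s, hs, hαs⟩ := hsmall.autInner Qb α
      ⟨n, ThreePrime.quotAut_pow_eq_one _ (by rw [← map_pow, htn, map_one])⟩ hαfix
    obtain ⟨b, hb, rfl⟩ := c.onto s (by rw [hsmall.centre_eq]; exact hs)
    obtain ⟨a, ha, hae⟩ := hb
    have hbn : (b : Bar y) ∈ normalizer (K : Set (Bar y)) := le_normalizer b.2
    refine ⟨a, ha, ?_⟩
    rw [map_mul, map_inv, hae]
    refine ThreePrime.centralizes_of_quotAut hK.1 (mul_mem (inv_mem hbn) (hnK t ht)) ?_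
    refine MulEquiv.ext fun g => ?_
    obtain ⟨k, rfl⟩ := cproj_surjective K g
    rw [cproj, ThreePrime.quotAut_mk, MulAut.one_apply]
    have h1 : cproj K ⟨proj y t * k * (proj y t)⁻¹, (mem_normalizer_iff.1 (hnK t ht) k).1 k.2⟩ =
        cproj K (b * k * b⁻¹) := by
      rw [map_mul, map_mul, map_inv]
      exact MulEquiv.congr_fun hαs (cproj K k)
    have h2 : cproj K (b⁻¹ * ⟨proj y t * k * (proj y t)⁻¹, (mem_normalizer_iff.1 (hnK t ht) k).1 k.2⟩ * b) =
        cproj K k := by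
      rw [map_mul, map_mul, h1, ← map_mul, ← map_mul]
      exact congrArg _ (by group)
    rw [← h2]
    exact congrArg _ (Subtype.ext (by simp [mul_assoc]))
  have hsup : R ⊔ A = T := by
    refine le_antisymm (sup_le inf_le_left hAT) fun t ht => ?_
    obtain ⟨a, ha, hc⟩ := hdecomp ⟨t, hTy ht⟩ ht
    rw [show t = (a : G) * ((a : G)⁻¹ * t) by group]
    exact mul_mem (mem_sup_right ha) (mem_sup_left ((hmemR (a⁻¹ * ⟨t, hTy ht⟩)).2
      ⟨mul_mem (inv_mem (hAT ha)) ht, hc⟩))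
  have hdisj : R ⊓ A = ⊥ := (eq_bot_iff_forall _).2 fun x hx => by
    have h1 := (hmemR ⟨x, hTy hx.1.1⟩).1 hx.1
    have h2 : proj y ⟨x, hTy hx.1.1⟩ ∈ General.fixer (bar A y) K := ⟨⟨_, hx.2, rfl⟩, h1.2⟩
    rw [hfix, mem_bot] at h2
    exact congrArg Subtype.val (proj_eq_one_of_two (P := T) hT (x := ⟨x, hTy hx.1.1⟩) hx.1.1 h2)
  have hyR : y ∈ R := (hmemR ⟨y, mem_centralizer_singleton_iff.2 rfl⟩).2 ⟨hy, mem_centralizer_iff.2 fun m _ => by
    obtain ⟨z, rfl⟩ := QuotientGroup.mk'_surjective _ m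
    rw [← map_mul, ← map_mul]
    exact congrArg _ (Subtype.ext (mem_centralizer_singleton_iff.1 z.2))⟩
  have hcent : (R.subgroupOf Cy).map (proj y) ≤ centralizer (K : Set (Bar y)) := by
    rintro _ ⟨r, hr, rfl⟩
    exact ((hmemR r).1 hr).2
  -- the lifted torus
  obtain ⟨h₀, hhK, hhN, hho, ⟨P, hPle, -, hPsup, -, htrans⟩, -⟩ := hd.torus
  rw [hfix, sup_bot_eq] at hPsup
  obtain ⟨x, hx⟩ := QuotientGroup.mk'_surjective _ h₀
  set f := QuotientGroup.mk' (pPrimeCore 2 ↥Cy) with hf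
  have hhR : ∀ r : ↥Cy, (r : G) ∈ R → proj y r * h₀ = h₀ * proj y r := fun r hr =>
    (mem_centralizer_iff.1 ((hmemR r).1 hr).2 h₀ hhK).symm
  have hxT : f x ∈ normalizer (((T.subgroupOf Cy).map f : Subgroup _) : Set _) := by
    rw [hx]
    refine Coprime.mem_normalizer_of_forall ?_
    rintro _ ⟨t, ht, rfl⟩
    obtain ⟨a, ha, hc⟩ := hdecomp t ht
    have hr : ((a⁻¹ * t : ↥Cy) : G) ∈ R := (hmemR _).2 ⟨mul_mem (inv_mem (hAT ha)) ht, hc⟩
    have h1 : h₀ * proj y a * h₀⁻¹ ∈ bar A y := (mem_normalizer_iff.1 hhN _).1 ⟨a, ha, rfl⟩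
    obtain ⟨a', ha', hae⟩ := h1
    refine ⟨a' * (a⁻¹ * t), mul_mem (hAT ha') (mul_mem (inv_mem (hAT ha)) ht), ?_⟩
    show proj y (a' * (a⁻¹ * t)) = h₀ * proj y t * h₀⁻¹
    rw [map_mul, hae, show proj y t = proj y a * proj y (a⁻¹ * t) by rw [← map_mul, mul_inv_cancel_left]]
    calc h₀ * proj y a * h₀⁻¹ * proj y (a⁻¹ * t)
        = h₀ * proj y a * h₀⁻¹ * (proj y (a⁻¹ * t) * h₀) * h₀⁻¹ := by group
      _ = h₀ * proj y a * h₀⁻¹ * (h₀ * proj y (a⁻¹ * t)) * h₀⁻¹ := by rw [hhR _ hr]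
      _ = _ := by group
  obtain ⟨g₁, hg₁N, hg₁e⟩ := exists_lift_normalizer (Cores.coprime_card_pPrimeCore 2)
    (hT.comap_of_injective Cy.subtype Cy.subtype_injective) hxT
  obtain ⟨n, hgn, hgodd⟩ := exists_odd_pow f g₁ (by rw [hg₁e, hx]; exact hho)
  set g := g₁ ^ n with hgdef
  have hge : proj y g = h₀ := hgn.trans (hg₁e.trans hx)
  have hgT : ∀ t : ↥Cy, (t : G) ∈ T → ((g * t * g⁻¹ : ↥Cy) : G) ∈ T := fun t ht =>
    (mem_normalizer_iff.1 (pow_mem hg₁N n) t).1 ht
  have hgA : (g : G) ∈ normalizer (A : Set G) := Coprime.mem_normalizer_of_forall fun a ha => by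
    set a' : ↥Cy := ⟨a, hTy (hAT ha)⟩
    refine mem_of_proj_mem_bar hT hAT (x := g * a' * g⁻¹) (hgT a' (hAT ha)) ?_
    rw [map_mul, map_mul, map_inv, hge]
    exact (mem_normalizer_iff.1 hhN _).1 ⟨a', ha, rfl⟩
  refine ⟨K, R, g, hK, hcen, hsmall, hfix, hpart, honly, inf_le_left, hyR, hdisj, hsup, hcent,
    hgA, by rw [Subgroup.orderOf_coe]; exact hgodd, ?_, ?_⟩
  · refine mem_centralizer_iff.2 fun r hr => ?_
    set r' : ↥Cy := ⟨r, hTy hr.1⟩
    have h1 : r'⁻¹ * (g * r' * g⁻¹) = 1 := proj_eq_one_of_two (P := T) hT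
      (mul_mem (inv_mem (show (r' : G) ∈ T from hr.1)) (hgT r' hr.1)) (by
        rw [map_mul, map_inv, map_mul, map_mul, map_inv, hge, ← hhR r' hr, mul_inv_cancel_right,
          inv_mul_cancel])
    have h2 : r = (g : G) * r * (g : G)⁻¹ := congrArg Subtype.val (inv_mul_eq_one.1 h1)
    calc r * (g : G) = (g : G) * r * (g : G)⁻¹ * (g : G) := by rw [← h2]
      _ = (g : G) * r := by group
  · intro a ha b hb ha1 hb1
    set a' : ↥Cy := ⟨a, hTy (hAT ha)⟩
    set b' : ↥Cy := ⟨b, hTy (hAT hb)⟩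
    have hne : ∀ w : ↥Cy, (w : G) ∈ A → (w : G) ≠ 1 → proj y w ≠ 1 := fun w hw hw1 e =>
      hw1 (congrArg Subtype.val (proj_eq_one_of_two H.ctx.two hw e))
    have hPb : ∀ w : ↥Cy, (w : G) ∈ A → proj y w ∈ P := fun w hw => hPsup.ge ⟨w, hw, rfl⟩
    obtain ⟨k, hk⟩ := htrans _ (hPb a' ha) _ (hPb b' hb) (hne a' ha ha1) (hne b' hb hb1)
    refine ⟨k, ?_⟩
    have hgk : (g : G) ^ k * a * ((g : G) ^ k)⁻¹ ∈ A := (mem_normalizer_iff.1 (pow_mem hgA k) a).1 ha
    have h1 : b'⁻¹ * (g ^ k * a' * (g ^ k)⁻¹) = 1 := proj_eq_one_of_two H.ctx.two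
      (mul_mem (inv_mem (show (b' : G) ∈ A from hb)) (by simpa using hgk)) (by
        rw [map_mul, map_inv, map_mul, map_mul, map_inv, map_pow, hge, hk, inv_mul_cancel])
    have h2 := congrArg Subtype.val (inv_mul_eq_one.1 h1)
    simpa using h2.symm

end Cfsg.Agent.Goldschmidt.General.CornerHyp

namespace Cfsg.Agent.Goldschmidt.General.Corner

open Cfsg Subgroup Cfsg.Agent.Components

universe u

/-- Badness is invariant under `N(A)`. -/
theorem Bad.conj {G : Type u} [Group G] [Finite G] {S : Sylow 2 G} {A : Subgroup G} (H : CornerHyp G S A)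
    {y n : G} (hy : y ∈ centralizer (A : Set G)) (hyA : y ∉ A) (hn : n ∈ normalizer (A : Set G))
    (hbad : Bad A y) : Bad A (n * y * n⁻¹) := by
  set y' := n * y * n⁻¹ with hy'
  have hy'M : y' ∈ centralizer (A : Set G) := mem_centralizer_iff.2 fun a ha => by
    have h1 := mem_centralizer_iff.1 hy _ ((mem_normalizer_iff.1 (inv_mem hn) a).1 ha)
    calc a * (n * y * n⁻¹) = n * ((n⁻¹ * a * n⁻¹⁻¹) * y) * n⁻¹ := by group
      _ = n * (y * (n⁻¹ * a * n⁻¹⁻¹)) * n⁻¹ := by rw [h1]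
      _ = n * y * n⁻¹ * a := by group
  have hy'A : y' ∉ A := fun h => hyA ((mem_normalizer_iff.1 hn y).2 h)
  have hmap : (centralizer ({y} : Set G)).map (MulAut.conj n).toMonoidHom = centralizer ({y'} : Set G) := by
    ext x
    constructor
    · rintro ⟨z, hz, rfl⟩
      refine mem_centralizer_singleton_iff.2 ?_
      show n * z * n⁻¹ * (n * y * n⁻¹) = n * y * n⁻¹ * (n * z * n⁻¹)
      calc n * z * n⁻¹ * (n * y * n⁻¹) = n * (z * y) * n⁻¹ := by group
        _ = n * (y * z) * n⁻¹ := by rw [mem_centralizer_singleton_iff.1 hz]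
        _ = _ := by group
    · intro hx
      refine ⟨n⁻¹ * x * n, mem_centralizer_singleton_iff.2 ?_, by simp [mul_assoc]⟩
      calc n⁻¹ * x * n * y = n⁻¹ * (x * (n * y * n⁻¹)) * n := by group
        _ = n⁻¹ * (n * y * n⁻¹ * x) * n := by rw [mem_centralizer_singleton_iff.1 hx]
        _ = _ := by group
  set e : ↥(centralizer ({y} : Set G)) ≃* ↥(centralizer ({y'} : Set G)) :=
    ((centralizer ({y} : Set G)).equivMapOfInjective _ (MulAut.conj n).injective).trans
      (MulEquiv.subgroupCongr hmap) with he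
  have heval : ∀ x, ((e x : ↥(centralizer ({y'} : Set G))) : G) = n * x * n⁻¹ := fun x => rfl
  set eb : Bar y ≃* Bar y' := QuotientGroup.congr _ _ e (Cores.pPrimeCore_map_mulEquiv e 2) with heb
  have hebp : ∀ x, eb (proj y x) = proj y' (e x) := fun x => rfl
  have hbar : (bar A y).map eb.toMonoidHom = bar A y' := by
    ext z
    constructor
    · rintro ⟨_, ⟨a, ha, rfl⟩, rfl⟩
      refine ⟨e a, ?_, (hebp a).symm⟩
      show ((e a : ↥(centralizer ({y'} : Set G))) : G) ∈ A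
      rw [heval]; exact (mem_normalizer_iff.1 hn _).1 ha
    · rintro ⟨a, ha, rfl⟩
      refine ⟨proj y (e.symm a), ⟨e.symm a, ?_, rfl⟩, ?_⟩
      · have h1 := heval (e.symm a)
        rw [e.apply_symm_apply] at h1
        exact (mem_normalizer_iff.1 hn _).2 (h1 ▸ ha)
      · show eb (proj y (e.symm a)) = proj y' a
        rw [hebp, e.apply_symm_apply]
  obtain ⟨K, hK, q, hsmall⟩ := hbad
  set K' := K.map eb.toMonoidHom with hK'def
  have hK' : Moved (bar A y') K' := by
    refine ⟨IsComponent.map_equiv eb hK.1, fun hle => hK.2 fun k hk => mem_centralizer_iff.2 fun b hb => ?_⟩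
    refine eb.injective ?_
    rw [map_mul, map_mul]
    exact mem_centralizer_iff.1 (hle ⟨k, hk, rfl⟩) _ (hbar ▸ ⟨b, hb, rfl⟩)
  obtain ⟨hd', -⟩ := H.compFacts hy'M (H.ne_one_of_not_mem hy'A) hK'
  rcases hd'.shape with hr | hs
  · exfalso
    set eK : ↥K ≃* ↥K' := K.equivMapOfInjective _ eb.injective
    have eQ : (↥K ⧸ Subgroup.center ↥K) ≃* (↥K' ⧸ Subgroup.center ↥K') :=
      QuotientGroup.congr _ _ eK (Subgroup.ext fun z => by
        constructor
        · rintro ⟨w, hw, rfl⟩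
          refine mem_center_iff.2 fun g => ?_
          obtain ⟨g, rfl⟩ := eK.surjective g
          show eK g * eK w = eK w * eK g
          rw [← map_mul, ← map_mul, mem_center_iff.1 hw g]
        · intro hz
          obtain ⟨w, rfl⟩ := eK.surjective z
          refine ⟨w, mem_center_iff.2 fun g => eK.injective ?_, rfl⟩
          rw [map_mul, map_mul, mem_center_iff.1 hz (eK g)])
    exact hsmall.not_borelCent ((borelCent_congr eQ).2 hr.borelCent)
  · exact ⟨K', hK', 4, hs⟩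

end Cfsg.Agent.Goldschmidt.General.Corner
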