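import Cfsg.Agent.Lib.Goldschmidt.General.Setup
import Cfsg.Agent.Lib.Goldschmidt.General.Targets

/-!
# The corner `|A| = 4`, `A ≤ Φ(S)`, an involution outside `A`: interface (owner: helper29; `CORNER.md`)

* `Bad A y`      : a component of small type moved by `A` in `Bar y`
* `BadAt`        : its data inside a maximal elementary centraliser `T`
* `MaxData S A T`: conclusion of section M
* `CoreControl A`: conclusion of section S: the cores of involution centralisers are balanced at `A`
* `DeltaCentral` : conclusion of section F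
-/

set_option autoImplicit false
set_option linter.unusedSectionVars false

namespace Cfsg.Agent.Goldschmidt.General.Corner

open Cfsg Subgroup
open scoped commutatorElement

universe u

variable {G : Type u} [Group G]

/-- A component of small type moved by `A` in the centraliser of `y`. -/
def Bad (A : Subgroup G) (y : G) : Prop :=
  ∃ K : Subgroup (Bar y), Moved (bar A y) K ∧ ∃ q : ℕ, SmallFacts (↥K ⧸ Subgroup.center ↥K) q

/-- Every coset of an involution of `C(A)` outside `A` contains a bad element. -/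
def AllBad (A : Subgroup G) : Prop :=
  ∀ x ∈ centralizer (A : Set G), x * x = 1 → x ∉ A → ∃ a ∈ A, Bad A (x * a)

/-- The data of a bad element `r` of `T`: the component `K`, the complement `R`, the element `g`. -/
structure BadAt (A T : Subgroup G) (r : G) (K : Subgroup (Bar r)) (R : Subgroup G) (g : G) : Prop where
  moved : Moved (bar A r) K
  simple : Subgroup.center ↥K = ⊥
  small : SmallFacts (↥K ⧸ Subgroup.center ↥K) 4
  fixer : General.fixer (bar A r) K = ⊥
  part : bar A r ≤ K
  only : ∀ K' : Subgroup (Bar r), Moved (bar A r) K' → K' = K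
  le : R ≤ T
  mem : r ∈ R
  disjoint : R ⊓ A = ⊥
  sup : R ⊔ A = T
  cent : (R.subgroupOf (centralizer ({r} : Set G))).map (proj r) ≤ centralizer (K : Set (Bar r))
  torus_mem : g ∈ normalizer (A : Set G)
  torus_odd : Odd (orderOf g)
  torus_cent : g ∈ centralizer (R : Set G)
  torus_trans : ∀ a ∈ A, ∀ b ∈ A, a ≠ 1 → b ≠ 1 → ∃ k : ℕ, g ^ k * a * (g ^ k)⁻¹ = b

variable [Finite G]

/-- A maximal elementary centraliser `T` with `N = N_S(T)`. -/
structure MaxData (S : Sylow 2 G) (A T : Subgroup G) : Prop where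
  le : T ≤ (S : Subgroup G)
  base : A ≤ T
  elem : Cfsg.IsElementaryAbelian 2 T
  card : Nat.card ↥T = 8 ∨ Nat.card ↥T = 16
  self : ∀ r ∈ T, r ∉ A → (S : Subgroup G) ⊓ centralizer ({r} : Set G) = T
  sylow : ∀ r ∈ T, r ∉ A → ∀ P : Subgroup G, IsPGroup 2 ↥P → T ≤ P → P ≤ centralizer ({r} : Set G) → P = T
  card_norm : Nat.card ↥((S : Subgroup G) ⊓ normalizer (T : Set G) : Subgroup G) = 4 * Nat.card ↥T
  sq : ∀ n ∈ (S : Subgroup G) ⊓ normalizer (T : Set G), n * n ∈ A
  comm : ∀ n ∈ (S : Subgroup G) ⊓ normalizer (T : Set G), ∀ m ∈ (S : Subgroup G) ⊓ normalizer (T : Set G),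
    ⁅n, m⁆ ∈ A
  surj : ∀ r ∈ T, r ∉ A → ∀ a ∈ A, ∃ n ∈ (S : Subgroup G) ⊓ normalizer (T : Set G), n * r * n⁻¹ = r * a
  maxc : ∀ v ∈ (S : Subgroup G), v * v = 1 → v ∉ A →
    Nat.card ↥((S : Subgroup G) ⊓ centralizer ({v} : Set G) : Subgroup G) ≤ Nat.card ↥T
  bad : ∀ r ∈ T, r ∉ A → ∃ (K : Subgroup (Bar r)) (R : Subgroup G) (g : G), BadAt A T r K R g

omit [Finite G] in
/-- The core of the centraliser of an involution of `C(A)` is balanced at the members of `A`. -/
def CoreControl (A : Subgroup G) : Prop :=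
  ∀ a ∈ A, a ≠ 1 → ∀ r ∈ centralizer (A : Set G), r * r = 1 →
    centralizerPPrimeCore 2 r ⊓ centralizer ({a} : Set G) ≤ centralizerPPrimeCore 2 a

omit [Finite G] in
/-- The signalizers of the four-subgroups of `T` centralise `T`. -/
def DeltaCentral (T : Subgroup G) : Prop :=
  ∀ D : Subgroup G, D ≤ T → Nat.card ↥D = 4 → Cfsg.signalizerDelta 2 D ≤ centralizer (T : Set G)

/-- Section G [`Corner/Good.lean`]. -/
def GoodTarget : Prop :=
  Aschbacher.CoreFreeCriterion.{u} → ∀ (G : Type u) [Group G] [Finite G] (S : Sylow 2 G) (A : Subgroup G),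
    CornerHyp G S A → LocalsHold A → HasStronglyEmbedded G ∨ AllBad A

/-- Section M [`Corner/Maximal.lean`]. -/
def MaximalTarget : Prop :=
  ∀ (G : Type u) [Group G] [Finite G] (S : Sylow 2 G) (A : Subgroup G),
    CornerHyp G S A → LocalsHold A → AllBad A →
    ∃ (S' : Sylow 2 G) (T : Subgroup G), CornerHyp G S' A ∧ MaxData S' A T

/-- Section E [`Corner/Eight.lean`]. -/
def EightTarget : Prop :=
  ∀ (G : Type u) [Group G] [Finite G] (S : Sylow 2 G) (A T : Subgroup G),
    CornerHyp G S A → LocalsHold A → MaxData S A T → Nat.card ↥T = 8 → False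

/-- Section S [`Corner/Sixteen.lean`]. -/
def SixteenTarget : Prop :=
  ∀ (G : Type u) [Group G] [Finite G] (S : Sylow 2 G) (A T : Subgroup G),
    CornerHyp G S A → LocalsHold A → MaxData S A T → Nat.card ↥T = 16 →
    (S : Subgroup G) ≤ normalizer (T : Set G) ∧ CoreControl A

/-- Section F [`Corner/Functor.lean`]. -/
def CornerFunctorTarget : Prop :=
  Aschbacher.CoreFreeCriterion.{u} → ∀ (G : Type u) [Group G] [Finite G] (S : Sylow 2 G) (A T : Subgroup G),
    CornerHyp G S A → LocalsHold A → MaxData S A T → Nat.card ↥T = 16 → CoreControl A →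
    HasStronglyEmbedded G ∨ DeltaCentral T

/-- Section V [`Corner/Module.lean`]. -/
def ModuleTarget : Prop :=
  Aschbacher.CoreFreeCriterion.{u} → ∀ (G : Type u) [Group G] [Finite G] (S : Sylow 2 G) (A T : Subgroup G),
    CornerHyp G S A → LocalsHold A → MaxData S A T → Nat.card ↥T = 16 → CoreControl A → DeltaCentral T →
    HasStronglyEmbedded G

end Cfsg.Agent.Goldschmidt.General.Corner
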