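import Cfsg.Agent.Lib.Goldschmidt.General.Corner.Basic
import Cfsg.Agent.Lib.Signalizer.SSFT.Main
import Cfsg.Agent.Lib.Signalizer.Core
import Cfsg.Agent.Lib.Signalizer.Basic
import Cfsg.Agent.Lib.Components.LocalBalance

/-!
# A coset without bad involutions gives a strongly embedded subgroup (owner: helper60; `CORNER.md`, section G)

* `midCore A x` : the odd core of `C(A) ∩ C(x)`
* `exists_lift_centralizer` : centralisers of 2-subgroups in `Bar y` are images
* `GoodCoset.le_core`, `GoodCoset.core_inf_le` : balance at the good involutions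
* `goodTheta`, `GoodCoset.isSignalizer` : the functor on `A⟨x⟩`
* `goodTarget`
-/

set_option autoImplicit false
set_option linter.unusedSectionVars false
set_option linter.style.haveILetI false

namespace Cfsg.Agent.Goldschmidt.General.Corner

open Cfsg Subgroup
open scoped commutatorElement

universe u

variable {G : Type u} [Group G]

/-- `C(A) ∩ C(x)`. -/
abbrev mid (A : Subgroup G) (x : G) : Subgroup G :=
  centralizer (A : Set G) ⊓ centralizer ({x} : Set G)

/-- The odd core of `C(A) ∩ C(x)`. -/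
def midCore (A : Subgroup G) (x : G) : Subgroup G :=
  (pPrimeCore 2 ↥(mid A x)).map (mid A x).subtype

theorem midCore_le (A : Subgroup G) (x : G) : midCore A x ≤ mid A x :=
  Subgroup.map_subtype_le _

theorem mid_le_normalizer_midCore (A : Subgroup G) (x : G) :
    mid A x ≤ normalizer (midCore A x : Set G) :=
  Signalizer.le_normalizer_of_conj_mem (by
    rintro c hc _ ⟨d, hd, rfl⟩
    exact ⟨⟨c, hc⟩ * d * ⟨c, hc⟩⁻¹, (Cores.pPrimeCore_normal (G := ↥(mid A x)) 2).conj_mem d hd _, rfl⟩)

variable [Finite G]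

theorem odd_of_not_dvd {n : ℕ} (h : ¬ 2 ∣ n) : Odd n :=
  Nat.odd_iff.2 (Nat.two_dvd_ne_zero.1 h)

theorem not_dvd_midCore (A : Subgroup G) (x : G) : ¬ 2 ∣ Nat.card ↥(midCore A x) := by
  haveI : Fact (Nat.Prime 2) := ⟨Nat.prime_two⟩
  rw [midCore, card_map_of_injective (Subgroup.subtype_injective _)]
  exact Cores.not_dvd_card_pPrimeCore

theorem le_midCore {A : Subgroup G} {x : G} {D : Subgroup G} (hD : D ≤ mid A x)
    (hn : mid A x ≤ normalizer (D : Set G)) (hodd : ¬ 2 ∣ Nat.card ↥D) : D ≤ midCore A x := by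
  haveI : (D.subgroupOf (mid A x)).Normal := normal_subgroupOf_of_le_normalizer hn
  intro d hd
  refine ⟨⟨d, hD hd⟩, Cores.le_pPrimeCore inferInstance ?_ (show (⟨d, hD hd⟩ : ↥(mid A x)) ∈
    D.subgroupOf (mid A x) from hd), rfl⟩
  rw [Nat.card_congr (subgroupOfEquivOfLe hD).toEquiv]
  exact Nat.coprime_two_right.2 (odd_of_not_dvd hodd)

/-- An element commuting with a 2-subgroup modulo the core is in the coset of one commuting with it. -/
theorem exists_lift_centralizer {P : Subgroup G} (hP : IsPGroup 2 ↥P) {y : G}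
    (hPy : P ≤ centralizer ({y} : Set G)) (z : ↥(centralizer ({y} : Set G)))
    (hz : ∀ q : ↥(centralizer ({y} : Set G)), (q : G) ∈ P → proj y q * proj y z = proj y z * proj y q) :
    ∃ n : ↥(centralizer ({y} : Set G)), (n : G) ∈ centralizer (P : Set G) ∧ proj y n = proj y z := by
  haveI : Fact (Nat.Prime 2) := ⟨Nat.prime_two⟩
  obtain ⟨n, hn, hnz⟩ := Signalizer.exists_fixed_in_coset hP
    (hPy.trans (Signalizer.centralizer_le_normalizer_core y)) (Signalizer.not_dvd_card_core (p := 2) y)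
    (z : G) (fun q hq => by
      refine ⟨⟨q, hPy hq⟩ * z * ⟨q, hPy hq⟩⁻¹ * z⁻¹, (QuotientGroup.eq_one_iff _).1 ?_, rfl⟩
      show proj y (⟨q, hPy hq⟩ * z * ⟨q, hPy hq⟩⁻¹ * z⁻¹) = 1
      rw [map_mul, map_mul, map_mul, map_inv, map_inv, hz ⟨q, hPy hq⟩ hq, mul_inv_cancel_right, mul_inv_cancel])
  obtain ⟨m, hm, rfl⟩ := hn
  refine ⟨m * z, hnz, ?_⟩
  rw [map_mul, show proj y m = 1 from (QuotientGroup.eq_one_iff m).2 hm, one_mul]

/-- An involution of `C(A)` outside `A` with no bad element in its coset. -/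
structure GoodCoset (S : Sylow 2 G) (A : Subgroup G) (x : G) : Prop where
  corner : CornerHyp G S A
  mem : x ∈ centralizer (A : Set G)
  sq : x * x = 1
  not_mem : x ∉ A
  good : ∀ a ∈ A, ¬ Bad A (x * a)

/-- The functor on `A⟨x⟩`. -/
noncomputable def goodTheta (A : Subgroup G) (x : G) (z : G) : Subgroup G := by
  classical
  exact if z ∈ A then centralizerPPrimeCore 2 z ⊔ midCore A x else centralizerPPrimeCore 2 z

theorem goodTheta_mem {A : Subgroup G} {x z : G} (hz : z ∈ A) :
    goodTheta A x z = centralizerPPrimeCore 2 z ⊔ midCore A x := by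
  unfold goodTheta
  exact if_pos hz

theorem goodTheta_not_mem {A : Subgroup G} {x z : G} (hz : z ∉ A) :
    goodTheta A x z = centralizerPPrimeCore 2 z := by
  unfold goodTheta
  exact if_neg hz

/-- The members of `A⟨x⟩`. -/
abbrev span (A : Subgroup G) (x : G) : Subgroup G := A ⊔ zpowers x

namespace GoodCoset

variable {S : Sylow 2 G} {A : Subgroup G} {x : G} (H : GoodCoset S A x)
include H

theorem mul_comm_mem {a : G} (ha : a ∈ A) : a * x = x * a := mem_centralizer_iff.1 H.mem a ha

theorem y_mem {a : G} (ha : a ∈ A) : x * a ∈ centralizer (A : Set G) :=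
  mul_mem H.mem (H.corner.le_centralizer_self ha)

theorem y_not_mem {a : G} (ha : a ∈ A) : x * a ∉ A := fun h => H.not_mem ((mul_mem_cancel_right ha).1 h)

theorem y_ne {a : G} (ha : a ∈ A) : x * a ≠ 1 := H.corner.ne_one_of_not_mem (H.y_not_mem ha)

theorem mem_span {z : G} (hz : z ∈ span A x) : z ∈ A ∨ ∃ a ∈ A, z = x * a := by
  obtain ⟨a, ha, h, hh, rfl⟩ := (Coprime.mem_sup_iff (zpowers_le.2
    (centralizer_le_normalizer _ H.mem))).1 hz
  obtain ⟨i, rfl⟩ := mem_zpowers_iff.1 hh
  rcases Int.even_or_odd' i with ⟨j, rfl | rfl⟩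
  · left
    rw [zpow_mul, zpow_two, H.sq, one_zpow, mul_one]
    exact ha
  · right
    refine ⟨a, ha, ?_⟩
    rw [zpow_add, zpow_mul, zpow_two, H.sq, one_zpow, one_mul, zpow_one, H.mul_comm_mem ha]

theorem mid_y {a : G} (ha : a ∈ A) : mid A (x * a) = mid A x := by
  have key : ∀ c ∈ centralizer (A : Set G), (c * (x * a) = x * a * c ↔ c * x = x * c) := fun c hc => by
    have h := mem_centralizer_iff.1 hc a ha
    rw [← mul_assoc, mul_assoc x a c, h, ← mul_assoc x c a]
    exact mul_left_inj a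
  ext c
  simp only [mid, Subgroup.mem_inf, mem_centralizer_singleton_iff]
  exact ⟨fun hc => ⟨hc.1, (key c hc.1).1 hc.2⟩, fun hc => ⟨hc.1, (key c hc.1).2 hc.2⟩⟩

theorem midCore_y_le {a : G} (ha : a ∈ A) : midCore A x ≤ centralizer ({x * a} : Set G) :=
  (midCore_le A x).trans ((H.mid_y ha).ge.trans inf_le_right)

theorem rank {a : G} (ha : a ∈ A) {K : Subgroup (Bar (x * a))} (hK : Moved (bar A (x * a)) K) :
    Subgroup.center ↥K = ⊥ ∧ ∃ q : ℕ, RankFacts (↥K ⧸ Subgroup.center ↥K) q := by
  obtain ⟨hd, hc, -, -, -⟩ := H.corner.compFacts (H.y_mem ha) (H.y_ne ha) hK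
  refine ⟨hc, ?_⟩
  rcases hd.shape with h | h
  · exact ⟨4, h⟩
  · exact absurd ⟨K, hK, 4, h⟩ (H.good a ha)

/-- The core of `C(A) ∩ C(x)` lies in the cores of the coset. -/
theorem le_core {a : G} (ha : a ∈ A) : midCore A x ≤ centralizerPPrimeCore 2 (x * a) := by
  haveI : Fact (Nat.Prime 2) := ⟨Nat.prime_two⟩
  set y := x * a with hy
  set C := centralizer ({y} : Set G) with hC
  have hAC : A ≤ C := CornerHyp.le_centralizer_singleton (H.y_mem ha)
  have hΔC : midCore A x ≤ C := H.midCore_y_le ha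
  set D := ((midCore A x).subgroupOf C).map (proj y) with hD
  have hDodd : Odd (Nat.card ↥D) := by
    refine (odd_of_not_dvd ?_).of_dvd_nat (card_map_dvd _ _)
    rw [Nat.card_congr (subgroupOfEquivOfLe hΔC).toEquiv]
    exact not_dvd_midCore A x
  have hDA : D ≤ centralizer (bar A y : Set (Bar y)) := by
    rintro _ ⟨d, hd, rfl⟩
    refine mem_centralizer_iff.2 ?_
    rintro _ ⟨b, hb, rfl⟩
    rw [← map_mul, ← map_mul]
    exact congrArg _ (Subtype.ext (mem_centralizer_iff.1 ((midCore_le A x) hd).1 _ hb))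
  have hAD : centralizer (bar A y : Set (Bar y)) ≤ normalizer (D : Set (Bar y)) := by
    intro c hc
    obtain ⟨z, rfl⟩ := QuotientGroup.mk'_surjective _ c
    obtain ⟨n, hn, hnz⟩ := exists_lift_centralizer H.corner.ctx.two hAC z
      (fun q hq => mem_centralizer_iff.1 hc _ ⟨q, hq, rfl⟩)
    refine Coprime.mem_normalizer_of_forall ?_
    rintro _ ⟨d, hd, rfl⟩
    refine ⟨n * d * n⁻¹, ?_, by rw [map_mul, map_mul, map_inv, hnz]⟩
    exact Signalizer.conj_mem (mid_le_normalizer_midCore A x) ((H.mid_y ha).le ⟨hn, n.2⟩) hd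
  have hbot := (localTarget (Bar y) _ _ (H.corner.localY (H.y_mem ha) (H.y_ne ha))).balanced_centralizer
    (fun K hK => H.rank ha hK) D hDodd hDA hAD
  intro d hd
  refine ⟨⟨d, hΔC hd⟩, (QuotientGroup.eq_one_iff _).1 (mem_bot.1 (hbot.le ?_)), rfl⟩
  exact ⟨⟨d, hΔC hd⟩, hd, rfl⟩

/-- Balance from a member to the coset. -/
theorem core_inf_le {a b : G} (ha : a ∈ A) (hb : b ∈ A) (hb1 : b ≠ 1) :
    centralizerPPrimeCore 2 b ⊓ centralizer ({x * a} : Set G) ≤ centralizerPPrimeCore 2 (x * a) := by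
  haveI : Fact (Nat.Prime 2) := ⟨Nat.prime_two⟩
  set y := x * a with hy
  set C := centralizer ({y} : Set G) with hC
  have hAC : A ≤ C := CornerHyp.le_centralizer_singleton (H.y_mem ha)
  set J := centralizerPPrimeCore 2 b ⊓ C with hJ
  set b' : ↥C := ⟨b, hAC hb⟩
  set D := (J.subgroupOf C).map (proj y) with hD
  have hsqb : b' * b' = 1 := Subtype.ext (H.corner.ctx.sq hb)
  have hcases : ∀ e ∈ zpowers (proj y b'), e = 1 ∨ e = proj y b' := fun e he => by
    obtain ⟨i, rfl⟩ := mem_zpowers_iff.1 he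
    have h2 : proj y b' * proj y b' = 1 := by rw [← map_mul, hsqb, map_one]
    rcases Int.even_or_odd' i with ⟨j, rfl | rfl⟩
    · exact Or.inl (by rw [zpow_mul, zpow_two, h2, one_zpow])
    · exact Or.inr (by rw [zpow_add, zpow_mul, zpow_two, h2, one_zpow, one_mul, zpow_one])
  have hprops : Odd (Nat.card ↥D) ∧ D ≤ centralizer ({proj y b'} : Set (Bar y)) ∧
      centralizer ({proj y b'} : Set (Bar y)) ≤ normalizer (D : Set (Bar y)) := by
    refine ⟨?_, ?_, ?_⟩
    · refine (odd_of_not_dvd ?_).of_dvd_nat (card_map_dvd _ _)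
      rw [Nat.card_congr (subgroupOfEquivOfLe (inf_le_right : J ≤ C)).toEquiv]
      exact Signalizer.not_dvd_card_of_le inf_le_left (Signalizer.not_dvd_card_core b)
    · rintro _ ⟨d, hd, rfl⟩
      rw [mem_centralizer_singleton_iff, ← map_mul, ← map_mul]
      exact congrArg _ (Subtype.ext (mem_centralizer_singleton_iff.1
        (map_subtype_le _ (mem_subgroupOf.1 hd).1)))
    · intro c hc
      obtain ⟨z, rfl⟩ := QuotientGroup.mk'_surjective _ c
      obtain ⟨n, hn, hnz⟩ := exists_lift_centralizer (H.corner.ctx.two.to_le (zpowers_le.2 hb))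
        (zpowers_le.2 (hAC hb)) z (fun q hq => by
          obtain ⟨i, hi⟩ := mem_zpowers_iff.1 hq
          rw [show q = b' ^ i from Subtype.ext (by rw [← hi]; rfl), map_zpow]
          exact (Commute.zpow_left (mem_centralizer_singleton_iff.1 hc).symm i).eq)
      refine Coprime.mem_normalizer_of_forall ?_
      rintro _ ⟨d, hd, rfl⟩
      refine ⟨n * d * n⁻¹, ⟨?_, (n * d * n⁻¹).2⟩, by rw [map_mul, map_mul, map_inv, hnz]⟩
      exact Signalizer.conj_mem (Signalizer.centralizer_le_normalizer_core (p := 2) b)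
        (mem_centralizer_singleton_iff.2 (mem_centralizer_iff.1 hn b (mem_zpowers b)).symm)
        (mem_subgroupOf.1 hd).1
  have hne : proj y b' ≠ 1 := fun e => hb1
    (congrArg Subtype.val (proj_eq_one_of_two H.corner.ctx.two (x := b') hb e))
  intro d hd
  refine ⟨⟨d, hd.2⟩, (QuotientGroup.eq_one_iff _).1 ?_, rfl⟩
  refine (localTarget (Bar y) _ _ (H.corner.localY (H.y_mem ha) (H.y_ne ha))).balanced
    (zpowers (proj y b')) (zpowers_le.2 ⟨b', hb, rfl⟩) (fun e => hne (zpowers_eq_bot.1 e)) (fun _ => D)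
    (fun e he he1 => ?_) (fun K hK => Or.inr (H.rank ha hK)) _ fun _ _ _ => ⟨⟨d, hd.2⟩, hd, rfl⟩
  rcases hcases e he with rfl | rfl
  · exact absurd rfl he1
  · exact hprops

/-- Balance between members. -/
theorem core_balance {b c : G} (hb : b ∈ A) (hc : c ∈ A) (hc1 : c ≠ 1) :
    centralizerPPrimeCore 2 b ⊓ centralizer ({c} : Set G) ≤ centralizerPPrimeCore 2 c := by
  haveI : Fact (Nat.Prime 2) := ⟨Nat.prime_two⟩
  set C := centralizer ({c} : Set G) with hC
  set J := centralizerPPrimeCore 2 b ⊓ C with hJ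
  set D := (J.subgroupOf C).map (proj c) with hD
  have hMJ : centralizer (A : Set G) ≤ normalizer (J : Set G) :=
    Signalizer.le_normalizer_inf
      ((CornerHyp.centralizer_le_singleton hb).trans (Signalizer.centralizer_le_normalizer_core b))
      ((CornerHyp.centralizer_le_singleton hc).trans le_normalizer)
  haveI : D.Normal := by
    refine ⟨?_⟩
    rintro _ ⟨d, hd, rfl⟩ g
    obtain ⟨z, rfl⟩ := QuotientGroup.mk'_surjective _ g
    obtain ⟨_, ⟨o, ho, rfl⟩, m, hm, hom⟩ := H.corner.exists_core_mul hc hc1 z.2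
    set m' : ↥C := ⟨m, CornerHyp.centralizer_le_singleton hc hm⟩
    have hz : proj c z = proj c m' := by
      rw [show z = o * m' from Subtype.ext hom.symm, map_mul,
        show proj c o = 1 from (QuotientGroup.eq_one_iff o).2 ho, one_mul]
    refine ⟨m' * d * m'⁻¹, Signalizer.conj_mem hMJ hm hd, ?_⟩
    show proj c (m' * d * m'⁻¹) = proj c z * proj c d * (proj c z)⁻¹
    rw [map_mul, map_mul, map_inv, hz]
  have h1 : D ≤ pPrimeCore 2 (Bar c) := Cores.le_pPrimeCore inferInstance (by
    refine Nat.Coprime.coprime_dvd_left (card_map_dvd _ _) ?_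
    rw [Nat.card_congr (subgroupOfEquivOfLe (inf_le_right : J ≤ C)).toEquiv]
    exact Nat.coprime_two_right.2 (odd_of_not_dvd
      (Signalizer.not_dvd_card_of_le inf_le_left (Signalizer.not_dvd_card_core b))))
  rw [Cores.pPrimeCore_quotient_self, le_bot_iff] at h1
  intro d hd
  exact ⟨⟨d, hd.2⟩, (QuotientGroup.eq_one_iff _).1 (mem_bot.1 (h1 ▸ ⟨⟨d, hd.2⟩, hd, rfl⟩)), rfl⟩

theorem sup_decomp {b : G} (hb : b ∈ A) {u : G}
    (hu : u ∈ centralizerPPrimeCore 2 b ⊔ midCore A x) :
    ∃ o ∈ centralizerPPrimeCore 2 b, ∃ d ∈ midCore A x, o * d = u :=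
  (Coprime.mem_sup_iff (((midCore_le A x).trans (inf_le_left.trans
    (CornerHyp.centralizer_le_singleton hb))).trans (Signalizer.centralizer_le_normalizer_core b))).1 hu

/-- Balance from the coset to a member. -/
theorem coset_inf_le {a c : G} (ha : a ∈ A) (hc : c ∈ A) (hc1 : c ≠ 1) :
    centralizerPPrimeCore 2 (x * a) ⊓ centralizer ({c} : Set G) ≤
      centralizerPPrimeCore 2 c ⊔ midCore A x := by
  haveI : Fact (Nat.Prime 2) := ⟨Nat.prime_two⟩
  set J := centralizerPPrimeCore 2 (x * a) ⊓ centralizer ({c} : Set G) with hJ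
  have hJodd : ¬ 2 ∣ Nat.card ↥J :=
    Signalizer.not_dvd_card_of_le inf_le_left (Signalizer.not_dvd_card_core (p := 2) (x * a))
  have hAJ : A ≤ normalizer (J : Set G) := Signalizer.le_normalizer_inf
    ((CornerHyp.le_centralizer_singleton (H.y_mem ha)).trans (Signalizer.centralizer_le_normalizer_core _))
    ((H.corner.ctx.le_centralizer_of_mem hc).trans le_normalizer)
  set N := J ⊓ centralizerPPrimeCore 2 c with hN
  intro u hu
  obtain ⟨n, hn, hnu⟩ := Signalizer.exists_fixed_in_coset H.corner.ctx.two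
    (Signalizer.le_normalizer_inf hAJ (Signalizer.invariant_core H.corner.ctx.elemAb.1 hc))
    (Signalizer.not_dvd_card_of_le inf_le_left hJodd) u fun b hb => by
      refine ⟨J.mul_mem (Signalizer.conj_mem hAJ hb hu) (J.inv_mem hu), ?_⟩
      set u' : ↥(centralizer ({c} : Set G)) := ⟨u, hu.2⟩
      set b' : ↥(centralizer ({c} : Set G)) := ⟨b, H.corner.ctx.le_centralizer_of_mem hc hb⟩
      refine ⟨b' * u' * b'⁻¹ * u'⁻¹, (QuotientGroup.eq_one_iff _).1 ?_, rfl⟩
      show proj c (b' * u' * b'⁻¹ * u'⁻¹) = 1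
      rw [map_mul, map_mul, map_mul, map_inv, map_inv, ← H.corner.proj_commute hc hc1 u' b' hb,
        mul_inv_cancel_right, mul_inv_cancel]
  have hD : J ⊓ centralizer (A : Set G) ≤ midCore A x := by
    refine le_midCore ?_ ?_ (Signalizer.not_dvd_card_of_le inf_le_left hJodd)
    · rintro d ⟨hd, hdA⟩
      exact (H.mid_y ha).le ⟨hdA, map_subtype_le _ hd.1⟩
    · refine Signalizer.le_normalizer_inf (Signalizer.le_normalizer_inf ?_ ?_)
        (inf_le_left.trans le_normalizer)
      · exact ((H.mid_y ha).ge.trans inf_le_right).trans (Signalizer.centralizer_le_normalizer_core _)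
      · exact (inf_le_left.trans (CornerHyp.centralizer_le_singleton hc)).trans le_normalizer
  rw [← inv_mul_cancel_left n u]
  exact mul_mem (mem_sup_left (inv_mem hn.2)) (mem_sup_right (hD ⟨J.mul_mem hn.1 hu, hnu⟩))

theorem not_dvd_theta (z : G) : ¬ 2 ∣ Nat.card ↥(goodTheta A x z) := by
  haveI : Fact (Nat.Prime 2) := ⟨Nat.prime_two⟩
  by_cases hz : z ∈ A
  · rw [goodTheta_mem hz]
    exact Signalizer.not_dvd_card_sup (Signalizer.not_dvd_card_core z) (not_dvd_midCore A x)
      (((midCore_le A x).trans (inf_le_left.trans (CornerHyp.centralizer_le_singleton hz))).trans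
        (Signalizer.centralizer_le_normalizer_core z))
  · rw [goodTheta_not_mem hz]
    exact Signalizer.not_dvd_card_core z

theorem span_le_mid : span A x ≤ mid A x := by
  refine sup_le (le_inf H.corner.le_centralizer_self (CornerHyp.le_centralizer_singleton H.mem)) ?_
  rw [zpowers_le]
  exact ⟨H.mem, mem_centralizer_singleton_iff.2 rfl⟩

theorem span_comm {z w : G} (hz : z ∈ span A x) (hw : w ∈ span A x) : z * w = w * z := by
  rcases H.mem_span hw with hw' | ⟨a, ha, rfl⟩
  · exact (mem_centralizer_iff.1 (H.span_le_mid hz).1 w hw').symm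
  · exact mem_centralizer_singleton_iff.1 (((H.mid_y ha).ge (H.span_le_mid hz)).2)

theorem span_sq {z : G} (hz : z ∈ span A x) : z * z = 1 := by
  rcases H.mem_span hz with hz' | ⟨a, ha, rfl⟩
  · exact H.corner.ctx.sq hz'
  · rw [mul_assoc, ← mul_assoc a, H.mul_comm_mem ha, ← mul_assoc, ← mul_assoc, H.sq, one_mul,
      H.corner.ctx.sq ha]

theorem span_elemAb : Cfsg.IsElementaryAbelian 2 (span A x) :=
  ⟨⟨⟨fun a b => Subtype.ext (H.span_comm a.2 b.2)⟩⟩, fun a ha => by rw [pow_two]; exact H.span_sq ha⟩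

theorem span_card : 2 ^ 3 ≤ Nat.card ↥(span A x) := by
  haveI : Fact (Nat.Prime 2) := ⟨Nat.prime_two⟩
  have h2 : IsPGroup 2 ↥(span A x) := fun a => ⟨1, Subtype.ext (by
    simpa [pow_two] using H.span_sq a.2)⟩
  obtain ⟨n, hn⟩ := IsPGroup.iff_card.1 h2
  have h4 : 4 < Nat.card ↥(span A x) := by
    rw [← H.corner.four]
    refine lt_of_le_of_ne (Subgroup.card_le_of_le le_sup_left) fun e => H.not_mem ?_
    rw [eq_of_le_of_card_ge (le_sup_left : A ≤ span A x) e.ge]
    exact mem_sup_right (mem_zpowers x)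
  rw [hn] at h4 ⊢
  refine Nat.pow_le_pow_right (by norm_num) ?_
  by_contra hlt
  have := Nat.pow_le_pow_right (n := 2) (by norm_num) (show n ≤ 2 by omega)
  omega

/-- The functor is a solvable signalizer functor. -/
theorem isSignalizer : Cfsg.IsSolvableSignalizerFunctor 2 (span A x) (goodTheta A x) := by
  haveI : Fact (Nat.Prime 2) := ⟨Nat.prime_two⟩
  refine ⟨⟨fun z hz hz1 => ?_, fun z _ _ => H.not_dvd_theta z, fun z hz _ w hw u hu => ?_,
    fun z hz hz1 w hw hw1 => ?_⟩, fun z _ _ => OddOrderTheorem.solvable (odd_of_not_dvd (H.not_dvd_theta z))⟩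
  · by_cases hzA : z ∈ A
    · rw [goodTheta_mem hzA]
      exact sup_le (map_subtype_le _)
        ((midCore_le A x).trans (inf_le_left.trans (CornerHyp.centralizer_le_singleton hzA)))
    · rw [goodTheta_not_mem hzA]
      exact map_subtype_le _
  · have hwz : w ∈ centralizer ({z} : Set G) := mem_centralizer_singleton_iff.2 (H.span_comm hw hz)
    have hwN : w ∈ normalizer (goodTheta A x z : Set G) := by
      by_cases hzA : z ∈ A
      · rw [goodTheta_mem hzA]
        exact Signalizer.le_normalizer_sup (A := span A x ⊓ centralizer ({z} : Set G))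
          (inf_le_right.trans (Signalizer.centralizer_le_normalizer_core z))
          (inf_le_left.trans (H.span_le_mid.trans (mid_le_normalizer_midCore A x))) ⟨hw, hwz⟩
      · rw [goodTheta_not_mem hzA]
        exact Signalizer.centralizer_le_normalizer_core z hwz
    exact (mem_normalizer_iff.1 hwN u).1 hu
  · rintro u ⟨hu, huw⟩
    rcases H.mem_span hz with hzA | ⟨a, ha, rfl⟩
    · rw [goodTheta_mem hzA] at hu
      obtain ⟨o, ho, d, hd, rfl⟩ := H.sup_decomp hzA hu
      rcases H.mem_span hw with hwA | ⟨b, hb, rfl⟩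
      · rw [goodTheta_mem hwA]
        have hdw : d ∈ centralizer ({w} : Set G) :=
          CornerHyp.centralizer_le_singleton hwA (midCore_le A x hd).1
        exact mul_mem (mem_sup_left (H.core_balance hzA hwA hw1 ⟨ho, by
          simpa using (centralizer ({w} : Set G)).mul_mem huw ((centralizer ({w} : Set G)).inv_mem hdw)⟩)) (mem_sup_right hd)
      · rw [goodTheta_not_mem (H.y_not_mem hb)]
        have hdw : d ∈ centralizer ({x * b} : Set G) := H.midCore_y_le hb hd
        exact mul_mem (H.core_inf_le hb hzA hz1 ⟨ho, by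
          simpa using (centralizer ({x * b} : Set G)).mul_mem huw ((centralizer ({x * b} : Set G)).inv_mem hdw)⟩)
          (H.le_core hb hd)
    · rw [goodTheta_not_mem (H.y_not_mem ha)] at hu
      rcases H.mem_span hw with hwA | ⟨b, hb, rfl⟩
      · rw [goodTheta_mem hwA]
        exact H.coset_inf_le ha hwA hw1 ⟨hu, huw⟩
      · rw [goodTheta_not_mem (H.y_not_mem hb)]
        by_cases hab : a = b
        · rw [← hab]; exact hu
        have hc : a * b ∈ A := mul_mem ha hb
        have hc1 : a * b ≠ 1 := fun e => hab (by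
          calc a = a * (b * b) := by rw [H.corner.ctx.sq hb, mul_one]
            _ = b := by rw [← mul_assoc, e, one_mul])
        have huc : u ∈ centralizer ({a * b} : Set G) := by
          have h3 : a * b = (x * a) * (x * b) := by
            rw [mul_assoc x a, ← mul_assoc a x b, H.mul_comm_mem ha, mul_assoc x a b, ← mul_assoc x x,
              H.sq, one_mul]
          rw [h3, mem_centralizer_singleton_iff]
          exact (Commute.mul_right (mem_centralizer_singleton_iff.1 (map_subtype_le _ hu))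
            (mem_centralizer_singleton_iff.1 huw)).eq
        obtain ⟨o, ho, d, hd, rfl⟩ := H.sup_decomp hc (H.coset_inf_le ha hc hc1 ⟨hu, huc⟩)
        exact mul_mem (H.core_inf_le hb hc hc1 ⟨ho, by
          simpa using (centralizer ({x * b} : Set G)).mul_mem huw
            ((centralizer ({x * b} : Set G)).inv_mem (H.midCore_y_le hb hd))⟩) (H.le_core hb hd)

/-- A good coset gives a strongly embedded subgroup. -/
theorem stronglyEmbedded (hC : Aschbacher.CoreFreeCriterion.{u}) : HasStronglyEmbedded G := by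
  haveI : Fact (Nat.Prime 2) := ⟨Nat.prime_two⟩
  haveI := H.corner.ctx.simple
  obtain ⟨-, hW, -⟩ := Signalizer.solvable_signalizer_functor H.span_elemAb H.span_card H.isSignalizer
  set W₀ := ⨆ a : {a : G // a ∈ A ∧ a ≠ 1}, centralizerPPrimeCore 2 (a : G) with hW₀
  have hle : ∀ a ∈ A, a ≠ 1 → centralizerPPrimeCore 2 a ≤ W₀ := fun a ha ha1 =>
    le_iSup (fun a : {a : G // a ∈ A ∧ a ≠ 1} => centralizerPPrimeCore 2 (a : G)) ⟨a, ha, ha1⟩
  have hodd : ¬ 2 ∣ Nat.card ↥W₀ := by
    refine Signalizer.not_dvd_card_of_le (iSup_le fun a => ?_) hW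
    refine le_iSup_of_le (⟨a.1, mem_sup_left a.2.1, a.2.2⟩ : {z : G // z ∈ span A x ∧ z ≠ 1}) ?_
    rw [goodTheta_mem a.2.1]
    exact le_sup_left
  have hNA : normalizer (A : Set G) ≤ normalizer (W₀ : Set G) := fun n hn =>
    Coprime.mem_normalizer_of_forall fun z hz => by
      have h1 : W₀ ≤ W₀.comap (MulAut.conj n).toMonoidHom := iSup_le fun a y hy =>
        hle _ ((mem_normalizer_iff.1 hn _).1 a.2.1)
          (fun h => a.2.2 ((MulAut.conj n).injective (h.trans (map_one _).symm)))
          (Components.centralizerPPrimeCore_map_le (MulAut.conj n) a.1 ⟨y, hy, rfl⟩)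
      exact h1 hz
  have hdec : ∀ M : Subgroup G, normalizer (A : Set G) ≤ M → W₀ ≤ M →
      ∀ a ∈ A, a ≠ 1 → centralizer ({a} : Set G) ≤ M := by
    intro M hM hWM a ha ha1 z hz
    obtain ⟨o, ho, m, hm, rfl⟩ := H.corner.exists_core_mul ha ha1 hz
    exact mul_mem (hWM (hle a ha ha1 ho)) (hM (centralizer_le_normalizer _ hm))
  by_cases h0 : W₀ = ⊥
  · exact H.corner.ctx.se_of_le hC H.corner.ctx.normalizer_ne_top (hdec _ le_rfl (h0 ▸ bot_le))
  refine H.corner.ctx.se_of_le hC (M := normalizer (W₀ : Set G)) (fun e => ?_)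
    (hdec _ hNA le_normalizer)
  rcases (normalizer_eq_top_iff.1 e).eq_bot_or_eq_top with h | h
  · exact h0 h
  · obtain ⟨a, ha, ha1⟩ := (Subgroup.bot_or_exists_ne_one A).resolve_left H.corner.ctx.ne
    refine hodd (h ▸ ?_)
    rw [Subgroup.card_top, ← orderOf_eq_prime (p := 2) (by rw [pow_two, H.corner.ctx.sq ha]) ha1]
    exact orderOf_dvd_natCard a

end GoodCoset

/-- **Section G of the corner.** -/
theorem goodTarget : GoodTarget.{u} := by
  intro hC G _ _ S A hcorner _
  by_cases hbad : AllBad A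
  · exact Or.inr hbad
  unfold AllBad at hbad
  push Not at hbad
  obtain ⟨x, hxM, hx2, hxA, hgood⟩ := hbad
  exact Or.inl (GoodCoset.stronglyEmbedded (S := S) ⟨hcorner, hxM, hx2, hxA, hgood⟩ hC)

end Cfsg.Agent.Goldschmidt.General.Corner
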