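import Cfsg.Agent.EqLemmas
import Mathlib

/-!
# A four group and a transvection on three lines (owner: helper34; `CORNER.md`, section V)

`exists_order_four`: on an abelian group of exponent `p` in which a four group `⟨α, β⟩` fixes nothing and an
element `γ` permutes the three lines, a non-trivial `p`-element fixed by `α` and inverted by `β` generates with
its conjugates under `γ` a group with an element of order four.
-/

set_option autoImplicit false
set_option linter.unusedSectionVars false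

namespace Cfsg.Agent.Goldschmidt.General.Corner

open Subgroup

universe u

variable {V : Type u} [CommGroup V] {p : ℕ} [Fact p.Prime]

theorem exists_nat_pow (hexp : ∀ v : V, v ^ p = 1) {x y : V} (hx : x ≠ 1) (hy : y ∈ zpowers x) :
    ∃ m : ℕ, x ^ m = y := by
  obtain ⟨i, rfl⟩ := mem_zpowers_iff.1 hy
  have hp0 : (p : ℤ) ≠ 0 := by exact_mod_cast (Fact.out : p.Prime).ne_zero
  refine ⟨(i % p).toNat, ?_⟩
  rw [← zpow_natCast x, Int.toNat_of_nonneg (Int.emod_nonneg i hp0)]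
  refine (zpow_eq_zpow_iff_modEq).2 ?_
  rw [orderOf_eq_prime (hexp x) hx]
  exact Int.mod_modEq i p

/-- In a group of prime exponent a non-trivial power generates. -/
theorem mem_zpowers_pow (hexp : ∀ v : V, v ^ p = 1) {x : V} {i : ℤ} (hx : x ^ i ≠ 1) :
    x ∈ zpowers (x ^ i) := by
  have hx1 : x ≠ 1 := fun e => hx (by rw [e, one_zpow])
  have ho : orderOf x = p := orderOf_eq_prime (hexp x) hx1
  have hcop : IsCoprime i (p : ℤ) := by
    rw [Int.isCoprime_iff_gcd_eq_one, Int.gcd_comm]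
    refine (Fact.out : p.Prime).coprime_iff_not_dvd.2 fun hd => hx ?_
    exact orderOf_dvd_iff_zpow_eq_one.1 (ho ▸ Int.natAbs_dvd_natAbs.1 (by simpa using hd))
  obtain ⟨a, b, hab⟩ := hcop
  refine mem_zpowers_iff.2 ⟨a, ?_⟩
  calc (x ^ i) ^ a = x ^ (a * i) := by rw [← zpow_mul, mul_comm]
    _ = x ^ (a * i + b * (p : ℤ)) := by rw [zpow_add, mul_comm b (p : ℤ), zpow_mul x (p : ℤ) b, zpow_natCast, hexp, one_zpow, mul_one]
    _ = x := by rw [hab, zpow_one]

theorem eq_one_of_inv (hp : p ≠ 2) (hexp : ∀ v : V, v ^ p = 1) {x : V} (h : x⁻¹ = x) : x = 1 := by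
  by_contra hx
  have ho : orderOf x = p := orderOf_eq_prime (hexp x) hx
  have h2 : x ^ 2 = 1 := by rw [pow_two]; nth_rw 1 [← h]; exact inv_mul_cancel x
  exact hp ((Nat.prime_dvd_prime_iff_eq (Fact.out : p.Prime) Nat.prime_two).1 (ho ▸ orderOf_dvd_of_pow_eq_one h2))

variable [Finite V]

/-- **An element of order four.** -/
theorem exists_order_four (hp : p ≠ 2) (hexp : ∀ v : V, v ^ p = 1) (E : Subgroup (MulAut V))
    {α β γ X : MulAut V} (hα : ∀ v, α (α v) = v) (hβ : ∀ v, β (β v) = v) (hαβ : ∀ v, α (β v) = β (α v))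
    (hfix : ∀ v, α v = v → β v = v → v = 1) (hγα : ∀ v, γ (α v) = β (γ v))
    (hγβ : ∀ v, γ (β v) = α (β (γ v))) (hcyc : ∃ v₀, α v₀ = v₀ ∧ ∀ v, α v = v → v ∈ zpowers v₀)
    (hXE : X ∈ E) (hX1 : X ≠ 1) {k : ℕ} (hXp : X ^ p ^ k = 1) (hXα : Commute X α)
    (hXβ : ∀ v, X (β (X v)) = β v) (hγE : ∀ x ∈ E, γ * x * γ⁻¹ ∈ E) :
    ∃ f ∈ E, (∃ v, f (f v) ≠ v) ∧ ∀ v, f (f (f (f v))) = v := by
  have hp1 : p.Prime := Fact.out
  have hodd : Odd (p ^ k) := (hp1.odd_of_ne_two hp).pow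
  have hinv := @eq_one_of_inv V _ p _ hp hexp
  obtain ⟨v₁, hαv, hline⟩ := hcyc
  set w := γ v₁
  set z := γ w
  -- the three lines
  have hβw : β w = w := by rw [← hγα, hαv]
  have hwline : ∀ v, β v = v → v ∈ zpowers w := by
    intro v hv
    obtain ⟨i, hi⟩ := mem_zpowers_iff.1 (hline (γ⁻¹ v) (γ.injective (by
      rw [hγα, MulAut.apply_inv_self]; exact hv)))
    exact mem_zpowers_iff.2 ⟨i, by rw [← map_zpow, hi, MulAut.apply_inv_self]⟩
  have hαβz : α (β z) = z := by rw [← hγβ, hβw]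
  have hzline : ∀ v, α (β v) = v → v ∈ zpowers z := by
    intro v hv
    obtain ⟨i, hi⟩ := mem_zpowers_iff.1 (hwline (γ⁻¹ v) (γ.injective (by
      rw [hγβ, MulAut.apply_inv_self]; exact hv)))
    exact mem_zpowers_iff.2 ⟨i, by rw [← map_zpow, hi, MulAut.apply_inv_self]⟩
  have hβv : β v₁ = v₁⁻¹ := by
    refine eq_inv_of_mul_eq_one_left (hfix _ ?_ ?_)
    · rw [map_mul, hαβ, hαv]
    · rw [map_mul, hβ, mul_comm]
  have hαw : α w = w⁻¹ := by
    refine eq_inv_of_mul_eq_one_left (hfix _ ?_ ?_)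
    · rw [map_mul, hα, mul_comm]
    · rw [map_mul, ← hαβ, hβw]
  have hαz : α z = z⁻¹ := by
    refine eq_inv_of_mul_eq_one_left (hfix _ ?_ ?_)
    · rw [map_mul, hα, mul_comm]
    · have h : β z = α z := by
        have := congrArg α hαβz
        rwa [hα] at this
      rw [map_mul, ← hαβ, hαβz, h, mul_comm]
  have hβz : β z = z⁻¹ := by
    rw [← hαz]
    have := congrArg α hαβz
    rwa [hα] at this
  -- the lines span
  have hspan : ∀ v, ∃ i j l : ℤ, v = v₁ ^ i * w ^ j * z ^ l := by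
    intro v
    obtain ⟨i, hi⟩ := mem_zpowers_iff.1 (hline (v * α v * (β v * α (β v))⁻¹) (by
      rw [map_mul, map_inv, map_mul, map_mul, hα, hα, mul_comm (α v), mul_comm (α (β v))]))
    obtain ⟨j, hj⟩ := mem_zpowers_iff.1 (hwline (v * β v * (α v * α (β v))⁻¹) (by
      rw [map_mul, map_inv, map_mul, map_mul, hβ, ← hαβ (β v), hβ, ← hαβ v, mul_comm (β v), mul_comm (α (β v))]))
    obtain ⟨l, hl⟩ := mem_zpowers_iff.1 (hzline (v * α (β v) * (α v * β v)⁻¹) (by
      simp only [map_mul, map_inv, hα, hβ, ← hαβ]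
      rw [mul_inv, mul_inv]
      ac_rfl))
    have h4 : v₁ ^ i * w ^ j * z ^ l = v ^ 4 := by
      have hsum : v * α v * β v * α (β v) = 1 := by
        refine hfix _ ?_ ?_
        · simp only [map_mul, hα]
          ac_rfl
        · simp only [map_mul, hβ, ← hαβ]
          ac_rfl
      rw [hi, hj, hl]
      calc v * α v * (β v * α (β v))⁻¹ * (v * β v * (α v * α (β v))⁻¹) * (v * α (β v) * (α v * β v)⁻¹)
          = v ^ 4 * (v * α v * β v * α (β v))⁻¹ := by
            simp only [mul_inv_rev, pow_succ, pow_zero, one_mul]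
            calc _ = v * v * v * (α v)⁻¹ * (β v)⁻¹ * (α (β v))⁻¹ *
                  ((α v * (α v)⁻¹) * (β v * (β v)⁻¹) * (α (β v) * (α (β v))⁻¹)) := by ac_rfl
              _ = v * v * v * (α v)⁻¹ * (β v)⁻¹ * (α (β v))⁻¹ * (v * v⁻¹) := by
                simp only [mul_inv_cancel, mul_one]
              _ = _ := by ac_rfl
        _ = v ^ 4 := by rw [hsum, inv_one, mul_one]
    obtain ⟨c, hc⟩ := exists_pow_eq_self_of_coprime (x := v) (n := 4)
      (((Nat.coprime_primes Nat.prime_two hp1).2 hp.symm).pow_left 2 |>.coprime_dvd_right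
        (orderOf_dvd_of_pow_eq_one (hexp v)))
    refine ⟨i * c, j * c, l * c, ?_⟩
    rw [zpow_mul, zpow_mul, zpow_mul, zpow_natCast, zpow_natCast, zpow_natCast, ← mul_pow, ← mul_pow, h4, hc]
  have ext3 : ∀ f f' : MulAut V, f v₁ = f' v₁ → f w = f' w → f z = f' z → ∀ v, f v = f' v := by
    intro f f' h1 h2 h3 v
    obtain ⟨i, j, l, rfl⟩ := hspan v
    simp only [map_mul, map_zpow, h1, h2, h3]
  have hXα' : ∀ v, X (α v) = α (X v) := fun v => DFunLike.congr_fun hXα.eq v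
  have hXpow : ∀ {v : V}, X v = v → ∀ n : ℕ, (X ^ n) v = v := fun {v} hv n => by
    induction n with
    | zero => rw [pow_zero]; rfl
    | succ n ih => rw [pow_succ', MulAut.mul_apply, ih, hv]
  have hsquare : ∀ v, X (X v) = v → X v = v := fun v h => by
    obtain ⟨j, hj⟩ := hodd
    have h1 : ∀ m : ℕ, (X ^ (2 * m)) v = v := fun m => by
      induction m with
      | zero => rw [mul_zero, pow_zero]; rfl
      | succ m ih => rw [mul_add, mul_one, pow_add, MulAut.mul_apply, pow_two, MulAut.mul_apply, h, ih]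
    have h2 := DFunLike.congr_fun hXp v
    rw [hj, pow_succ', MulAut.mul_apply, h1] at h2
    simpa using h2
  have hv1 : v₁ ≠ 1 := fun e => hX1 (MulEquiv.ext fun v => by
    obtain ⟨i, j, l, rfl⟩ := hspan v
    simp [w, z, e])
  have hw1 : w ≠ 1 := fun e => hv1 ((MulEquiv.map_eq_one_iff γ).1 e)
  have hz1 : z ≠ 1 := fun e => hw1 ((MulEquiv.map_eq_one_iff γ).1 e)
  -- `X` fixes the first line
  have hXv : X v₁ = v₁ := by
    obtain ⟨i, hi⟩ := mem_zpowers_iff.1 (hline (X v₁) (by rw [← hXα', hαv]))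
    have h1 := hXβ v₁
    rw [← hi, map_zpow, hβv, map_zpow, map_inv, ← hi, inv_zpow, inv_inj] at h1
    exact hsquare v₁ (by rw [← hi, map_zpow, ← hi, h1])
  -- `X` preserves the plane
  have hplane : ∀ v, α v = v⁻¹ → ∃ j l : ℤ, v = w ^ j * z ^ l := by
    intro v hv
    obtain ⟨i, j, l, rfl⟩ := hspan v
    refine ⟨j, l, ?_⟩
    rw [map_mul, map_mul, map_zpow, map_zpow, map_zpow, hαv, hαw, hαz, inv_zpow, inv_zpow, mul_inv, mul_inv,
      mul_left_inj, mul_left_inj] at hv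
    rw [hinv hv.symm, one_mul]
  -- a fixed point in the plane
  obtain ⟨v, hv, hv1', hXv'⟩ : ∃ v, α v = v⁻¹ ∧ v ≠ 1 ∧ X v = v := by
    let P : Subgroup V :=
      { carrier := {v | α v = v⁻¹}
        mul_mem' := fun {x y} (hx : α x = x⁻¹) (hy : α y = y⁻¹) => show α (x * y) = (x * y)⁻¹ by
          rw [map_mul, hx, hy, mul_inv]
        one_mem' := show α 1 = 1⁻¹ by rw [map_one, inv_one]
        inv_mem' := fun {x} (hx : α x = x⁻¹) => show α x⁻¹ = x⁻¹⁻¹ by rw [map_inv, hx] }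
    have hP : ∀ x ∈ zpowers X, ∀ v ∈ P, x v ∈ P := fun x hx v (hv : α v = v⁻¹) => by
      obtain ⟨i, rfl⟩ := mem_zpowers_iff.1 hx
      show α ((X ^ i) v) = ((X ^ i) v)⁻¹
      rw [show α ((X ^ i) v) = (X ^ i) (α v) from DFunLike.congr_fun (hXα.zpow_left i).eq.symm v, hv, map_inv]
    letI : MulAction ↥(zpowers X) ↥P :=
      { smul := fun x v => ⟨x.1 v.1, hP _ x.2 _ v.2⟩
        one_smul := fun v => Subtype.ext rfl
        mul_smul := fun x y v => Subtype.ext rfl }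
    have hXP : IsPGroup p ↥(zpowers X) := fun x => ⟨k, Subtype.ext (by
      obtain ⟨i, hi⟩ := mem_zpowers_iff.1 x.2
      rw [SubgroupClass.coe_pow, ← hi, OneMemClass.coe_one, ← zpow_natCast, ← zpow_mul, mul_comm, zpow_mul,
        zpow_natCast, hXp, one_zpow])⟩
    have hdvd : p ∣ Nat.card ↥P := (orderOf_eq_prime (hexp w) hw1) ▸ orderOf_dvd_natCard P hαw
    obtain ⟨b, hb, hne⟩ := hXP.exists_fixed_point_of_prime_dvd_card_of_fixed_point ↥P hdvd
      (a := 1) (fun x => Subtype.ext (map_one x.1))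
    exact ⟨b, b.2, fun e => hne (Subtype.ext e.symm), congrArg Subtype.val (hb ⟨X, mem_zpowers X⟩)⟩
  have hwz : X w = w ∨ X z = z := by
    obtain ⟨j, l, rfl⟩ := hplane v hv
    have h2 : X (β (w ^ j * z ^ l)) = β (w ^ j * z ^ l) := by
      have h := hXβ (w ^ j * z ^ l)
      rwa [hXv'] at h
    rw [map_mul β, map_zpow, map_zpow, hβw, hβz] at h2
    have h3 : X ((w ^ j) ^ (2 : ℤ)) = (w ^ j) ^ (2 : ℤ) := by
      have e : (w ^ j) ^ (2 : ℤ) = w ^ j * z ^ l * (w ^ j * z⁻¹ ^ l) := by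
        rw [show w ^ j * z ^ l * (w ^ j * z⁻¹ ^ l) = w ^ j * w ^ j * (z ^ l * z⁻¹ ^ l) by ac_rfl, inv_zpow,
          mul_inv_cancel, mul_one, zpow_two]
      rw [e, map_mul, hXv', h2]
    by_cases hj : (w ^ j) ^ (2 : ℤ) = 1
    · right
      have hj1 : w ^ j = 1 := hinv (inv_eq_of_mul_eq_one_left (by rwa [zpow_two] at hj))
      rw [hj1, one_mul] at hv1' hXv'
      obtain ⟨m, hm⟩ := mem_zpowers_iff.1 (mem_zpowers_pow hexp hv1')
      rw [← hm, map_zpow, hXv']
    · left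
      rw [← zpow_mul] at h3 hj
      obtain ⟨m, hm⟩ := mem_zpowers_iff.1 (mem_zpowers_pow hexp hj)
      rw [← hm, map_zpow, h3]
  obtain ⟨lam, hlam⟩ := mem_zpowers_iff.1 (hline (γ z) (by
    have h := hγα z
    rw [hαz, map_inv] at h
    have h' := hγβ z
    rw [hβz, map_inv, ← h, map_inv] at h'
    exact (inv_inj.1 (by rw [← map_inv, ← h', map_inv])).symm))
  have hlam1 : v₁ ^ lam ≠ 1 := by rw [hlam]; exact fun e => hz1 ((MulEquiv.map_eq_one_iff γ).1 e)
  have hconjγ : ∀ (Y : MulAut V) (v : V), (γ * Y * γ⁻¹) (γ v) = γ (Y v) := fun Y v => by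
    rw [MulAut.mul_apply, MulAut.mul_apply, MulAut.inv_apply_self]
  set X₂ := γ * X * γ⁻¹
  set X₃ := γ * X₂ * γ⁻¹
  have hX₂E : X₂ ∈ E := hγE X hXE
  have hX₃E : X₃ ∈ E := hγE X₂ hX₂E
  -- transvections in both directions between the first two lines
  suffices key : ∃ U L : MulAut V, ∃ i j : ℤ, U ∈ E ∧ L ∈ E ∧ w ^ i ≠ 1 ∧ v₁ ^ j ≠ 1 ∧
      U v₁ = v₁ * w ^ i ∧ U w = w ∧ U z = z ∧ L w = w * v₁ ^ j ∧ L v₁ = v₁ ∧ L z = z by
    obtain ⟨U, L, i, j, hUE, hLE, hi, hj, hU1, hU2, hU3, hL1, hL2, hL3⟩ := key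
    obtain ⟨m, hm⟩ := exists_nat_pow hexp hi (y := w) (mem_zpowers_pow hexp hi)
    obtain ⟨m', hm'⟩ := exists_nat_pow hexp hj (y := v₁⁻¹) (inv_mem (mem_zpowers_pow hexp hj))
    have powU : ∀ n : ℕ, (U ^ n) v₁ = v₁ * (w ^ i) ^ n ∧ (U ^ n) w = w ∧ (U ^ n) z = z := by
      intro n
      induction n with
      | zero => simp
      | succ n ih =>
        refine ⟨?_, ?_, ?_⟩ <;> rw [pow_succ', MulAut.mul_apply]
        · rw [ih.1, map_mul, map_pow, map_zpow, hU1, hU2, pow_succ']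
          ac_rfl
        · rw [ih.2.1, hU2]
        · rw [ih.2.2, hU3]
    have powL : ∀ n : ℕ, (L ^ n) w = w * (v₁ ^ j) ^ n ∧ (L ^ n) v₁ = v₁ ∧ (L ^ n) z = z := by
      intro n
      induction n with
      | zero => simp
      | succ n ih =>
        refine ⟨?_, ?_, ?_⟩ <;> rw [pow_succ', MulAut.mul_apply]
        · rw [ih.1, map_mul, map_pow, map_zpow, hL1, hL2, pow_succ']
          ac_rfl
        · rw [ih.2.1, hL2]
        · rw [ih.2.2, hL3]
    obtain ⟨hu1, hu2, hu3⟩ := powU m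
    obtain ⟨hl1, hl2, hl3⟩ := powL m'
    rw [hm] at hu1
    rw [hm'] at hl1
    set f := U ^ m * L ^ m' * U ^ m
    have f1 : f v₁ = w := by
      simp only [f, MulAut.mul_apply, hu1, map_mul, map_inv, hl1, hl2]
      rw [hu2, mul_inv]
      calc _ = w * (v₁ * v₁⁻¹) * (w * w⁻¹) := by ac_rfl
        _ = w := by simp
    have f2 : f w = v₁⁻¹ := by
      simp only [f, MulAut.mul_apply, hu2, hl1, map_mul, map_inv, hu1, mul_inv]
      rw [show w * (v₁⁻¹ * w⁻¹) = v₁⁻¹ * (w * w⁻¹) by ac_rfl, mul_inv_cancel, mul_one]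
    have f3 : f z = z := by simp only [f, MulAut.mul_apply, hu3, hl3]
    refine ⟨f, mul_mem (mul_mem (pow_mem hUE _) (pow_mem hLE _)) (pow_mem hUE _), ⟨v₁, ?_⟩, ?_⟩
    · rw [f1, f2]; exact fun e => hv1 (hinv e)
    · have h := ext3 (f * f * f * f) 1 (by simp [MulAut.mul_apply, f1, f2]) (by simp [MulAut.mul_apply, f1, f2])
        (by simp [MulAut.mul_apply, f3])
      exact h
  have hdvd : ∀ {x : V}, x ≠ 1 → ∀ n : ℤ, (x ^ n = 1 ↔ (p : ℤ) ∣ n) := fun {x} hx n => by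
    rw [← orderOf_dvd_iff_zpow_eq_one, orderOf_eq_prime (hexp x) hx]
  have hprime : Prime (p : ℤ) := Nat.prime_iff_prime_int.1 hp1
  have hne : ∀ {x y : V} {n m : ℤ}, x ^ n ≠ 1 → y ^ m ≠ 1 → x ^ (n * m) ≠ 1 := fun {x y n m} hn hm h => by
    have hx : x ≠ 1 := fun e => hn (by rw [e, one_zpow])
    have hy : y ≠ 1 := fun e => hm (by rw [e, one_zpow])
    rcases hprime.dvd_or_dvd ((hdvd hx _).1 h) with h' | h'
    · exact hn ((hdvd hx _).2 h')
    · exact hm ((hdvd hy _).2 h')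
  obtain ⟨μ, hμ⟩ := mem_zpowers_iff.1 (mem_zpowers_pow hexp hlam1)
  have hμ1 : v₁ ^ μ ≠ 1 := fun h => hv1 (by rw [← hμ, ← zpow_mul, mul_comm, zpow_mul, h, one_zpow])
  -- square roots of unity
  have hroot : ∀ {x : V} {f : ℤ}, x ≠ 1 → x ^ (f * f) = x → x ^ f = x ∨ x ^ f = x⁻¹ := fun {x f} hx h => by
    have h' : x ^ ((f - 1) * (f + 1)) = 1 := by
      rw [show (f - 1) * (f + 1) = f * f - 1 by ring, zpow_sub, h, zpow_one, mul_inv_cancel]
    rcases hprime.dvd_or_dvd ((hdvd hx _).1 h') with h1 | h1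
    · left
      have h2 := (hdvd hx _).2 h1
      rwa [zpow_sub, zpow_one, mul_inv_eq_one] at h2
    · right
      have h2 := (hdvd hx _).2 h1
      rw [zpow_add, zpow_one] at h2
      exact eq_inv_of_mul_eq_one_left h2
  have hsq : ∀ {q : V}, q * q = 1 → q = 1 := fun {q} h => hinv (inv_eq_of_mul_eq_one_left h)
  have hiX : ∀ {Y : MulAut V} {u v : V}, Y u = v → Y⁻¹ v = u := fun {Y u v} h => by
    rw [← h, MulAut.inv_apply_self]
  rcases hwz with hXw | hXz
  · -- `z ↦ w ^ e * z`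
    obtain ⟨e, f, hef⟩ := hplane (X z) (by rw [← hXα', hαz, map_inv])
    have h1 : w ^ (e - e * f) * z ^ (-(f * f)) = z⁻¹ := by
      have h := hXβ z
      rw [hef, map_mul, map_zpow, map_zpow, hβw, hβz, map_mul, map_zpow, map_zpow, map_inv, hXw, hef] at h
      rw [← h, inv_zpow, mul_zpow, mul_inv, ← zpow_mul, ← zpow_mul, zpow_sub, ← zpow_neg, ← zpow_neg]
      simp only [mul_assoc, mul_comm, mul_left_comm]
    have h2 : w ^ (-(e - e * f)) * z ^ (-(f * f)) = z⁻¹ := by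
      have h := congrArg β (congrArg α h1)
      simp only [map_mul, map_zpow, map_inv, hαw, hαz, hβw, hβz, inv_zpow, inv_inv] at h
      rwa [← zpow_neg] at h
    have hff : z ^ (f * f) = z := by
      refine inv_inj.1 ?_
      rw [← zpow_neg]
      refine mul_inv_eq_one.1 (hsq ?_)
      calc z ^ (-(f * f)) * z⁻¹⁻¹ * (z ^ (-(f * f)) * z⁻¹⁻¹)
          = (w ^ (e - e * f) * z ^ (-(f * f))) * (w ^ (-(e - e * f)) * z ^ (-(f * f))) * (z⁻¹ * z⁻¹)⁻¹ := by
            rw [mul_inv, zpow_neg w]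
            generalize w ^ (e - e * f) = q
            calc _ = z ^ (-(f * f)) * z ^ (-(f * f)) * (z⁻¹⁻¹ * z⁻¹⁻¹) * (q * q⁻¹) := by
                  rw [mul_inv_cancel, mul_one]; ac_rfl
              _ = _ := by ac_rfl
        _ = 1 := by rw [h1, h2, mul_inv_cancel]
    rcases hroot hz1 hff with hf | hf <;> rw [hf] at hef
    swap
    · exfalso
      have h3 : X z = z := hsquare z (by
        rw [hef, map_mul, map_zpow, map_inv, hXw, hef, mul_inv, inv_inv, ← mul_assoc, mul_inv_cancel, one_mul])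
      rw [hef] at h3
      have h4 := congrArg β h3
      simp only [map_mul, map_zpow, map_inv, hβw, hβz, inv_inv] at h4
      exact hz1 (hsq (hsq (by
        calc z * z * (z * z) = (w ^ e * z) * (w ^ e * z⁻¹)⁻¹ * (z * z) := by
              rw [mul_inv, inv_inv]
              generalize w ^ e = q
              calc _ = z * z * (z * z) * (q * q⁻¹) := by rw [mul_inv_cancel, mul_one]
                _ = _ := by ac_rfl
          _ = 1 := by
              rw [h3, h4]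
              calc z⁻¹ * z⁻¹ * (z * z) = (z⁻¹ * z) * (z⁻¹ * z) := by ac_rfl
                _ = 1 := by rw [inv_mul_cancel, one_mul])))
    have he : w ^ e ≠ 1 := fun h => hX1 (MulEquiv.ext (ext3 X 1 hXv hXw (by rw [hef, h, one_mul]; rfl)))
    set d := e * μ
    have h2w : X₂ w = w := by rw [hconjγ X v₁, hXv]
    have h2z : X₂ z = z := by rw [hconjγ X w, hXw]
    have h2v : X₂ v₁ = z ^ d * v₁ := by
      have h3 : X₂ (γ z) = z ^ e * γ z := by rw [hconjγ X z, hef, map_mul, map_zpow]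
      conv_lhs => rw [← hμ, hlam, map_zpow, h3, mul_zpow, ← zpow_mul, ← hlam, hμ]
    have hd : z ^ d ≠ 1 := hne (fun h => he ((hdvd hw1 e).2 ((hdvd hz1 e).1 h))) hμ1
    have h3v : X₃ v₁ = v₁ := by
      have h3 : X₃ (γ z) = γ z := by rw [hconjγ X₂ z, h2z]
      conv_lhs => rw [← hμ, hlam, map_zpow, h3, ← hlam, hμ]
    have h3z : X₃ z = z := by rw [hconjγ X₂ w, h2w]
    have h3w : X₃ w = w * v₁ ^ (lam * d) := by
      rw [hconjγ X₂ v₁, h2v, map_mul, map_zpow, ← hlam, ← zpow_mul, mul_comm]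
    have hi : ∀ j : ℤ, X⁻¹ (z ^ j * v₁) = (w ^ e)⁻¹ ^ j * z ^ j * v₁ := fun j => by
      refine hiX ?_
      rw [map_mul, map_mul, map_zpow, map_zpow, map_inv, map_zpow, hXw, hef, hXv, mul_zpow, inv_zpow,
        ← mul_assoc, inv_mul_cancel, one_mul]
    refine ⟨X * X₂ * X⁻¹ * X₂⁻¹, X₃, e * d, lam * d,
      mul_mem (mul_mem (mul_mem hXE hX₂E) (inv_mem hXE)) (inv_mem hX₂E), hX₃E, hne he hd, hne hlam1 hd,
      ?_, ?_, ?_, h3w, h3v, h3z⟩
    · have hj : X₂⁻¹ v₁ = z ^ (-d) * v₁ := hiX (by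
        rw [map_mul, map_zpow, h2z, h2v, ← mul_assoc, zpow_neg, inv_mul_cancel, one_mul])
      rw [MulAut.mul_apply, MulAut.mul_apply, MulAut.mul_apply, hj, hi, map_mul X₂, map_mul X₂, map_zpow X₂,
        map_inv X₂, map_zpow X₂, h2w, map_zpow X₂, h2z, h2v,
        show (w ^ e)⁻¹ ^ (-d) * z ^ (-d) * (z ^ d * v₁) = v₁ * w ^ (e * d) by
          rw [inv_zpow', neg_neg, ← zpow_mul, zpow_neg]
          calc _ = v₁ * w ^ (e * d) * ((z ^ d)⁻¹ * z ^ d) := by ac_rfl
            _ = _ := by rw [inv_mul_cancel, mul_one],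
        map_mul, map_zpow, hXv, hXw]
    · simp [MulAut.mul_apply, hiX h2w, hiX hXw, h2w, hXw]
    · have hz' : X⁻¹ z = (w ^ e)⁻¹ * z := hiX (by
        rw [map_mul, map_inv, map_zpow, hXw, hef, ← mul_assoc, inv_mul_cancel, one_mul])
      simp [MulAut.mul_apply, hiX h2z, hz', h2w, h2z, hXw, hef]
  · -- `w ↦ w * z ^ e`
    obtain ⟨f, e, hef⟩ := hplane (X w) (by rw [← hXα', hαw, map_inv])
    have h1 : w ^ (f * f) * z ^ (e * f - e) = w := by
      have h := hXβ w
      rw [hef, map_mul, map_zpow, map_zpow, hβw, hβz, map_mul, map_zpow, map_zpow, map_inv, hXz, hef] at h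
      conv_rhs => rw [← h]
      rw [mul_zpow, ← zpow_mul, ← zpow_mul, zpow_sub, inv_zpow]
      ac_rfl
    have h2 : w ^ (-(f * f)) * z ^ (e * f - e) = w⁻¹ := by
      have h := congrArg β (congrArg α h1)
      simp only [map_mul, map_zpow, map_inv, hαw, hαz, hβw, hβz, inv_zpow, inv_inv] at h
      rwa [← zpow_neg] at h
    have hff : w ^ (f * f) = w := by
      refine mul_inv_eq_one.1 (hsq ?_)
      calc w ^ (f * f) * w⁻¹ * (w ^ (f * f) * w⁻¹)
          = (w ^ (f * f) * z ^ (e * f - e)) * (w ^ (-(f * f)) * z ^ (e * f - e))⁻¹ * (w * w⁻¹⁻¹)⁻¹ := by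
            rw [mul_inv, zpow_neg, inv_inv, inv_inv, mul_inv]
            generalize z ^ (e * f - e) = q
            calc _ = w ^ (f * f) * w ^ (f * f) * (w⁻¹ * w⁻¹) * (q * q⁻¹) := by
                  rw [mul_inv_cancel, mul_one]; ac_rfl
              _ = _ := by ac_rfl
        _ = 1 := by rw [h1, h2, mul_inv_cancel]
    rcases hroot hw1 hff with hf | hf <;> rw [hf] at hef
    swap
    · exfalso
      have h3 : X w = w := hsquare w (by
        rw [hef, map_mul, map_inv, map_zpow, hXz, hef, mul_inv, inv_inv, mul_assoc, inv_mul_cancel, mul_one])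
      rw [hef] at h3
      have h4 := congrArg β h3
      simp only [map_mul, map_zpow, map_inv, hβw, hβz, inv_zpow] at h4
      exact hw1 (hsq (hsq (by
        calc w * w * (w * w) = (w⁻¹ * z ^ e) * (w⁻¹ * (z ^ e)⁻¹) * (w * w) := by rw [h3, h4]
          _ = (w⁻¹ * w) * (w⁻¹ * w) * (z ^ e * (z ^ e)⁻¹) := by ac_rfl
          _ = 1 := by rw [inv_mul_cancel, mul_inv_cancel, one_mul, one_mul])))
    have he : z ^ e ≠ 1 := fun h => hX1 (MulEquiv.ext (ext3 X 1 hXv (by rw [hef, h, mul_one]; rfl) hXz))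
    set d := lam * e
    have hd : v₁ ^ d ≠ 1 := hne hlam1 he
    have h2w : X₂ w = w := by rw [hconjγ X v₁, hXv]
    have h2z : X₂ z = z * v₁ ^ d := by
      rw [hconjγ X w, hef, map_mul, map_zpow, ← hlam, ← zpow_mul]
    have h2v : X₂ v₁ = v₁ := by
      have h3 : X₂ (γ z) = γ z := by rw [hconjγ X z, hXz]
      conv_lhs => rw [← hμ, hlam, map_zpow, h3, ← hlam, hμ]
    have h3w : X₃ w = w := by rw [hconjγ X₂ v₁, h2v]
    have h3z : X₃ z = z := by rw [hconjγ X₂ w, h2w]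
    have h3v : X₃ v₁ = v₁ * w ^ (d * μ) := by
      have h3 : X₃ (γ z) = γ z * w ^ d := by rw [hconjγ X₂ z, h2z, map_mul, map_zpow]
      conv_lhs => rw [← hμ, hlam, map_zpow, h3, mul_zpow, ← zpow_mul, ← hlam, hμ]
    refine ⟨X₃, X₂ * X * X₂⁻¹ * X⁻¹, d * μ, d * e,
      hX₃E, mul_mem (mul_mem (mul_mem hX₂E hXE) (inv_mem hX₂E)) (inv_mem hXE),
      hne (fun h => hd ((hdvd hv1 d).2 ((hdvd hw1 d).1 h))) hμ1, hne hd he, h3v, h3w, h3z, ?_, ?_, ?_⟩
    · have hw' : X⁻¹ w = w * (z ^ e)⁻¹ := hiX (by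
        rw [map_mul, map_inv, map_zpow, hXz, hef, mul_assoc, mul_inv_cancel, mul_one])
      have hz2 : X₂⁻¹ z = z * (v₁ ^ d)⁻¹ := hiX (by
        rw [map_mul, map_inv, map_zpow, h2v, h2z, mul_assoc, mul_inv_cancel, mul_one])
      simp only [MulAut.mul_apply, hw', map_mul, map_inv, map_zpow, hiX h2w, hz2, mul_zpow, hXv, hXz, hef,
        h2w, h2v, h2z, inv_zpow, ← zpow_mul, mul_inv, inv_inv]
      generalize v₁ ^ (d * e) = q
      generalize z ^ e = y
      calc _ = w * q * (y * y⁻¹) * (q * q⁻¹) := by ac_rfl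
        _ = w * q := by simp
    · simp [MulAut.mul_apply, hiX hXv, hiX h2v, hXv, h2v]
    · have hz2 : X₂⁻¹ z = z * (v₁ ^ d)⁻¹ := hiX (by
        rw [map_mul, map_inv, map_zpow, h2v, h2z, mul_assoc, mul_inv_cancel, mul_one])
      simp [MulAut.mul_apply, hiX hXz, hz2, hXz, hXv, h2v, h2z]

end Cfsg.Agent.Goldschmidt.General.Corner
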