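import Cfsg.Agent.S4216
import Cfsg.Agent.Lib.Transfer.Focal
import Cfsg.Agent.Lib.Goldschmidt.General.Defs

/-!
# A transfer lemma for the corner `|A| = 4` of S1169 (section S of `../CORNER.md`)

`exists_index_two_of_swap`: a Sylow 2-subgroup `W` of order 32 with an elementary subgroup `C` of order 16
on which every element of `W` outside `C` has fixed points of order 4 only: then there is a subgroup of
index two.  By Grün's first theorem only a conjugate `x` outside `C` of an element `d` of `Z = C_C(W)` must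
be excluded; `Q = C_W(x)` would be moved by an element of its normaliser not fixing the hyperplane `Z`, and
two transvections with a common centre and different axes commute, so both lie in one conjugate of `W`,
whose elements all have the same axis on `Q`.
-/

set_option autoImplicit false
set_option linter.unusedSectionVars false

namespace Cfsg.Agent.Goldschmidt.General.Corner

open Cfsg Subgroup
open scoped commutatorElement

universe u

variable {X : Type u} [Group X] [Finite X]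

/-- A Sylow 2-subgroup outside the derived subgroup gives a subgroup of index two. -/
theorem exists_index_two_of_not_le_commutator (W : Sylow 2 X)
    (h : ¬ (W : Subgroup X) ≤ commutator X) : ∃ M : Subgroup X, M.index = 2 := by
  classical
  haveI : Fact (Nat.Prime 2) := ⟨Nat.prime_two⟩
  obtain ⟨w, hw, hwc⟩ := SetLike.not_le_iff_exists.1 h
  set π : X →* Abelianization X := Abelianization.of with hπ
  have hπs : Function.Surjective π := fun q => Quotient.inductionOn' q fun a => ⟨a, rfl⟩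
  have hw1 : π w ≠ 1 := fun e => hwc (by
    have : w ∈ MonoidHom.ker π := e
    rwa [hπ, Abelianization.ker_of] at this)
  -- squaring is not injective, so not surjective
  have h2 : 2 ∣ Nat.card (Abelianization X) := by
    obtain ⟨k, hk⟩ := IsPGroup.iff_orderOf.1 W.2 ⟨w, hw⟩
    have hdvd : orderOf (π w) ∣ 2 ^ k := by
      have h1 := orderOf_map_dvd π w
      rwa [show orderOf w = 2 ^ k by rw [← hk]; exact Subgroup.orderOf_coe (⟨w, hw⟩ : ↥(W : Subgroup X))] at h1
    obtain ⟨i, -, hi⟩ := (Nat.dvd_prime_pow Nat.prime_two).1 hdvd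
    have hi0 : i ≠ 0 := fun e => hw1 (orderOf_eq_one_iff.1 (by rw [hi, e, pow_zero]))
    exact ((hi ▸ dvd_pow_self 2 hi0 : 2 ∣ orderOf (π w))).trans (orderOf_dvd_natCard _)
  obtain ⟨a, ha⟩ := exists_prime_orderOf_dvd_card' 2 h2
  set R : Subgroup (Abelianization X) := (powMonoidHom 2).range with hR
  have hRtop : R ≠ ⊤ := by
    intro e
    have hs : Function.Surjective (powMonoidHom 2 : Abelianization X →* Abelianization X) :=
      MonoidHom.range_eq_top.1 (hR ▸ e)
    have ha2 : (powMonoidHom 2 : Abelianization X →* Abelianization X) a = powMonoidHom 2 1 := by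
      rw [powMonoidHom_apply, map_one, ← ha, pow_orderOf_eq_one]
    rw [Finite.injective_iff_surjective.2 hs ha2, orderOf_one] at ha
    exact absurd ha (by norm_num)
  have hQ : IsPGroup 2 (Abelianization X ⧸ R) := fun q => ⟨1, by
    induction q using QuotientGroup.induction_on with
    | _ z => rw [pow_one, ← QuotientGroup.mk_pow, QuotientGroup.eq_one_iff]; exact ⟨z, rfl⟩⟩
  obtain ⟨k, hk⟩ := hQ.exists_card_eq
  have hk0 : k ≠ 0 := fun e => hRtop (by
    rw [← Subgroup.index_eq_one]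
    rw [e, pow_zero] at hk
    exact hk)
  obtain ⟨j, rfl⟩ := Nat.exists_eq_succ_of_ne_zero hk0
  obtain ⟨U, hU⟩ := Sylow.exists_subgroup_card_pow_prime 2
    (G := Abelianization X ⧸ R) (n := j) (by rw [hk]; exact pow_dvd_pow 2 j.le_succ)
  have hUi : U.index = 2 := by
    have h1 := U.card_mul_index
    rw [hU, hk, pow_succ] at h1
    exact Nat.eq_of_mul_eq_mul_left (pow_pos two_pos j) h1
  refine ⟨U.comap ((QuotientGroup.mk' R).comp π), ?_⟩
  rw [index_comap_of_surjective U (by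
    rw [MonoidHom.coe_comp]; exact (QuotientGroup.mk'_surjective R).comp hπs), hUi]

/-- A 2-subgroup of an overgroup of a Sylow 2-subgroup is conjugate into it there. -/
theorem conj_into_sylow (W : Sylow 2 X) {H P : Subgroup X} (hWH : (W : Subgroup X) ≤ H) (hPH : P ≤ H)
    (hP : IsPGroup 2 ↥P) : ∃ k ∈ H, ∀ p ∈ P, k * p * k⁻¹ ∈ (W : Subgroup X) := by
  haveI : Fact (Nat.Prime 2) := ⟨Nat.prime_two⟩
  obtain ⟨P', hP'⟩ := (hP.of_equiv (Subgroup.subgroupOfEquivOfLe hPH).symm).exists_le_sylow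
  obtain ⟨k, hk⟩ := MulAction.exists_smul_eq ↥H P' (W.subtype hWH)
  refine ⟨k, k.2, fun p hp => ?_⟩
  have h1 : MulAut.conj k ⟨p, hPH hp⟩ ∈ ((k • P' : Sylow 2 ↥H) : Subgroup ↥H) := by
    rw [Sylow.coe_subgroup_smul]
    exact Subgroup.smul_mem_pointwise_smul _ _ _ (hP' (show (⟨p, hPH hp⟩ : ↥H) ∈ P.subgroupOf H from hp))
  rw [hk] at h1
  exact h1

/-- A finite subgroup normalised in one direction. -/
theorem norm_mem (H : Subgroup X) {m : X} (h : ∀ x ∈ H, m * x * m⁻¹ ∈ H) : m ∈ normalizer (H : Set X) := by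
  have hEq : H.map (MulAut.conj m).toMonoidHom = H := Subgroup.eq_of_le_of_card_ge
    (by rintro _ ⟨x, hx, rfl⟩; exact h x hx)
    (by rw [Subgroup.card_map_of_injective (MulAut.conj m).injective])
  refine mem_normalizer_iff.2 fun x => ⟨h x, fun hx => ?_⟩
  rw [← hEq] at hx
  obtain ⟨y, hy, hxy⟩ := hx
  exact ((MulAut.conj m).injective hxy : y = x) ▸ hy

/-- **The swapped case**: a subgroup of index two. -/
theorem exists_index_two_of_swap (W : Sylow 2 X) (C : Subgroup X) (hCW : C ≤ (W : Subgroup X))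
    (hW : Nat.card ↥(W : Subgroup X) = 32) (hC : Nat.card ↥C = 16) (hCe : Cfsg.IsElementaryAbelian 2 C)
    (hfix : ∀ s ∈ (W : Subgroup X), s ∉ C → Nat.card ↥(C ⊓ centralizer ({s} : Set X) : Subgroup X) = 4) :
    ∃ M : Subgroup X, M.index = 2 := by
  classical
  haveI : Fact (Nat.Prime 2) := ⟨Nat.prime_two⟩
  refine exists_index_two_of_not_le_commutator W fun hle => ?_
  have csq : ∀ c ∈ C, c * c = 1 := fun c hc => by rw [← pow_two]; exact hCe.2 c hc
  have ccm : ∀ c ∈ C, ∀ d ∈ C, c * d = d * c := fun c hc d hd =>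
    congrArg Subtype.val (hCe.1.is_comm.comm ⟨c, hc⟩ ⟨d, hd⟩)
  have cinv : ∀ c ∈ C, c⁻¹ = c := fun c hc => inv_eq_of_mul_eq_one_right (csq c hc)
  have hrel : C.relIndex (W : Subgroup X) = 2 := by
    have h1 := Subgroup.relIndex_mul_relIndex ⊥ C (W : Subgroup X) bot_le hCW
    rw [relIndex_bot_left, relIndex_bot_left, hW, hC] at h1
    omega
  have hmul : ∀ s ∈ (W : Subgroup X), ∀ t ∈ (W : Subgroup X), (s * t ∈ C ↔ (s ∈ C ↔ t ∈ C)) :=
    fun s hs t ht => by
      have := Subgroup.mul_mem_iff_of_index_two (H := C.subgroupOf (W : Subgroup X)) hrel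
        (a := ⟨s, hs⟩) (b := ⟨t, ht⟩)
      simpa [mem_subgroupOf] using this
  have hnormC : ∀ t ∈ (W : Subgroup X), ∀ c ∈ C, t * c * t⁻¹ ∈ C := fun t ht c hc => by
    rw [hmul _ (mul_mem ht (hCW hc)) _ (inv_mem ht), hmul _ ht _ (hCW hc), inv_mem_iff]
    exact ⟨fun h => h.2 hc, fun h => iff_of_true h hc⟩
  set Z : Subgroup X := C ⊓ centralizer ((W : Subgroup X) : Set X) with hZdef
  have zc : ∀ z ∈ Z, ∀ t ∈ (W : Subgroup X), t * z = z * t := fun z hz t ht =>
    mem_centralizer_iff.1 hz.2 t ht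
  -- the fixed points of every element outside `C` are `Z`
  have hZs : ∀ s ∈ (W : Subgroup X), s ∉ C → C ⊓ centralizer ({s} : Set X) = Z := by
    intro s hs hsC
    refine le_antisymm (fun c hc => ⟨hc.1, mem_centralizer_iff.2 fun t ht => ?_⟩)
      (fun c hc => ⟨hc.1, mem_centralizer_singleton_iff.2 (zc c hc s hs).symm⟩)
    have hcs : c * s = s * c := mem_centralizer_singleton_iff.1 hc.2
    by_cases htC : t ∈ C
    · exact ccm t htC c hc.1
    · have hu : s⁻¹ * t ∈ C := by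
        rw [hmul _ (inv_mem hs) _ ht, inv_mem_iff]; exact iff_of_false hsC htC
      calc t * c = s * ((s⁻¹ * t) * c) := by group
        _ = s * (c * (s⁻¹ * t)) := by rw [ccm _ hu c hc.1]
        _ = (s * c) * (s⁻¹ * t) := by group
        _ = (c * s) * (s⁻¹ * t) := by rw [hcs]
        _ = c * t := by group
  obtain ⟨s₀, hs₀, hs₀C⟩ : ∃ s ∈ (W : Subgroup X), s ∉ C := by
    by_contra h
    push_neg at h
    have h1 := Subgroup.card_le_of_le (show (W : Subgroup X) ≤ C from h)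
    omega
  have hZ4 : Nat.card ↥Z = 4 := by rw [← hZs s₀ hs₀ hs₀C]; exact hfix s₀ hs₀ hs₀C
  -- the commutators with `C` lie in `Z` and fill it
  have hdel : ∀ s ∈ (W : Subgroup X), s ∉ C → ∀ c ∈ C, c * (s * c * s⁻¹) ∈ Z := by
    intro s hs hsC c hc
    rw [← hZs s hs hsC]
    have hs2 : s * s ∈ C := (hmul s hs s hs).2 Iff.rfl
    have h2 : s * (s * c * s⁻¹) * s⁻¹ = c := by
      calc s * (s * c * s⁻¹) * s⁻¹ = (s * s) * c * (s * s)⁻¹ := by group
        _ = c * (s * s) * (s * s)⁻¹ := by rw [ccm _ hs2 c hc]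
        _ = c := by group
    refine ⟨mul_mem hc (hnormC s hs c hc), mem_centralizer_singleton_iff.2 ?_⟩
    have h3 : s * (c * (s * c * s⁻¹)) * s⁻¹ = c * (s * c * s⁻¹) := by
      calc s * (c * (s * c * s⁻¹)) * s⁻¹ = (s * c * s⁻¹) * (s * (s * c * s⁻¹) * s⁻¹) := by group
        _ = c * (s * c * s⁻¹) := by rw [h2, ccm _ (hnormC s hs c hc) c hc]
    calc c * (s * c * s⁻¹) * s = s * (c * (s * c * s⁻¹)) * s⁻¹ * s := by rw [h3]
      _ = s * (c * (s * c * s⁻¹)) := by group
  have hsurj : ∀ s ∈ (W : Subgroup X), s ∉ C → ∀ z ∈ Z, ∃ c ∈ C, c * (s * c * s⁻¹) = z := by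
    intro s hs hsC
    let δ : ↥C →* ↥C := MonoidHom.mk'
      (fun c => ⟨c * (s * c * s⁻¹), mul_mem c.2 (hnormC s hs c c.2)⟩) (by
        rintro ⟨c, hc⟩ ⟨d, hd⟩
        apply Subtype.ext
        show c * d * (s * (c * d) * s⁻¹) = c * (s * c * s⁻¹) * (d * (s * d * s⁻¹))
        calc c * d * (s * (c * d) * s⁻¹) = c * (d * (s * c * s⁻¹)) * (s * d * s⁻¹) := by group
          _ = c * ((s * c * s⁻¹) * d) * (s * d * s⁻¹) := by rw [ccm d hd _ (hnormC s hs c hc)]
          _ = c * (s * c * s⁻¹) * (d * (s * d * s⁻¹)) := by group)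
    have hker : δ.ker.map C.subtype = Z := by
      rw [← hZs s hs hsC]
      ext c
      constructor
      · rintro ⟨⟨c, hc⟩, hk, rfl⟩
        have hk' : c * (s * c * s⁻¹) = 1 := congrArg Subtype.val hk
        refine ⟨hc, mem_centralizer_singleton_iff.2 ?_⟩
        have h1 : s * c * s⁻¹ = c := by rw [← cinv c hc]; rw [cinv c hc]; exact (eq_inv_of_mul_eq_one_right hk').trans (cinv c hc)
        show c * s = s * c
        calc c * s = s * c * s⁻¹ * s := by rw [h1]
          _ = s * c := by group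
      · rintro ⟨hc, hcs⟩
        refine ⟨⟨c, hc⟩, Subtype.ext ?_, rfl⟩
        show c * (s * c * s⁻¹) = 1
        rw [← mem_centralizer_singleton_iff.1 hcs, mul_inv_cancel_right, csq c hc]
    have hcard : Nat.card ↥δ.range = 4 := by
      have h1 := δ.ker.card_mul_index
      rw [Subgroup.index_ker, hC, ← Subgroup.card_map_of_injective (K := δ.ker) C.subtype_injective,
        hker, hZ4] at h1
      omega
    have hrange : δ.range.map C.subtype = Z := by
      refine Subgroup.eq_of_le_of_card_ge ?_ ?_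
      · rintro _ ⟨_, ⟨c, rfl⟩, rfl⟩
        exact hdel s hs hsC c c.2
      · rw [hZ4, Subgroup.card_map_of_injective C.subtype_injective, hcard]
    intro z hz
    rw [← hrange] at hz
    obtain ⟨_, ⟨c, rfl⟩, hcz⟩ := hz
    exact ⟨c, c.2, hcz⟩
  have hD : ⁅(W : Subgroup X), (W : Subgroup X)⁆ ≤ Z := by
    rw [Subgroup.commutator_le]
    intro a ha b hb
    by_cases haC : a ∈ C
    · by_cases hbC : b ∈ C
      · rw [commutatorElement_eq_one_iff_mul_comm.2 (ccm a haC b hbC)]; exact one_mem _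
      · rw [commutatorElement_def, show a * b * a⁻¹ * b⁻¹ = a * (b * a⁻¹ * b⁻¹) by group, cinv a haC]
        exact hdel b hb hbC a haC
    · by_cases hbC : b ∈ C
      · rw [commutatorElement_def, cinv b hbC, ccm _ (hnormC a ha b hbC) b hbC]
        exact hdel a ha haC b hbC
      · have hc : a⁻¹ * b ∈ C := by
          rw [hmul _ (inv_mem ha) _ hb, inv_mem_iff]; exact iff_of_false haC hbC
        have h1 : a * ((a⁻¹ * b) * (a * (a⁻¹ * b) * a⁻¹)) * a⁻¹ ∈ Z := by
          have hz := hdel a ha haC _ hc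
          rw [zc _ hz a ha, mul_inv_cancel_right]
          exact hz
        have h2 : ⁅a, b⁆ = a * ((a * (a⁻¹ * b) * a⁻¹) * (a⁻¹ * b)⁻¹) * a⁻¹ := by
          rw [commutatorElement_def]; group
        rw [h2, cinv _ hc, ccm _ (hnormC a ha _ hc) _ hc]
        exact h1
  -- `N(W)` normalises `C` and `Z`
  have hNC : ∀ n ∈ normalizer ((W : Subgroup X) : Set X), ∀ c ∈ C, n * c * n⁻¹ ∈ C := by
    intro n hn c hc
    by_contra hcn
    set B : Subgroup X := C.map (MulAut.conj n).toMonoidHom with hB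
    have hBW : B ≤ (W : Subgroup X) := by
      rintro _ ⟨d, hd, rfl⟩
      exact (mem_normalizer_iff.1 hn d).1 (hCW hd)
    have hBcard : Nat.card ↥B = 16 := by
      rw [hB, Subgroup.card_map_of_injective (MulAut.conj n).injective, hC]
    have hle' : C ⊓ B ≤ Z := by
      rw [← hZs (n * c * n⁻¹) ((mem_normalizer_iff.1 hn c).1 (hCW hc)) hcn]
      rintro _ ⟨hx, d, hd, rfl⟩
      refine ⟨hx, mem_centralizer_singleton_iff.2 ?_⟩
      show n * d * n⁻¹ * (n * c * n⁻¹) = n * c * n⁻¹ * (n * d * n⁻¹)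
      calc n * d * n⁻¹ * (n * c * n⁻¹) = n * (d * c) * n⁻¹ := by group
        _ = n * (c * d) * n⁻¹ := by rw [ccm d hd c hc]
        _ = n * c * n⁻¹ * (n * d * n⁻¹) := by group
    have h1 := Subgroup.card_le_of_le hle'
    have h2 : C.relIndex B ≤ 2 := hrel ▸ Subgroup.relIndex_le_of_le_right hBW (by omega)
    have h3 : C.relIndex B * Nat.card ↥(C ⊓ B : Subgroup X) = Nat.card ↥B := by
      have := Subgroup.relIndex_mul_relIndex ⊥ (C ⊓ B) B bot_le inf_le_right
      rw [relIndex_bot_left, relIndex_bot_left, inf_relIndex_right] at this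
      rw [mul_comm]; exact this
    rw [hBcard, hZ4] at *
    nlinarith
  have hNZ : ∀ n ∈ normalizer ((W : Subgroup X) : Set X), ∀ z ∈ Z, n * z * n⁻¹ ∈ Z := by
    refine fun n hn z hz => ⟨hNC n hn z hz.1, mem_centralizer_iff.2 fun t ht => ?_⟩
    have h1 := zc z hz (n⁻¹ * t * n) (by
      have := (mem_normalizer_iff.1 (inv_mem hn) t).1 ht
      simpa using this)
    calc t * (n * z * n⁻¹) = n * (n⁻¹ * t * n * z) * n⁻¹ := by group
      _ = n * (z * (n⁻¹ * t * n)) * n⁻¹ := by rw [h1]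
      _ = n * z * n⁻¹ * t := by group
  -- Grün
  have hgruen := Cfsg.Agent.S4216.result W
  rw [inf_eq_left.2 hle] at hgruen
  refine absurd (hgruen ▸ hs₀ : s₀ ∈ _) fun hmem => hs₀C ?_
  revert hmem
  suffices hsup : ((W : Subgroup X) ⊓ ⁅normalizer ((W : Subgroup X) : Set X),
      normalizer ((W : Subgroup X) : Set X)⁆) ⊔ (⨆ z : X, (W : Subgroup X) ⊓
        (⁅(W : Subgroup X), (W : Subgroup X)⁆).map (MulAut.conj z).toMonoidHom) ≤ C from fun h => hsup h
  refine sup_le ?_ (iSup_le fun z => ?_)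
  · -- inside the normaliser
    set N := normalizer ((W : Subgroup X) : Set X) with hNdef
    set H : Subgroup ↥N := (W : Subgroup X).subgroupOf N with hH
    have hcop : Nat.Coprime H.index (⁅H, H⁆.relIndex H) := by
      have h1 : ¬ 2 ∣ H.index := (W.subtype Subgroup.le_normalizer).not_dvd_index
      have h2 : ⁅H, H⁆.relIndex H ∣ 32 := by
        rw [← hW, ← Nat.card_congr (Subgroup.subgroupOfEquivOfLe Subgroup.le_normalizer).toEquiv]
        exact Subgroup.relIndex_dvd_card _ _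
      exact ((Nat.prime_two.coprime_iff_not_dvd.2 h1).symm.pow_right 5).coprime_dvd_right
        (by simpa using h2)
    have hfoc : H.focalSubgroup ≤ C.subgroupOf N := by
      rw [focalSubgroup_def, closure_le]
      rintro _ ⟨hz, x, hx', v, rfl⟩
      have hx : (x : X) ∈ (W : Subgroup X) := hx'
      show ((⁅x, v⁆ : ↥N) : X) ∈ C
      have hvx : (v : X) * (x : X)⁻¹ * (v : X)⁻¹ ∈ (W : Subgroup X) :=
        (mem_normalizer_iff.1 v.2 _).1 (inv_mem hx)
      rw [show ((⁅x, v⁆ : ↥N) : X) = (x : X) * ((v : X) * (x : X)⁻¹ * (v : X)⁻¹) by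
        simp [commutatorElement_def, mul_assoc]]
      rw [hmul _ hx _ hvx]
      refine ⟨fun h => hNC _ v.2 _ (inv_mem h), fun h => ?_⟩
      have h1 := hNC _ (inv_mem v.2) _ h
      rw [show (v : X)⁻¹ * ((v : X) * (x : X)⁻¹ * (v : X)⁻¹) * ((v : X)⁻¹)⁻¹ = (x : X)⁻¹ by group] at h1
      exact inv_mem_iff.1 h1
    rw [Transfer.focalSubgroup_eq_of_coprime H hcop] at hfoc
    rintro w ⟨hwW, hw⟩
    rw [← map_subtype_commutator] at hw
    obtain ⟨w', hw', rfl⟩ := hw
    exact hfoc ⟨hw', hwW⟩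
  -- conjugates of the derived subgroup
  rintro x ⟨hxW, d, hdD, hdx⟩
  by_contra hxC
  have hdZ : d ∈ Z := hD hdD
  replace hdx : z * d * z⁻¹ = x := hdx
  have hx2 : x * x = 1 := by
    rw [← hdx, show z * d * z⁻¹ * (z * d * z⁻¹) = z * (d * d) * z⁻¹ by group, csq d hdZ.1]
    group
  -- the centraliser in `W` of an involution outside `C`
  have hQfacts : ∀ y ∈ (W : Subgroup X), y ∉ C → y * y = 1 →
      let Q := (W : Subgroup X) ⊓ centralizer ({y} : Set X)
      Nat.card ↥Q = 8 ∧ (∀ q ∈ Q, q * q = 1) ∧ (∀ q ∈ Q, ∀ r ∈ Q, q * r = r * q) ∧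
        (W : Subgroup X) ≤ normalizer (Q : Set X) := by
    intro y hy hyC hy2 Q
    have hpart : ∀ q ∈ Q, q ∈ Z ∨ ∃ w ∈ Z, q = y * w := by
      intro q hq
      have hqy : q * y = y * q := mem_centralizer_singleton_iff.1 hq.2
      by_cases hqC : q ∈ C
      · left; rw [← hZs y hy hyC]; exact ⟨hqC, hq.2⟩
      · right
        refine ⟨y⁻¹ * q, ?_, by group⟩
        rw [← hZs y hy hyC]
        refine ⟨show y⁻¹ * q ∈ C by rw [hmul _ (inv_mem hy) _ hq.1, inv_mem_iff]; exact iff_of_false hyC hqC,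
          mem_centralizer_singleton_iff.2 ?_⟩
        rw [mul_assoc, hqy]; group
    refine ⟨?_, fun q hq => ?_, fun q hq r hr => ?_, ?_⟩
    · have h1 : C.relIndex Q = 2 := by
        have h2 : C.relIndex Q ≤ 2 := hrel ▸ Subgroup.relIndex_le_of_le_right inf_le_left (by omega)
        have h0 : C.relIndex Q ≠ 0 := Subgroup.index_ne_zero_of_finite
        have hne : C.relIndex Q ≠ 1 := fun e =>
          hyC (Subgroup.relIndex_eq_one.1 e ⟨hy, mem_centralizer_singleton_iff.2 rfl⟩)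
        omega
      have h3 : C.relIndex Q * Nat.card ↥(C ⊓ Q : Subgroup X) = Nat.card ↥Q := by
        have := Subgroup.relIndex_mul_relIndex ⊥ (C ⊓ Q) Q bot_le inf_le_right
        rw [relIndex_bot_left, relIndex_bot_left, inf_relIndex_right] at this
        rw [mul_comm]; exact this
      have h4 : C ⊓ Q = Z := by
        rw [← hZs y hy hyC]
        exact le_antisymm (fun q hq => ⟨hq.1, hq.2.2⟩) (fun q hq => ⟨hq.1, hCW hq.1, hq.2⟩)
      rw [h4, h1, hZ4] at h3
      omega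
    · rcases hpart q hq with h | ⟨w, hw, rfl⟩
      · exact csq q h.1
      · rw [show y * w * (y * w) = y * (w * y) * w by group, ← zc w hw y hy,
          show y * (y * w) * w = (y * y) * (w * w) by group, hy2, csq w hw.1, one_mul]
    · rcases hpart q hq with h | ⟨w, hw, rfl⟩
      · exact (zc q h r hr.1).symm
      · have hry : r * y = y * r := mem_centralizer_singleton_iff.1 hr.2
        rw [mul_assoc, ← zc w hw r hr.1, ← mul_assoc, ← hry, mul_assoc]
    · intro t ht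
      refine norm_mem Q fun q hq => ?_
      refine ⟨(W : Subgroup X).mul_mem ((W : Subgroup X).mul_mem ht hq.1) ((W : Subgroup X).inv_mem ht),
        mem_centralizer_singleton_iff.2 ?_⟩
      have hw : ⁅t, y⁆ ∈ Z := hD (commutator_mem_commutator ht hy)
      have hty : t * y * t⁻¹ = ⁅t, y⁆ * y := by rw [commutatorElement_def]; group
      have hqy : q * y = y * q := mem_centralizer_singleton_iff.1 hq.2
      have h1 : t * q * t⁻¹ * (⁅t, y⁆ * y) = ⁅t, y⁆ * y * (t * q * t⁻¹) := by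
        rw [← hty, show t * q * t⁻¹ * (t * y * t⁻¹) = t * (q * y) * t⁻¹ by group, hqy]
        group
      have h2 : t * q * t⁻¹ * ⁅t, y⁆ = ⁅t, y⁆ * (t * q * t⁻¹) :=
        zc _ hw _ (mul_mem (mul_mem ht hq.1) (inv_mem ht))
      rw [← mul_assoc, h2, mul_assoc ⁅t, y⁆, mul_assoc ⁅t, y⁆] at h1
      exact mul_left_cancel h1
  obtain ⟨hQ8, hQ2, hQc, hWQ⟩ := hQfacts x hxW hxC hx2
  set Q := (W : Subgroup X) ⊓ centralizer ({x} : Set X) with hQdef
  have hxQ : x ∈ Q := ⟨hxW, mem_centralizer_singleton_iff.2 rfl⟩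
  have hQp : IsPGroup 2 ↥Q := W.2.to_le inf_le_left
  have hsmall : ∀ P : Subgroup X, IsPGroup 2 ↥P → P ≤ centralizer (Q : Set X) → Nat.card ↥P ≤ 8 := by
    intro P hP hPQ
    obtain ⟨k, hk, hkP⟩ := conj_into_sylow W hWQ
      (hPQ.trans (centralizer_le_normalizer (Q : Set X))) hP
    have hle' : P.map (MulAut.conj k).toMonoidHom ≤ Q := by
      rintro _ ⟨p, hp, rfl⟩
      refine ⟨hkP p hp, mem_centralizer_singleton_iff.2 ?_⟩
      have hxk : k⁻¹ * x * k ∈ Q := by
        have := (mem_normalizer_iff.1 (inv_mem hk) x).1 hxQ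
        simpa using this
      have h1 := mem_centralizer_iff.1 (hPQ hp) _ hxk
      show k * p * k⁻¹ * x = x * (k * p * k⁻¹)
      calc k * p * k⁻¹ * x = k * (p * (k⁻¹ * x * k)) * k⁻¹ := by group
        _ = k * (k⁻¹ * x * k * p) * k⁻¹ := by rw [h1]
        _ = x * (k * p * k⁻¹) := by group
    have := Subgroup.card_le_of_le hle'
    rwa [Subgroup.card_map_of_injective (MulAut.conj k).injective, hQ8] at this
  -- move `x` onto `d`, and `Q` into `W`
  have hdx' : z⁻¹ * x * (z⁻¹)⁻¹ = d := by rw [← hdx]; group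
  have hWd : (W : Subgroup X) ≤ centralizer ({d} : Set X) := fun t ht =>
    mem_centralizer_singleton_iff.2 (zc d hdZ t ht)
  obtain ⟨k, hk, hkQ⟩ := conj_into_sylow W hWd (P := Q.map (MulAut.conj z⁻¹).toMonoidHom) (by
    rintro _ ⟨q, hq, rfl⟩
    refine mem_centralizer_singleton_iff.2 ?_
    show z⁻¹ * q * (z⁻¹)⁻¹ * d = d * (z⁻¹ * q * (z⁻¹)⁻¹)
    rw [← hdx', show z⁻¹ * q * (z⁻¹)⁻¹ * (z⁻¹ * x * (z⁻¹)⁻¹) = z⁻¹ * (q * x) * (z⁻¹)⁻¹ by group,
      hQc q hq x hxQ]
    group) (hQp.map _)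
  set h := k * z⁻¹ with hhdef
  have hhQ : ∀ q ∈ Q, h * q * h⁻¹ ∈ (W : Subgroup X) := fun q hq => by
    have := hkQ _ ⟨q, hq, rfl⟩
    rw [show h * q * h⁻¹ = k * (z⁻¹ * q * (z⁻¹)⁻¹) * k⁻¹ by rw [hhdef]; group]
    exact this
  have hhx : h * x * h⁻¹ = d := by
    rw [show h * x * h⁻¹ = k * (z⁻¹ * x * (z⁻¹)⁻¹) * k⁻¹ by rw [hhdef]; group, hdx',
      mem_centralizer_singleton_iff.1 hk, mul_inv_cancel_right]
  obtain ⟨q, hq, hqC⟩ : ∃ q ∈ Q, h * q * h⁻¹ ∉ C := by
    by_contra hall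
    push_neg at hall
    have h1 := hsmall (C.map (MulAut.conj h⁻¹).toMonoidHom) ((W.2.to_le hCW).map _) (by
      rintro _ ⟨c, hc, rfl⟩
      refine mem_centralizer_iff.2 fun r hr => ?_
      show r * (h⁻¹ * c * (h⁻¹)⁻¹) = h⁻¹ * c * (h⁻¹)⁻¹ * r
      calc r * (h⁻¹ * c * (h⁻¹)⁻¹) = h⁻¹ * ((h * r * h⁻¹) * c) * h := by group
        _ = h⁻¹ * (c * (h * r * h⁻¹)) * h := by rw [ccm _ (hall r hr) c hc]
        _ = h⁻¹ * c * (h⁻¹)⁻¹ * r := by group)
    rw [Subgroup.card_map_of_injective (MulAut.conj h⁻¹).injective, hC] at h1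
    omega
  obtain ⟨hQ'8, -, -, hWQ'⟩ := hQfacts _ (hhQ q hq) hqC (by
    rw [show h * q * h⁻¹ * (h * q * h⁻¹) = h * (q * q) * h⁻¹ by group, hQ2 q hq]; group)
  set Q' := (W : Subgroup X) ⊓ centralizer ({h * q * h⁻¹} : Set X) with hQ'def
  have hQQ' : Q.map (MulAut.conj h).toMonoidHom = Q' := by
    refine Subgroup.eq_of_le_of_card_ge ?_ ?_
    · rintro _ ⟨r, hr, rfl⟩
      refine ⟨hhQ r hr, mem_centralizer_singleton_iff.2 ?_⟩
      show h * r * h⁻¹ * (h * q * h⁻¹) = h * q * h⁻¹ * (h * r * h⁻¹)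
      calc h * r * h⁻¹ * (h * q * h⁻¹) = h * (r * q) * h⁻¹ := by group
        _ = h * (q * r) * h⁻¹ := by rw [hQc r hr q hq]
        _ = h * q * h⁻¹ * (h * r * h⁻¹) := by group
    · rw [Subgroup.card_map_of_injective (MulAut.conj h).injective, hQ8, hQ'8]
  obtain ⟨k', hk', hk'W⟩ := conj_into_sylow W hWQ'
    (P := (W : Subgroup X).map (MulAut.conj h).toMonoidHom) (by
      rw [← hQQ']
      rintro _ ⟨t, ht, rfl⟩
      refine norm_mem _ ?_
      rintro _ ⟨r, hr, rfl⟩
      refine ⟨t * r * t⁻¹, (mem_normalizer_iff.1 (hWQ ht) r).1 hr, ?_⟩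
      show h * (t * r * t⁻¹) * h⁻¹ = h * t * h⁻¹ * (h * r * h⁻¹) * (h * t * h⁻¹)⁻¹
      group) (W.2.map _)
  set n := k' * h with hndef
  have hn : n ∈ normalizer ((W : Subgroup X) : Set X) := norm_mem _ fun t ht => by
    have := hk'W _ ⟨t, ht, rfl⟩
    rw [show n * t * n⁻¹ = k' * (h * t * h⁻¹) * k'⁻¹ by rw [hndef]; group]
    exact this
  set u := n⁻¹ * h with hudef
  have hu : u ∈ normalizer (Q : Set X) := by
    refine norm_mem _ fun r hr => ?_
    have h1 : h * r * h⁻¹ ∈ Q' := hQQ' ▸ ⟨r, hr, rfl⟩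
    have h2 : k'⁻¹ * (h * r * h⁻¹) * k'⁻¹⁻¹ ∈ Q' := (mem_normalizer_iff.1 (inv_mem hk') _).1 h1
    rw [← hQQ'] at h2
    obtain ⟨r', hr', he⟩ := h2
    replace he : h * r' * h⁻¹ = k'⁻¹ * (h * r * h⁻¹) * k'⁻¹⁻¹ := he
    rw [show u * r * u⁻¹ = h⁻¹ * (k'⁻¹ * (h * r * h⁻¹) * k'⁻¹⁻¹) * h by rw [hudef, hndef]; group, ← he]
    rw [show h⁻¹ * (h * r' * h⁻¹) * h = r' by group]
    exact hr'
  have hux : u * x * u⁻¹ ∈ Z := by
    rw [show u * x * u⁻¹ = n⁻¹ * (h * x * h⁻¹) * n⁻¹⁻¹ by rw [hudef]; group, hhx]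
    exact hNZ _ (inv_mem hn) d hdZ
  -- the elements of the normaliser of `Q` fix `Z`
  set N := normalizer (Q : Set X) with hNdef
  have hZQ : Z ≤ Q := fun w hw => ⟨hCW hw.1, mem_centralizer_singleton_iff.2 (zc w hw x hxW).symm⟩
  set φ : ↥N →* MulAut ↥Q := Subgroup.normalizerMonoidHom Q with hφdef
  have hφ : ∀ (g : ↥N) (r : ↥Q), ((φ g r : ↥Q) : X) = (g : X) * r * (g : X)⁻¹ := fun _ _ => rfl
  -- fixed points of the image of an element of `W`
  have haxis : ∀ g : ↥N, (g : X) ∈ (W : Subgroup X) → φ g ≠ 1 → ∀ r : ↥Q,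
      (φ g r = r ↔ (r : X) ∈ Z) := by
    intro g hg hg1 r
    rw [Subtype.ext_iff, hφ]
    have hfix' : ∀ w ∈ Z, (g : X) * w * (g : X)⁻¹ = w := fun w hw => by
      rw [zc w hw _ hg, mul_inv_cancel_right]
    refine ⟨fun he => ?_, fun hr => hfix' _ hr⟩
    by_contra hrZ
    have hrC : (r : X) ∉ C := fun hc => hrZ (by
      rw [← hZs x hxW hxC]; exact ⟨hc, r.2.2⟩)
    have hgQ : ∀ w ∈ Q, (g : X) * w * (g : X)⁻¹ = w := by
      intro w hw
      have hwc : w ∈ C ∨ (r : X)⁻¹ * w ∈ C := by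
        by_cases h : w ∈ C
        · exact Or.inl h
        · right; rw [hmul _ (inv_mem (show (r : X) ∈ (W : Subgroup X) from r.2.1)) _ hw.1, inv_mem_iff]; exact iff_of_false hrC h
      rcases hwc with h | h
      · exact hfix' w (by rw [← hZs x hxW hxC]; exact ⟨h, hw.2⟩)
      · have hwZ : (r : X)⁻¹ * w ∈ Z := by
          rw [← hZs x hxW hxC]; exact ⟨h, (centralizer ({x} : Set X)).mul_mem ((centralizer ({x} : Set X)).inv_mem r.2.2) hw.2⟩
        calc (g : X) * w * (g : X)⁻¹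
            = ((g : X) * r * (g : X)⁻¹) * ((g : X) * ((r : X)⁻¹ * w) * (g : X)⁻¹) := by group
          _ = r * ((r : X)⁻¹ * w) := by rw [he, hfix' _ hwZ]
          _ = w := by group
    exact hg1 (MulEquiv.ext fun w => Subtype.ext (hgQ w w.2))
  -- commuting involutions of the image have the same fixed points
  have hsame : ∀ g g' : ↥N, φ g ≠ 1 → φ g' ≠ 1 → φ g * φ g' = φ g' * φ g → φ g * φ g = 1 →
      φ g' * φ g' = 1 → ∀ r : ↥Q, φ g r = r → φ g' r = r := by
    intro g g' hg hg' hcomm hgg hgg' r hr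
    set ρ := φ.rangeRestrict with hρ
    set a : ↥φ.range := ρ g with hadef
    set b : ↥φ.range := ρ g' with hbdef
    have hc : Commute a b := Subtype.ext hcomm
    set P : Subgroup ↥φ.range := Subgroup.closure {a, b} with hPdef
    have hPsq : ∀ p ∈ P, p * p = 1 := by
      intro p hp
      haveI : IsMulCommutative ↥P := Subgroup.isMulCommutative_closure (by
        rintro v (rfl | rfl) w (rfl | rfl)
        · rfl
        · exact hc
        · exact hc.symm
        · rfl)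
      induction hp using Subgroup.closure_induction with
      | mem v hv =>
        rcases hv with rfl | rfl
        · exact Subtype.ext hgg
        · exact Subtype.ext hgg'
      | one => simp
      | mul v w hv hw h1 h2 =>
        have hvw : w * v = v * w :=
          congrArg Subtype.val (IsMulCommutative.is_comm.comm (⟨w, hw⟩ : ↥P) ⟨v, hv⟩)
        rw [show v * w * (v * w) = v * (w * v) * w by group, hvw,
          show v * (v * w) * w = (v * v) * (w * w) by group, h1, h2, one_mul]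
      | inv v _ h1 => rw [show v⁻¹ * v⁻¹ = (v * v)⁻¹ by group, h1, inv_one]
    have hP2 : IsPGroup 2 ↥P := fun p => ⟨1, Subtype.ext (by simpa [pow_two] using hPsq p p.2)⟩
    set WN : Sylow 2 ↥N := W.subtype hWQ with hWN
    set Wr : Sylow 2 ↥φ.range := WN.mapSurjective φ.rangeRestrict_surjective with hWr
    obtain ⟨P', hP'⟩ := hP2.exists_le_sylow
    obtain ⟨m, hm⟩ := MulAction.exists_smul_eq ↥φ.range P' Wr
    obtain ⟨m', rfl⟩ := φ.rangeRestrict_surjective m
    have hto : ∀ e ∈ P, ∃ w : ↥N, (w : X) ∈ (W : Subgroup X) ∧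
        φ w = φ m' * (e : MulAut ↥Q) * (φ m')⁻¹ := by
      intro e he
      have h1 : MulAut.conj (ρ m') e ∈ ((ρ m' • P' : Sylow 2 ↥φ.range) : Subgroup ↥φ.range) := by
        rw [Sylow.coe_subgroup_smul]
        exact Subgroup.smul_mem_pointwise_smul _ _ _ (hP' he)
      rw [hm] at h1
      obtain ⟨w, hw, hwe⟩ := h1
      exact ⟨w, hw, congrArg Subtype.val hwe⟩
    obtain ⟨w, hw, hwe⟩ := hto a (subset_closure (Or.inl rfl))
    obtain ⟨w', hw', hwe'⟩ := hto b (subset_closure (Or.inr rfl))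
    replace hwe : φ w = φ m' * φ g * (φ m')⁻¹ := hwe
    replace hwe' : φ w' = φ m' * φ g' * (φ m')⁻¹ := hwe'
    have hw1 : φ w ≠ 1 := fun e => hg (by rw [hwe, conj_eq_one_iff] at e; exact e)
    have hw1' : φ w' ≠ 1 := fun e => hg' (by rw [hwe', conj_eq_one_iff] at e; exact e)
    have h2 : φ w (φ m' r) = φ m' r := by
      rw [hwe]; simp [hr]
    have h3 := (haxis w' hw' hw1' _).2 ((haxis w hw hw1 _).1 h2)
    rw [hwe'] at h3
    simpa using h3
  -- the two transvections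
  set Z' := Z.map (MulAut.conj u).toMonoidHom with hZ'
  have hZ'Q : Z' ≤ Q := by
    rintro _ ⟨w, hw, rfl⟩
    exact (mem_normalizer_iff.1 hu w).1 (hZQ hw)
  have hZ'card : Nat.card ↥Z' = 4 := by
    rw [hZ', Subgroup.card_map_of_injective (MulAut.conj u).injective, hZ4]
  obtain ⟨e, he, he1⟩ : ∃ e ∈ Z ⊓ Z', e ≠ 1 := by
    by_contra hall
    push_neg at hall
    haveI : IsMulCommutative ↥Q := ⟨⟨fun a b => Subtype.ext (hQc a a.2 b b.2)⟩⟩
    have hinj : Function.Injective fun p : ↥Z × ↥Z' =>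
        (⟨(p.1 : X) * p.2, mul_mem (hZQ p.1.2) (hZ'Q p.2.2)⟩ : ↥Q) := by
      rintro ⟨⟨a, ha⟩, ⟨b, hb⟩⟩ ⟨⟨a', ha'⟩, ⟨b', hb'⟩⟩ h0
      have h1 : a * b = a' * b' := congrArg Subtype.val h0
      have h2 : a'⁻¹ * a = b' * b⁻¹ := by
        calc a'⁻¹ * a = a'⁻¹ * (a * b) * b⁻¹ := by group
          _ = a'⁻¹ * (a' * b') * b⁻¹ := by rw [h1]
          _ = b' * b⁻¹ := by group
      have h3 := hall (a'⁻¹ * a) ⟨Z.mul_mem (Z.inv_mem ha') ha, h2 ▸ Z'.mul_mem hb' (Z'.inv_mem hb)⟩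
      have haa : a = a' := (inv_mul_eq_one.1 h3).symm
      subst haa
      simp only [mul_left_cancel_iff] at h1
      subst h1
      rfl
    have := Nat.card_le_card_of_injective _ hinj
    rw [Nat.card_prod, hZ4, hZ'card, hQ8] at this
    omega
  obtain ⟨heZ, w₀, hw₀, hw₀e⟩ := he
  replace hw₀e : u * w₀ * u⁻¹ = e := hw₀e
  obtain ⟨c, hc, hce⟩ := hsurj x hxW hxC e heZ
  obtain ⟨c', hc', hce'⟩ := hsurj x hxW hxC w₀ hw₀
  -- `c` maps `x` to `x e`
  have htx : ∀ a ∈ C, ∀ w, a * (x * a * x⁻¹) = w → a * x * a⁻¹ = w * x := fun a ha w hw => by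
    rw [cinv a ha, ← hw]; group
  set g : ↥N := ⟨c, hWQ (hCW hc)⟩ with hgdef
  set g₀ : ↥N := ⟨c', hWQ (hCW hc')⟩ with hg₀def
  set uN : ↥N := ⟨u, hu⟩ with huNdef
  set g' : ↥N := uN * g₀ * uN⁻¹ with hg'def
  have hne : ∀ (a : ↥N) (w : X), w ≠ 1 → (a : X) * x * (a : X)⁻¹ = w * x → φ a ≠ 1 := by
    intro a w hw hax e0
    have h1 : (a : X) * x * (a : X)⁻¹ = x := by
      have := hφ a ⟨x, hxQ⟩
      rw [e0] at this
      exact this.symm
    exact hw (mul_eq_right.1 (hax.symm.trans h1))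
  have hw₀1 : w₀ ≠ 1 := fun h0 => he1 (by rw [← hw₀e, h0]; group)
  have hg1 : φ g ≠ 1 := hne g e he1 (htx c hc e hce)
  have hg₀1 : φ g₀ ≠ 1 := hne g₀ w₀ hw₀1 (htx c' hc' w₀ hce')
  have hg'1 : φ g' ≠ 1 := by
    rw [hg'def, map_mul, map_mul, map_inv]
    exact fun e0 => hg₀1 (conj_eq_one_iff.1 e0)
  have hsq : ∀ a : ↥N, (a : X) ∈ C → φ a * φ a = 1 := fun a ha => by
    rw [← map_mul, show a * a = 1 from Subtype.ext (csq _ ha), map_one]
  -- effect of a transvection
  have hval : ∀ (a : X) (w : X), a ∈ C → a * x * a⁻¹ = w * x → ∀ r ∈ Q,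
      a * r * a⁻¹ = r ∨ a * r * a⁻¹ = w * r := by
    intro a w ha hax r hr
    by_cases hrC : r ∈ C
    · left; rw [ccm a ha r hrC, mul_inv_cancel_right]
    · right
      have hrx : x⁻¹ * r ∈ C := by
        rw [hmul _ (inv_mem hxW) _ hr.1, inv_mem_iff]; exact iff_of_false hxC hrC
      calc a * r * a⁻¹ = (a * x * a⁻¹) * (a * (x⁻¹ * r) * a⁻¹) := by group
        _ = (w * x) * (x⁻¹ * r) := by rw [hax, ccm a ha _ hrx, mul_inv_cancel_right]
        _ = w * r := by group
  have hvg : ∀ r : ↥Q, ((φ g r : ↥Q) : X) = r ∨ ((φ g r : ↥Q) : X) = e * r := fun r =>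
    hval c e hc (htx c hc e hce) r r.2
  have hvg' : ∀ r : ↥Q, ((φ g' r : ↥Q) : X) = r ∨ ((φ g' r : ↥Q) : X) = e * r := by
    intro r
    have h0 : ((φ g' r : ↥Q) : X) = u * (c' * (u⁻¹ * r * u) * c'⁻¹) * u⁻¹ := by
      rw [hφ]; simp [hg'def, hg₀def, huNdef, mul_assoc]
    have hru : u⁻¹ * (r : X) * u ∈ Q := by
      have := (mem_normalizer_iff.1 (inv_mem hu) (r : X)).1 r.2
      simpa using this
    rcases hval c' w₀ hc' (htx c' hc' w₀ hce') _ hru with h1 | h1
    · left; rw [h0, h1]; group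
    · right; rw [h0, h1, ← hw₀e]; group
  have heQ : e ∈ Q := hZQ heZ
  have hfe : φ g ⟨e, heQ⟩ = ⟨e, heQ⟩ :=
    Subtype.ext (by rw [hφ]; exact (by rw [ccm c hc e heZ.1, mul_inv_cancel_right] : c * e * c⁻¹ = e))
  have hfe' : φ g' ⟨e, heQ⟩ = ⟨e, heQ⟩ := by
    rcases hvg' ⟨e, heQ⟩ with h1 | h1
    · exact Subtype.ext h1
    · exfalso
      rw [show e * e = 1 from csq e heZ.1] at h1
      exact he1 (congrArg Subtype.val ((φ g').injective ((Subtype.ext h1 : φ g' ⟨e, heQ⟩ = 1).trans (map_one _).symm)))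
  have hcomm : φ g * φ g' = φ g' * φ g := by
    refine MulEquiv.ext fun r => ?_
    show φ g (φ g' r) = φ g' (φ g r)
    set E : ↥Q := ⟨e, heQ⟩ with hE
    have hEc : ∀ s : ↥Q, ∀ t : MulAut ↥Q, t E = E → t (E * s) = E * t s := fun s t ht => by
      rw [map_mul, ht]
    rcases hvg r with h1 | h1 <;> rcases hvg' r with h2 | h2
    · rw [show φ g' r = r from Subtype.ext h2, show φ g r = r from Subtype.ext h1,
        show φ g' r = r from Subtype.ext h2]
    · rw [show φ g' r = E * r from Subtype.ext h2, hEc _ _ hfe, show φ g r = r from Subtype.ext h1,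
        show φ g' r = E * r from Subtype.ext h2]
    · rw [show φ g' r = r from Subtype.ext h2, show φ g r = E * r from Subtype.ext h1, hEc _ _ hfe',
        show φ g' r = r from Subtype.ext h2]
    · rw [show φ g' r = E * r from Subtype.ext h2, hEc _ _ hfe, show φ g r = E * r from Subtype.ext h1,
        hEc _ _ hfe', show φ g' r = E * r from Subtype.ext h2]
  have hgg' : φ g' * φ g' = 1 := by
    rw [hg'def, map_mul, map_mul, map_inv,
      show φ uN * φ g₀ * (φ uN)⁻¹ * (φ uN * φ g₀ * (φ uN)⁻¹) = φ uN * (φ g₀ * φ g₀) * (φ uN)⁻¹ by group,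
      hsq g₀ hc']
    group
  -- `g'` fixes `Z`; but it moves `u x u⁻¹`
  have hxu : (⟨u * x * u⁻¹, hZQ hux⟩ : ↥Q) = φ uN ⟨x, hxQ⟩ := Subtype.ext (hφ uN ⟨x, hxQ⟩).symm
  have hfixu : φ g ⟨u * x * u⁻¹, hZQ hux⟩ = ⟨u * x * u⁻¹, hZQ hux⟩ :=
    Subtype.ext (by rw [hφ]; show c * (u * x * u⁻¹) * c⁻¹ = u * x * u⁻¹
                    rw [ccm c hc _ hux.1, mul_inv_cancel_right])
  have h1 := hsame g g' hg1 hg'1 hcomm (hsq g hc) hgg' _ hfixu
  rw [hxu, hg'def, map_mul, map_mul, map_inv] at h1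
  simp only [MulAut.mul_apply, MulAut.inv_apply_self, EmbeddingLike.apply_eq_iff_eq] at h1
  have h2 : c' * x * c'⁻¹ = x := by
    have := congrArg Subtype.val h1
    rwa [hφ] at this
  exact hw₀1 (mul_eq_right.1 ((htx c' hc' w₀ hce').symm.trans h2))

end Cfsg.Agent.Goldschmidt.General.Corner
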